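import Cfsg.Agent.Lib.G23Two.Local
import Cfsg.Prelude.Def_Solvable
import Cfsg.Prelude.Def_Transfer

/-!
The involution centraliser is described by the tables.
-/

set_option autoImplicit false

namespace CfsgG23Two

variable {G : Type*} [Group G] [Finite G]

/-- The element set of two commuting copies. -/
def hasSubgroup (g1 g2 : ℕ → G) {H : Subgroup G} {z : G} (P : Pair H g1 g2 z) : Subgroup G where
  carrier := {x | Has g1 g2 x}
  one_mem' := ⟨0, by norm_num, 0, by norm_num, by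
    have h1 := P.m1 0 (by norm_num) 0 (by norm_num)
    have h2 := P.m2 0 (by norm_num) 0 (by norm_num)
    rw [(sl_neg 0 (by norm_num)).2.2.2.2.2.1] at h1 h2
    rw [left_eq_mul.1 h1, left_eq_mul.1 h2, one_mul]⟩
  mul_mem' := by
    rintro _ _ ⟨a, ha, b, hb, rfl⟩ ⟨a', ha', b', hb', rfl⟩
    refine ⟨_, sl_lt a ha a' ha', _, sl_lt b hb b' hb', ?_⟩
    rw [P.m1 a ha a' ha', P.m2 b hb b' hb', mul_assoc, mul_assoc, ← mul_assoc (g2 b),
      ← (P.comm a' ha' b hb).eq, mul_assoc]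
  inv_mem' := by
    rintro _ ⟨a, ha, b, hb, rfl⟩
    refine ⟨_, (sl_neg a ha).2.2.1, _, (sl_neg b hb).2.2.1, ?_⟩
    have h1 := P.m1 0 (by norm_num) 0 (by norm_num)
    have h2 := P.m2 0 (by norm_num) 0 (by norm_num)
    rw [(sl_neg 0 (by norm_num)).2.2.2.2.2.1] at h1 h2
    have i1 : g1 (slInv a) = (g1 a)⁻¹ := by
      rw [eq_inv_iff_mul_eq_one, ← P.m1 _ (sl_neg a ha).2.2.1 _ ha, (sl_neg a ha).2.2.2.2.1]; exact left_eq_mul.1 h1
    have i2 : g2 (slInv b) = (g2 b)⁻¹ := by
      rw [eq_inv_iff_mul_eq_one, ← P.m2 _ (sl_neg b hb).2.2.1 _ hb, (sl_neg b hb).2.2.2.2.1]; exact left_eq_mul.1 h2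
    rw [i1, i2, mul_inv_rev]
    exact ((P.comm a ha b hb).inv_inv).eq

/-- The hypotheses in coordinates. -/
theorem exists_hdata (H H₁ H₂ : Subgroup G) (h1 : H₁ ≤ H) (h2 : H₂ ≤ H)
    (hn1 : (H₁.subgroupOf H).Normal) (hn2 : (H₂.subgroupOf H).Normal)
    (hiso1 : Nonempty (↥H₁ ≃* Matrix.SpecialLinearGroup (Fin 2) (ZMod 3)))
    (hiso2 : Nonempty (↥H₂ ≃* Matrix.SpecialLinearGroup (Fin 2) (ZMod 3)))
    (hidx : (H₁ ⊔ H₂).relIndex H = 2)
    (hint1 : H₁ ⊓ H₂ = H₁ ⊓ Subgroup.centralizer (H₁ : Set G))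
    (hint2 : H₁ ⊓ H₂ = H₂ ⊓ Subgroup.centralizer (H₂ : Set G))
    (hHC : H = Subgroup.centralizer ((H₁ ⊓ H₂ : Subgroup G) : Set G)) :
    ∃ g1 g2 z, Coord H₁ g1 ∧ Coord H₂ g2 ∧ z ∈ H₁ ⊓ H₂ ∧ HData H (H₁ ⊔ H₂) g1 g2 z := by
  obtain ⟨e1⟩ := hiso1
  obtain ⟨e2⟩ := hiso2
  obtain ⟨g1, c1⟩ := exists_coord e1
  obtain ⟨g2, c2⟩ := exists_coord e2
  have hz1 : ∀ x, x ∈ H₁ ⊓ H₂ ↔ x = 1 ∨ x = g1 12 := fun x => by rw [hint1]; exact centre_of_coord c1
  have h12 : g1 12 = g2 12 := by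
    have hm : g1 12 ∈ H₁ ⊓ H₂ := (hz1 _).2 (Or.inr rfl)
    rw [hint2] at hm
    refine ((centre_of_coord c2).1 hm).resolve_left fun h => ?_
    have := c1.inj 12 (by norm_num) 0 (by norm_num) (by rw [h, c1.zero])
    omega
  have hcomm := commute_of_coord c1 c2 h1 h2 hn1 hn2 hz1 h12
  have hH : H = Subgroup.centralizer ({g1 12} : Set G) := by
    rw [hHC]
    ext x
    rw [Subgroup.mem_centralizer_singleton_iff, Subgroup.mem_centralizer_iff]
    constructor
    · intro hx; exact (hx _ ((hz1 _).2 (Or.inr rfl))).symm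
    · intro hx y hy
      rcases (hz1 y).1 hy with rfl | rfl
      · rw [one_mul, mul_one]
      · exact hx.symm
  have P : Pair H g1 g2 (g1 12) :=
    { m1 := c1.mul, m2 := c2.mul, i1 := c1.inj, i2 := c2.inj, z1 := rfl, z2 := h12.symm, comm := hcomm
      meet := fun a ha b hb h => by
        have hm : g1 a ∈ H₁ ⊓ H₂ := Subgroup.mem_inf.2 ⟨c1.mem a ha, h ▸ c2.mem b hb⟩
        rcases (hz1 _).1 hm with e | e
        · exact Or.inl (c1.inj a ha 0 (by norm_num) (by rw [e, c1.zero]))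
        · exact Or.inr (c1.inj a ha 12 (by norm_num) e)
      hH := hH }
  have hsup : H₁ ⊔ H₂ = hasSubgroup g1 g2 P := by
    refine le_antisymm (sup_le (fun x hx => ?_) (fun x hx => ?_)) ?_
    · obtain ⟨a, ha, rfl⟩ := c1.surj x hx
      exact ⟨a, ha, 0, by norm_num, by rw [c2.zero, mul_one]⟩
    · obtain ⟨b, hb, rfl⟩ := c2.surj x hx
      exact ⟨0, by norm_num, b, hb, by rw [c1.zero, one_mul]⟩
    · rintro _ ⟨a, ha, b, hb, rfl⟩
      exact mul_mem (Subgroup.mem_sup_left (c1.mem a ha)) (Subgroup.mem_sup_right (c2.mem b hb))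
  have hnorm : ∀ (K : Subgroup G) (g : ℕ → G), Coord K g → K ≤ H → (K.subgroupOf H).Normal →
      ∀ h ∈ H, ∀ a < 24, ∃ a' < 24, h * g a * h⁻¹ = g a' := fun K g c hK hn h hh a ha => by
    obtain ⟨a', ha', e⟩ := c.surj (h * g a * h⁻¹) (Subgroup.mem_subgroupOf.1
      (hn.conj_mem ⟨g a, hK (c.mem a ha)⟩ (Subgroup.mem_subgroupOf.2 (c.mem a ha)) ⟨h, hh⟩))
    exact ⟨a', ha', e.symm⟩
  have hcard : Nat.card (H₁ ⊔ H₂ : Subgroup G) = 288 := by
    rw [hsup]
    have z24 : ∀ b < 24, g2 ((b + 12) % 24) = g1 12 * g2 b := fun b hb => by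
      rw [← (sl_neg b hb).1, c2.mul 12 (by norm_num) b hb, h12]
    have e : Fin 12 × Fin 24 ≃ hasSubgroup g1 g2 P := Equiv.ofBijective
      (fun p => ⟨g1 p.1.val * g2 p.2.val, p.1.val, by omega, p.2.val, p.2.isLt, rfl⟩) ⟨fun p q h => by
        have h' : g1 p.1.val * g2 p.2.val = g1 q.1.val * g2 q.2.val := congrArg Subtype.val h
        have hm := P.meet (slMul (slInv q.1.val) p.1.val)
          (sl_lt _ (sl_neg _ (by omega)).2.2.1 _ (by omega)) (slMul q.2.val (slInv p.2.val))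
          (sl_lt _ q.2.isLt _ (sl_neg _ p.2.isLt).2.2.1) (by
            rw [c1.mul _ (sl_neg _ (by omega)).2.2.1 _ (by omega), c2.mul _ q.2.isLt _ (sl_neg _ p.2.isLt).2.2.1,
              c1.inv (by omega), c2.inv p.2.isLt, inv_mul_eq_iff_eq_mul, ← mul_assoc, eq_mul_inv_iff_mul_eq, h'])
        have hp : p.1 = q.1 := by
          have chk : ((List.range 12).all fun a => (List.range 12).all fun b =>
              (a == b) || ((slMul (slInv b) a != 0) && (slMul (slInv b) a != 12))) = true := by decide +kernel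
          simp only [List.all_eq_true, List.mem_range, Bool.or_eq_true, Bool.and_eq_true, beq_iff_eq,
            bne_iff_ne] at chk
          rcases chk p.1.val p.1.isLt q.1.val q.1.isLt with e | e
          · exact Fin.ext e
          · exact absurd hm (by tauto)
        refine Prod.ext hp (Fin.ext (c2.inj _ p.2.isLt _ q.2.isLt ?_))
        rw [hp] at h'
        exact mul_left_cancel h', fun x => by
        obtain ⟨a, ha, b, hb, hab⟩ := x.2
        by_cases h : a < 12
        · exact ⟨(⟨a, h⟩, ⟨b, hb⟩), Subtype.ext hab⟩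
        · refine ⟨(⟨a - 12, by omega⟩, ⟨(b + 12) % 24, Nat.mod_lt _ (by norm_num)⟩), Subtype.ext ?_⟩
          show g1 (a - 12) * g2 ((b + 12) % 24) = x.1
          rw [z24 b hb, ← mul_assoc, ← c1.mul _ (by omega) 12 (by norm_num), (sl_neg (a - 12) (by omega)).2.1,
            show (a - 12 + 12) % 24 = a by omega, hab]⟩
    rw [← Nat.card_congr e, Nat.card_prod, Nat.card_fin, Nat.card_fin]
  refine ⟨g1, g2, g1 12, c1, c2, (hz1 _).2 (Or.inr rfl),
    { pair := P, mem := fun x => by rw [hsup]; rfl, le := sup_le h1 h2, card := ?_, card12 := hcard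
      norm1 := hnorm H₁ g1 c1 h1 hn1, norm2 := hnorm H₂ g2 c2 h2 hn2 }⟩
  rw [← Subgroup.card_mul_index ((H₁ ⊔ H₂).subgroupOf H),
    Nat.card_congr (Subgroup.subgroupOfEquivOfLe (sup_le h1 h2)).toEquiv, hcard]
  rw [Subgroup.relIndex] at hidx
  rw [hidx]

/-- The action of the outer involution in suitable coordinates. -/
theorem exists_twist {K : Subgroup G} {g : ℕ → G} (c : Coord K g) {t : G} (ht : t * t = 1)
    (hn : ∀ a < 24, ∃ a' < 24, t * g a * t⁻¹ = g a') (hinv : ∀ u < 24, t * g 6 * t⁻¹ = g u → inQ (slMul u 6) = true) :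
    ∃ d < 24, ∀ a < 24, t * g (slConj d a) * t⁻¹ = g (slConj d (tauOf a)) := by
  choose σ hσ hσe using hn
  obtain ⟨hu, hv⟩ := And.intro (hσ 6 (by norm_num)) (hσ 4 (by norm_num))
  set u := σ 6 (by norm_num)
  set v := σ 4 (by norm_num)
  have hend : ∀ a < 24, endOf u v a < 24 ∧ g (endOf u v a) = t * g a * t⁻¹ := by
    intro a ha
    obtain ⟨l1, l2⟩ := c.eval hu hv (wordOf a) 0 (by norm_num)
    have r2 := (c.eval (u := 6) (v := 4) (by norm_num) (by norm_num) (wordOf a) 0 (by norm_num)).2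
    rw [show (wordOf a).foldl (fun r i => slMul r (if i then 4 else 6)) 0 = a from sl_words a ha] at r2
    refine ⟨l1, l2.trans ?_⟩
    rw [r2, c.zero]
    have main : ∀ w : List Bool, ∀ r : G,
        w.foldl (fun x b => x * (if b then g v else g u)) (t * r * t⁻¹) =
          t * w.foldl (fun x b => x * (if b then g 4 else g 6)) r * t⁻¹ := by
      intro w
      induction w with
      | nil => exact fun r => rfl
      | cons b w ih =>
        intro r
        rw [List.foldl_cons, List.foldl_cons, ← ih]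
        congr 1
        have e6 := hσe 6 (by norm_num)
        have e4 := hσe 4 (by norm_num)
        cases b <;> simp only [Bool.false_eq_true, if_false, if_true]
        · rw [← e6]; group
        · rw [← e4]; group
    have := main (wordOf a) 1
    rwa [mul_one, mul_inv_cancel] at this
  have h3 : ∀ a < 24, ∀ b < 24, endOf u v (slMul a b) = slMul (endOf u v a) (endOf u v b) := fun a ha b hb => by
    refine c.inj _ (hend _ (sl_lt a ha b hb)).1 _ (sl_lt _ (hend a ha).1 _ (hend b hb).1) ?_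
    rw [(hend _ (sl_lt a ha b hb)).2, c.mul _ (hend a ha).1 _ (hend b hb).1, (hend a ha).2, (hend b hb).2,
      c.mul a ha b hb]
    group
  have h4 : ∀ a < 24, endOf u v (endOf u v a) = a := fun a ha => by
    refine c.inj _ (hend _ (hend a ha).1).1 _ ha ?_
    rw [(hend _ (hend a ha).1).2, (hend a ha).2, inv_eq_of_mul_eq_one_right ht]
    calc t * (t * g a * t) * t = t * t * g a * (t * t) := by group
      _ = g a := by rw [ht, one_mul, mul_one]
  have o6 : slMul (slMul u u) u = 0 := by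
    refine c.inj _ (sl_lt _ (sl_lt u hu u hu) u hu) 0 (by norm_num) ?_
    rw [c.mul _ (sl_lt u hu u hu) u hu, c.mul u hu u hu, ← hσe 6 (by norm_num), c.zero]
    calc _ = t * (g 6 * g 6 * g 6) * t⁻¹ := by group
      _ = 1 := by
        rw [← c.mul 6 (by norm_num) 6 (by norm_num), ← c.mul _ (sl_lt 6 (by norm_num) 6 (by norm_num)) 6 (by norm_num),
          sl_gen_order.1, c.zero, mul_one, mul_inv_cancel]
  have o4 : slMul (slMul v v) v = 0 := by
    refine c.inj _ (sl_lt _ (sl_lt v hv v hv) v hv) 0 (by norm_num) ?_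
    rw [c.mul _ (sl_lt v hv v hv) v hv, c.mul v hv v hv, ← hσe 4 (by norm_num), c.zero]
    calc _ = t * (g 4 * g 4 * g 4) * t⁻¹ := by group
      _ = 1 := by
        rw [← c.mul 4 (by norm_num) 4 (by norm_num), ← c.mul _ (sl_lt 4 (by norm_num) 4 (by norm_num)) 4 (by norm_num),
          sl_gen_order.2, c.zero, mul_one, mul_inv_cancel]
  obtain ⟨d, hd, hde⟩ := sl_inner_invert hu hv o6 o4 h3 h4 (hinv u hu (hσe 6 (by norm_num)))
  refine ⟨d, hd, fun a ha => ?_⟩
  have hl : slConj d a < 24 := sl_lt _ (sl_lt d hd a ha) _ (sl_neg d hd).2.2.1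
  rw [← (hend _ hl).2]
  exact congrArg g (hde a ha)

theorem tau_centre : tauOf 12 = 12 ∧ ∀ d < 24, slConj d 12 = 12 := by decide +kernel

theorem zM_eq : zM = 0 + 12 * (12 + 24 * 0) := rfl

/-- The table of the centraliser. -/
theorem emb_of_action {H H12 : Subgroup G} {k1 k2 : ℕ → G} {z t : G} (D : HData H H12 k1 k2 z) (htH : t ∈ H)
    (ht12 : t ∉ H12) (ht : t * t = 1) (hzt : IsConj z t)
    (hQ : ∀ x, HasQ k1 k2 x → x ≠ 1 → x ≠ z → x * x = 1 → IsConj z x)
    (a1 : ∀ a < 24, t * k1 a * t⁻¹ = k1 (tauOf a)) (a2 : ∀ a < 24, t * k2 a * t⁻¹ = k2 (tauOf a)) :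
    Emb (elemOf k1 k2 t) z := by
  have hnorm : ∀ a b s : ℕ, a < 24 → b < 24 → s < 2 →
      elemOf k1 k2 t (normal a b s) = k1 a * k2 b * t ^ s := by
    intro a b s ha hb hs
    unfold normal elemOf
    split_ifs with h
    · rw [show (a + 12 * (b + 24 * s)) % 12 = a by omega, show (a + 12 * (b + 24 * s)) / 12 % 24 = b by omega,
        show (a + 12 * (b + 24 * s)) / 288 = s by omega]
    · rw [show (a - 12 + 12 * ((b + 12) % 24 + 24 * s)) % 12 = a - 12 by omega,
        show (a - 12 + 12 * ((b + 12) % 24 + 24 * s)) / 12 % 24 = (b + 12) % 24 by omega,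
        show (a - 12 + 12 * ((b + 12) % 24 + 24 * s)) / 288 = s by omega,
        ← (sl_neg b hb).1, D.pair.m2 12 (by norm_num) b hb, D.pair.z2, ← mul_assoc (k1 (a - 12)), ← D.pair.z1,
        ← D.pair.m1 _ (by omega) 12 (by norm_num), (sl_neg (a - 12) (by omega)).2.1,
        show (a - 12 + 12) % 24 = a by omega]
  have mul : ∀ x < 576, ∀ y < 576, elemOf k1 k2 t (mulM x y) = elemOf k1 k2 t x * elemOf k1 k2 t y := by
    intro x hx y hy
    have ha : x % 12 < 24 := by omega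
    have hb : x / 12 % 24 < 24 := by omega
    have ha' : y % 12 < 24 := by omega
    have hb' : y / 12 % 24 < 24 := by omega
    rcases (show x / 288 = 0 ∨ x / 288 = 1 by omega) with s | s
    · simp only [mulM, s, if_true, Nat.zero_add]
      rw [hnorm _ _ _ (sl_lt _ ha _ ha') (sl_lt _ hb _ hb') (Nat.mod_lt _ (by norm_num)),
        show y / 288 % 2 = y / 288 by omega, ← D.has_mul ha hb ha' hb']
      simp only [elemOf, s, pow_zero, mul_one, mul_assoc]
    · simp only [mulM, s, Nat.one_ne_zero, if_false]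
      rw [hnorm _ _ _ (sl_lt _ ha _ (tau_lt _ ha')) (sl_lt _ hb _ (tau_lt _ hb')) (Nat.mod_lt _ (by norm_num)),
        ← D.has_mul ha hb (tau_lt _ ha') (tau_lt _ hb'), ← a1 _ ha', ← a2 _ hb']
      simp only [elemOf, s, pow_one, inv_eq_of_mul_eq_one_right ht]
      have htt : ∀ w : G, w * t * t = w := fun w => by rw [mul_assoc, ht, mul_one]
      rcases (show y / 288 = 0 ∨ y / 288 = 1 by omega) with s' | s' <;>
        simp only [s', Nat.reduceAdd, Nat.reduceMod, pow_zero, pow_one, mul_one, ← mul_assoc, htt]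
  have h0 : elemOf k1 k2 t 0 = 1 := by
    simp only [elemOf, Nat.zero_mod, Nat.zero_div, pow_zero, mul_one, D.g1_zero, D.g2_zero]
  have cover : ∀ g ∈ H, ∃ x < 576, elemOf k1 k2 t x = g := by
    intro g hg
    by_cases h : g ∈ H12
    · obtain ⟨a, ha, b, hb, rfl⟩ := (D.mem g).1 h
      exact ⟨normal a b 0, normal_lt ha hb (by norm_num), by rw [hnorm a b 0 ha hb (by norm_num), pow_zero, mul_one]⟩
    · obtain ⟨a, ha, b, hb, hab⟩ := (D.mem _).1 (D.outer_mul hg htH h ht12)
      refine ⟨normal a b 1, normal_lt ha hb (by norm_num), ?_⟩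
      rw [hnorm a b 1 ha hb (by norm_num), hab, pow_one, mul_assoc, ht, mul_one]
  have inH : ∀ x < 576, elemOf k1 k2 t x ∈ H := fun x hx => by
    have hm : k1 (x % 12) * k2 (x / 12 % 24) ∈ H12 := (D.mem _).2 ⟨_, by omega, _, by omega, rfl⟩
    exact mul_mem (D.le hm) (pow_mem htH _)
  have bij : Function.Bijective (fun x : Fin 576 => (⟨elemOf k1 k2 t x.val, inH _ x.isLt⟩ : H)) := by
    refine (Nat.bijective_iff_surjective_and_card _).2 ⟨fun g => ?_, by rw [Nat.card_fin, D.card]⟩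
    obtain ⟨x, hx, e⟩ := cover g.1 g.2
    exact ⟨⟨x, hx⟩, Subtype.ext e⟩
  have inj : ∀ x < 576, ∀ y < 576, elemOf k1 k2 t x = elemOf k1 k2 t y → x = y := fun x hx y hy h =>
    congrArg Fin.val (bij.1 (a₁ := ⟨x, hx⟩) (a₂ := ⟨y, hy⟩) (Subtype.ext h))
  have hz : elemOf k1 k2 t zM = z := by
    simp only [elemOf, zM]
    norm_num
    rw [D.g1_zero, D.pair.z2, one_mul]
  refine ⟨mul, inj, fun g hg => cover g (by
    rw [D.pair.hH]; exact Subgroup.mem_centralizer_singleton_iff.2 hg.eq), hz, fun x hx x1 xx => ?_⟩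
  -- involutions
  have hc := cls_data hx
  obtain ⟨hr, hcr, -, -⟩ := rep_data.1 _ hc.1
  have hw := hc.2.1
  have he : elemOf k1 k2 t (wit x) * elemOf k1 k2 t (repOf (cls x)) * (elemOf k1 k2 t (wit x))⁻¹ =
      elemOf k1 k2 t x := by
    rw [← mul _ hw _ hr, hc.2.2.1, mul _ hx _ hw, mul_inv_cancel_right]
  have hconj : IsConj (elemOf k1 k2 t (repOf (cls x))) (elemOf k1 k2 t x) := isConj_iff.2 ⟨_, he⟩
  refine IsConj.trans ?_ hconj
  set r := repOf (cls x)
  have rr : elemOf k1 k2 t r * elemOf k1 k2 t r = 1 := by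
    have e := xx
    rw [← he, ← pow_two, conj_pow, pow_two, mul_inv_eq_one] at e
    simpa using e
  have r1 : elemOf k1 k2 t r ≠ 1 := fun h => x1 (by rw [← he, h, mul_one, mul_inv_cancel])
  have chk : ((List.range 20).all fun c =>
      (mulM (repOf c) (repOf c) != 0) || (c == 18) || (c == 19) || (c == cls 288) ||
        (decide (repOf c < 288) && inQ (repOf c % 12) && inQ (repOf c / 12))) = true := by decide +kernel
  simp only [List.all_eq_true, List.mem_range, Bool.or_eq_true, Bool.and_eq_true, decide_eq_true_eq, beq_iff_eq,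
    bne_iff_ne] at chk
  have hr0 : mulM r r = 0 := inj _ (mulM_lt hr) 0 (by norm_num) (by rw [mul _ hr _ hr, rr, h0])
  have crep : ∀ y < 576, cls y = cls x → IsConj (elemOf k1 k2 t r) (elemOf k1 k2 t y) := fun y hy e => by
    have hc' := cls_data hy
    refine isConj_iff.2 ⟨elemOf k1 k2 t (wit y), ?_⟩
    rw [← mul _ hc'.2.1 _ hr, show r = repOf (cls y) by rw [e], hc'.2.2.1, mul _ hy _ hc'.2.1, mul_inv_cancel_right]
  rcases chk _ hc.1 with (((h | h) | h) | h) | ⟨⟨hlt, q1⟩, q2⟩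
  · exact absurd hr0 h
  · exfalso
    obtain ⟨g, hg⟩ := isConj_iff.1 (crep 0 (by norm_num) (by rw [rep_data.2.1, h]))
    rw [h0] at hg
    exact r1 (conj_eq_one_iff.1 hg)
  · exact (hz ▸ crep zM (by norm_num [zM]) (by rw [rep_data.2.2.1, h])).symm
  · have h288 : elemOf k1 k2 t 288 = t := by
      simp only [elemOf]
      norm_num
      rw [D.g1_zero, D.g2_zero, one_mul]
    exact hzt.trans (h288 ▸ crep 288 (by norm_num) h.symm).symm
  · by_cases hz' : elemOf k1 k2 t r = z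
    · rw [hz']
    refine hQ _ ⟨r % 12, by omega, r / 12 % 24, by omega, q1, by
      rw [show r / 12 % 24 = r / 12 by omega]; exact q2, ?_⟩ r1 hz' rr
    show k1 (r % 12) * k2 (r / 12 % 24) = elemOf k1 k2 t r
    rw [elemOf, show r / 288 = 0 by omega, pow_zero, mul_one]

/-- The centraliser is described by the tables. -/
theorem exists_emb (H H₁ H₂ M : Subgroup G) (h1 : H₁ ≤ H) (h2 : H₂ ≤ H)
    (hn1 : (H₁.subgroupOf H).Normal) (hn2 : (H₂.subgroupOf H).Normal)
    (hiso1 : Nonempty (↥H₁ ≃* Matrix.SpecialLinearGroup (Fin 2) (ZMod 3)))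
    (hiso2 : Nonempty (↥H₂ ≃* Matrix.SpecialLinearGroup (Fin 2) (ZMod 3)))
    (hidx : (H₁ ⊔ H₂).relIndex H = 2)
    (hint1 : H₁ ⊓ H₂ = H₁ ⊓ Subgroup.centralizer (H₁ : Set G))
    (hint2 : H₁ ⊓ H₂ = H₂ ⊓ Subgroup.centralizer (H₂ : Set G))
    (hHC : H = Subgroup.centralizer ((H₁ ⊓ H₂ : Subgroup G) : Set G))
    [hOM : (Cfsg.pCore 2 ↥M).Normal]
    (hM : Nonempty ((↥M ⧸ Cfsg.pCore 2 ↥M) ≃* Matrix.SpecialLinearGroup (Fin 3) (ZMod 2)))
    (hOel : Cfsg.IsElementaryAbelian 2 (Cfsg.pCore 2 ↥M)) (hOcard : Nat.card ↥(Cfsg.pCore 2 ↥M) = 8)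
    (hZin : H₁ ⊓ H₂ ≤ (Cfsg.pCore 2 ↥M).map M.subtype) :
    ∃ (f : ℕ → G) (z : G), Emb f z := by
  obtain ⟨g1, g2, z, c1, c2, hz, D⟩ := exists_hdata H H₁ H₂ h1 h2 hn1 hn2 hiso1 hiso2 hidx hint1 hint2 hHC
  obtain ⟨e⟩ := hM
  set O := Cfsg.pCore 2 ↥M with hO
  have P : MData z M (O.map M.subtype) (e.toMonoidHom.comp (QuotientGroup.mk' O)) := by
    obtain ⟨hab, hsq⟩ := hOel
    refine
      { surj := e.surjective.comp (QuotientGroup.mk'_surjective O)
        ker := fun m => ?_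
        EM := Subgroup.map_subtype_le O
        cardE := by rw [Subgroup.card_map_of_injective M.subtype_injective, hOcard]
        sqE := ?_
        commE := ?_
        zE := hZin hz }
    · rw [MonoidHom.comp_apply, MulEquiv.coe_toMonoidHom, map_eq_one_iff e e.injective, QuotientGroup.mk'_apply,
        QuotientGroup.eq_one_iff]
      exact (Subgroup.mem_map_iff_mem M.subtype_injective).symm
    · rintro _ ⟨x, hx, rfl⟩
      rw [← map_mul, ← pow_two, hsq x hx, map_one]
    · rintro _ ⟨x, hx, rfl⟩ _ ⟨y, hy, rfl⟩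
      have : (⟨x, hx⟩ : O) * ⟨y, hy⟩ = ⟨y, hy⟩ * ⟨x, hx⟩ := hab.is_comm.comm _ _
      exact Commute.map (congrArg Subtype.val this : Commute x y) M.subtype
  obtain ⟨t, htH, ht12, ht, hzt, hQ, hinv⟩ := D.exists_outer P
  obtain ⟨u6, hu6, eu6⟩ := D.norm1 t htH 6 (by norm_num)
  obtain ⟨v6, hv6, ev6⟩ := D.norm2 t htH 6 (by norm_num)
  obtain ⟨d, hd, hde⟩ := exists_twist c1 ht (fun a ha => D.norm1 t htH a ha)
    (fun u hu eu => (hinv u v6 hu hv6 eu ev6).1)
  obtain ⟨d', hd', hde'⟩ := exists_twist c2 ht (fun a ha => D.norm2 t htH a ha)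
    (fun v hv ev => (hinv u6 v hu6 hv eu6 ev).2)
  set k1 := fun a => g1 (slConj d a)
  set k2 := fun a => g2 (slConj d' a)
  have l1 : ∀ a < 24, slConj d a < 24 := fun a ha => sl_lt _ (sl_lt d hd a ha) _ (sl_neg d hd).2.2.1
  have l2 : ∀ a < 24, slConj d' a < 24 := fun a ha => sl_lt _ (sl_lt d' hd' a ha) _ (sl_neg d' hd').2.2.1
  have z1 : k1 12 = z := by
    show g1 (slConj d 12) = z
    rw [tau_centre.2 d hd, D.pair.z1]
  have z2 : k2 12 = z := by
    show g2 (slConj d' 12) = z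
    rw [tau_centre.2 d' hd', D.pair.z2]
  have back : ∀ (c : ℕ), c < 24 → ∀ a < 24, ∃ a' < 24, slConj c a' = a ∧ (inQ a = true → inQ a' = true) := by
    have chk : ((List.range 24).all fun c => (List.range 24).all fun a => (List.range 24).any fun a' =>
        (slConj c a' == a) && (!(inQ a) || inQ a')) = true := by decide +kernel
    simp only [List.all_eq_true, List.any_eq_true, List.mem_range, Bool.and_eq_true, beq_iff_eq, Bool.or_eq_true,
      Bool.not_eq_true'] at chk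
    intro c hc a ha
    obtain ⟨a', h1, h2, h3⟩ := chk c hc a ha
    exact ⟨a', h1, h2, fun hq => h3.resolve_left (by simp [hq])⟩
  have D' : HData H (H₁ ⊔ H₂) k1 k2 z :=
    { pair :=
        { m1 := (c1.conjugate hd).mul, m2 := (c2.conjugate hd').mul, i1 := (c1.conjugate hd).inj
          i2 := (c2.conjugate hd').inj, z1 := z1, z2 := z2
          comm := fun a ha b hb => D.pair.comm _ (l1 a ha) _ (l2 b hb)
          meet := fun a ha b hb h => by
            rcases D.pair.meet _ (l1 a ha) _ (l2 b hb) h with e | e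
            · exact Or.inl ((c1.conjugate hd).inj a ha 0 (by norm_num) (by
                show g1 (slConj d a) = g1 (slConj d 0)
                rw [e, c1.zero]
                exact ((c1.conjugate hd).zero).symm))
            · exact Or.inr ((c1.conjugate hd).inj a ha 12 (by norm_num) (by
                show g1 (slConj d a) = g1 (slConj d 12)
                rw [e, tau_centre.2 d hd]))
          hH := D.pair.hH }
      mem := fun x => by
        rw [D.mem x]
        constructor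
        · rintro ⟨a, ha, b, hb, rfl⟩
          obtain ⟨a', ha', ea, -⟩ := back d hd a ha
          obtain ⟨b', hb', eb, -⟩ := back d' hd' b hb
          exact ⟨a', ha', b', hb', by show g1 (slConj d a') * g2 (slConj d' b') = _; rw [ea, eb]⟩
        · rintro ⟨a, ha, b, hb, rfl⟩
          exact ⟨_, l1 a ha, _, l2 b hb, rfl⟩
      le := D.le, card := D.card, card12 := D.card12
      norm1 := fun h hh a ha => by
        obtain ⟨a', ha', e⟩ := D.norm1 h hh _ (l1 a ha)
        obtain ⟨a'', ha'', ea, -⟩ := back d hd a' ha'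
        exact ⟨a'', ha'', by show _ = g1 (slConj d a''); rw [ea, ← e]⟩
      norm2 := fun h hh a ha => by
        obtain ⟨a', ha', e⟩ := D.norm2 h hh _ (l2 a ha)
        obtain ⟨a'', ha'', ea, -⟩ := back d' hd' a' ha'
        exact ⟨a'', ha'', by show _ = g2 (slConj d' a''); rw [ea, ← e]⟩ }
  refine ⟨elemOf k1 k2 t, z, emb_of_action D' htH ht12 ht hzt ?_ hde hde'⟩
  rintro _ ⟨a, ha, b, hb, qa, qb, rfl⟩
  exact hQ _ ⟨_, l1 a ha, _, l2 b hb, sl_q_conj d hd a ha qa, sl_q_conj d' hd' b hb qb, rfl⟩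

end CfsgG23Two
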