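import Cfsg.Agent.Lib.G23Two.Data

/-!
The computations with the tables.
-/

set_option autoImplicit false

namespace CfsgG23Two

/-- Multiplication in SL2(3). -/
def slMul (a b : ℕ) : ℕ := (slRows.getD a 0 >>> (5 * b)) % 32

/-- The automorphism. -/
def tauOf (a : ℕ) : ℕ := (tauTab >>> (5 * a)) % 32

/-- The sign normalisation. -/
def normal (a b s : ℕ) : ℕ :=
  if a < 12 then a + 12 * (b + 24 * s) else (a - 12) + 12 * ((b + 12) % 24 + 24 * s)

/-- Multiplication in (SL2(3) * SL2(3)).2. -/
def mulM (x y : ℕ) : ℕ :=
  let a := y % 12
  let b := y / 12 % 24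
  let s := x / 288
  normal (slMul (x % 12) (if s = 0 then a else tauOf a)) (slMul (x / 12 % 24) (if s = 0 then b else tauOf b))
    ((s + y / 288) % 2)

/-- Powers. -/
def powM (x : ℕ) : ℕ → ℕ
  | 0 => 0
  | n + 1 => mulM (powM x n) x

/-- The central involution. -/
def zM : ℕ := 144

/-- The class. -/
def cls (x : ℕ) : ℕ := (clTab >>> (5 * x)) % 32

/-- The conjugating element. -/
def wit (x : ℕ) : ℕ := (witTab >>> (10 * x)) % 1024

/-- The predecessor. -/
def pre1 (x : ℕ) : ℕ := (predTab >>> (10 * x)) % 1024

/-- The distance from the identity. -/
def dep (x : ℕ) : ℕ := (depTab >>> (4 * x)) % 16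

/-- The generator. -/
def gen1 (x : ℕ) : ℕ := genEls.getD ((genTab >>> (3 * x)) % 8) 0

/-- The representative. -/
def repOf (c : ℕ) : ℕ := clRep.getD c 0

/-- The size of a class. -/
def sizeOf' (c : ℕ) : ℕ := clSize.getD c 0

/-- The value of the i-th function on a class. -/
def val (i c : ℕ) : ℤ := (vals.getD i []).getD c 0

/-- The Gram matrix. -/
def gr (i j : ℕ) : ℤ := (gram.getD i []).getD j 0

/-- Classes, as checked. -/
def clsOK : Bool :=
  (List.range 576).all (fun x => decide (cls x < 20) && decide (wit x < 576) &&
    (mulM (wit x) (repOf (cls x)) == mulM x (wit x)) &&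
    genEls.all (fun g => cls (mulM g x) == cls (mulM x g)) &&
    ((x == 0) || (decide (dep (pre1 x) < dep x) && decide (pre1 x < 576) && genEls.contains (gen1 x) &&
      (mulM (gen1 x) (pre1 x) == x))))

/-- The representatives, as checked. -/
def repsOK : Bool :=
  (List.range 20).all (fun c => decide (repOf c < 576) && (cls (repOf c) == c) &&
    (((List.range 576).filter fun x => cls x == c).length == sizeOf' c) &&
    (((List.range 576).filter fun x => mulM x (repOf c) == mulM (repOf c) x).length * sizeOf' c == 576)) &&
  (cls 0 == 18) && (cls zM == 19) && (sizeOf' 18 == 1) && (sizeOf' 19 == 1) && genEls.all (fun g => decide (g < 576))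

/-- The carrying classes, as checked: orders, powers and pair counts. -/
def suppOK : Bool :=
  (List.range 20).all (fun c =>
    let o := clOrd.getD c 0
    let r := repOf c
    if supp.contains c then
      decide (0 < o) && (o % 2 == 0) && (powM r o == 0) && (powM r (o / 2) == zM) &&
        ((List.range o).all fun j => (j == 0) || (powM r j != 0)) &&
        (((List.range 576).filter fun i =>
          invol.contains (cls i) && invol.contains (cls (mulM i r))).length == cnt.getD c 0)
    else (List.range 11).all fun i => val i c == 0) &&
  (List.range 20).all (fun c => invol.contains c == ((c != 18) && (powM (repOf c) 2 == 0))) && !(supp.contains 18)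

/-- A power of the root of unity. -/
def zt (e i : ℕ) : ℤ := (zeta.getD (e % 12) []).getD i 0

/-- A subgroup with a linear character, as checked. -/
def subOK (K : List (ℕ × ℕ)) : Bool :=
  decide (K.map Prod.fst).Nodup && K.contains (0, 0) && (576 % K.length == 0) &&
    K.all (fun p => decide (p.1 < 576) && decide (p.2 < 12) &&
      K.all fun q => K.contains (mulM p.1 q.1, (p.2 + q.2) % 12))

/-- The contribution of a subgroup to a class. -/
def subSum (K : List (ℕ × ℕ)) (c i : ℕ) : ℤ :=
  ((576 / K.length : ℕ) : ℤ) * ((K.filter fun p => cls p.1 == c).map fun p => zt p.2 i).sum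

/-- The contribution of a combination to a class. -/
def certSum (C : List (ℕ × ℤ)) (c i : ℕ) : ℤ :=
  (C.map fun p => p.2 * subSum (subs.getD p.1 []) c i).sum

/-- The subgroups, as checked. -/
def subsOK : Bool := subs.all subOK

/-- The combinations, as checked. -/
def certsOK : Bool :=
  (List.range 13).all fun t => (List.range 20).all fun c => (List.range 4).all fun i =>
    certSum (certs.getD t []) c i == if i = 0 then (sizeOf' c : ℤ) * val t c else 0

/-- The indicator of a class minus the indicator of the centre. -/
def delta (k c : ℕ) : ℤ :=
  (if c = k then ((576 / sizeOf' k : ℕ) : ℤ) else 0) - if c = 19 then 576 else 0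

/-- The functions, as checked. -/
def valsOK : Bool :=
  (List.range 11).all (fun i => (List.range 11).all fun j =>
    ((List.range 20).map fun c => (sizeOf' c : ℤ) * val i c * val j c).sum == 576 * gr i j) &&
  (List.range 11).all (fun i =>
    (((List.range 20).map fun c => (sizeOf' c : ℤ) * val i c).sum == 576 * prin.getD i 0) &&
    (((List.range 20).map fun c => (sizeOf' c : ℤ) * val i c * (cnt.getD c 0 : ℤ)).sum == ksum.getD i 0)) &&
  (List.range 20).all (fun c =>
    (((List.range 11).map fun i => wt.getD i 0 * val i c).sum == if c = 19 then 576 else 0) &&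
    (32 * val 11 c == (if c = 18 then 576 else 0) + ((List.range 11).map fun i => cong32.getD i 0 * val i c).sum +
      cong32.getD 11 0 * delta 0 c + cong32.getD 12 0 * delta 5 c) &&
    (8 * val 12 c == 4 * (val 2 c + val 3 c + val 8 c + val 10 c) + cong8.getD 0 0 * delta 0 c +
      cong8.getD 1 0 * delta 5 c)) && invol.contains 0 && invol.contains 5

set_option maxRecDepth 100000 in
theorem clsOK_true : clsOK = true := by decide +kernel

set_option maxRecDepth 100000 in
theorem repsOK_true : repsOK = true := by decide +kernel

set_option maxRecDepth 100000 in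
theorem suppOK_true : suppOK = true := by decide +kernel

set_option maxRecDepth 100000 in
theorem subsOK_true : subsOK = true := by decide +kernel

set_option maxRecDepth 100000 in
theorem certsOK_true : certsOK = true := by decide +kernel

set_option maxRecDepth 100000 in
theorem valsOK_true : valsOK = true := by decide +kernel

end CfsgG23Two
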