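import Cfsg.Agent.Lib.G23Two.Ext

/-!
The case of centralisers of order 648: a large centraliser.
-/

set_option autoImplicit false
set_option maxRecDepth 100000

namespace CfsgG23Two

open scoped Pointwise

variable {G : Type*} [Group G] {f : ℕ → G} {z : G} [Finite G]

theorem card_cent_conj (g a : G) :
    Nat.card (Subgroup.centralizer ({g * a * g⁻¹} : Set G)) = Nat.card (Subgroup.centralizer ({a} : Set G)) := by
  refine Nat.card_congr ((MulAut.conj g⁻¹).toEquiv.subtypeEquiv fun x => ?_)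
  simp only [Subgroup.mem_centralizer_singleton_iff]
  show Commute x (g * a * g⁻¹) ↔ Commute (g⁻¹ * x * g⁻¹⁻¹) a
  rw [← Commute.conj_iff g⁻¹ (a := x), inv_inv, show g⁻¹ * (g * a * g⁻¹) * g = a by group]

theorem card_cent_pair_conj (g a b : G) :
    Nat.card (Subgroup.centralizer ({g * a * g⁻¹} : Set G) ⊓ Subgroup.centralizer ({g * b * g⁻¹} : Set G) : Subgroup G) =
      Nat.card (Subgroup.centralizer ({a} : Set G) ⊓ Subgroup.centralizer ({b} : Set G) : Subgroup G) := by
  refine Nat.card_congr ((MulAut.conj g⁻¹).toEquiv.subtypeEquiv fun x => ?_)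
  simp only [Subgroup.mem_inf, Subgroup.mem_centralizer_singleton_iff]
  show Commute x (g * a * g⁻¹) ∧ Commute x (g * b * g⁻¹) ↔
    Commute (g⁻¹ * x * g⁻¹⁻¹) a ∧ Commute (g⁻¹ * x * g⁻¹⁻¹) b
  rw [← Commute.conj_iff g⁻¹ (a := x), ← Commute.conj_iff g⁻¹ (a := x) (b := g * b * g⁻¹), inv_inv,
    show g⁻¹ * (g * a * g⁻¹) * g = a by group, show g⁻¹ * (g * b * g⁻¹) * g = b by group]

namespace Emb

variable (e : Emb f z)
include e

theorem card_diag {c : ℕ} (hc : c = 9 ∨ c = 11) :
    Nat.card (Subgroup.centralizer ({f (repOf c)} : Set G) ⊓ Subgroup.centralizer ({z} : Set G) : Subgroup G) = 18 := by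
  classical
  obtain ⟨hlen, -⟩ := diag_cent c hc
  set r := repOf c with hrd
  have hr : r < 576 := (rep_data.1 c (by rcases hc with rfl | rfl <;> norm_num)).1
  have hnd : ((List.range 576).filter fun y => mulM y r == mulM r y).Nodup := List.nodup_range.filter _
  rw [← hlen, ← List.toFinset_card_of_nodup hnd, ← Nat.card_eq_finsetCard]
  have hm : ∀ y, y ∈ ((List.range 576).filter fun y => mulM y r == mulM r y).toFinset ↔
      y < 576 ∧ mulM y r = mulM r y := fun y => by simp [List.mem_filter]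
  refine (Nat.card_congr (Equiv.ofBijective (fun y => (⟨f y.1, Subgroup.mem_inf.2
    ⟨Subgroup.mem_centralizer_singleton_iff.2 (e.rel ((hm _).1 y.2).1 hr hr ((hm _).1 y.2).1 ((hm _).1 y.2).2),
    Subgroup.mem_centralizer_singleton_iff.2 (e.comm ((hm _).1 y.2).1).eq⟩⟩ :
      (Subgroup.centralizer ({f r} : Set G) ⊓ Subgroup.centralizer ({z} : Set G) : Subgroup G))) ⟨fun y y' h => ?_,
      fun g => ?_⟩)).symm
  · exact Subtype.ext (e.inj _ ((hm _).1 y.2).1 _ ((hm _).1 y'.2).1 (congrArg Subtype.val h))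
  · obtain ⟨h6, hz⟩ := Subgroup.mem_inf.1 g.2
    obtain ⟨y, hy, hye⟩ := e.range g.1 (Subgroup.mem_centralizer_singleton_iff.1 hz)
    refine ⟨⟨y, (hm _).2 ⟨hy, e.inj _ (mulM_lt hy) _ (mulM_lt hr) ?_⟩⟩, Subtype.ext hye⟩
    rw [e.mul _ hy _ hr, e.mul _ hr _ hy, hye]
    exact Subgroup.mem_centralizer_singleton_iff.1 h6

theorem cent_of_three {w u : G} (h14 : Nat.card (Subgroup.centralizer ({f 6} : Set G)) = 648)
    (h17 : Nat.card (Subgroup.centralizer ({f 72} : Set G)) = 648) (hu : IsConj z u) (hw : Commute w u)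
    (h3 : w ^ 3 = 1) (hne : w ≠ 1) :
    ¬ 3 ^ 5 ∣ Nat.card (Subgroup.centralizer ({w} : Set G)) ∨
      Nat.card (Subgroup.centralizer ({w} : Set G) ⊓ Subgroup.centralizer ({u} : Set G) : Subgroup G) = 18 := by
  obtain ⟨g, rfl⟩ := isConj_iff.1 hu
  obtain ⟨k, hk, rfl⟩ := (e.conj g).range w hw
  rw [conj_pow, conj_eq_one_iff, ← e.pow hk, ← e.one] at h3
  have hk0 : k ≠ 0 := fun h => hne (by rw [h, e.one, mul_one, mul_inv_cancel])
  have hc := three_cls.1 k hk (e.inj _ (powM_lt 3) 0 (by norm_num) h3) hk0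
  have hrep : ∀ y < 576, cls y = cls k →
      Nat.card (Subgroup.centralizer ({f y} : Set G)) = Nat.card (Subgroup.centralizer ({f k} : Set G)) := by
    intro y hy h
    rw [← e.conj_rep hy, ← e.conj_rep hk, card_cent_conj, card_cent_conj, h]
  rw [card_cent_conj, card_cent_pair_conj]
  rcases hc with hc | hc | hc | hc
  · refine Or.inl ?_
    rw [← hrep 6 (by norm_num) (three_cls.2.1.trans hc.symm), h14]
    norm_num
  · refine Or.inl ?_
    rw [← hrep 72 (by norm_num) (three_cls.2.2.2.1.trans hc.symm), h17]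
    norm_num
  all_goals
    refine Or.inr ?_
    have hw' := (cls_data hk).2.1
    rw [← e.conj_rep hk, show z = f (wit k) * z * (f (wit k))⁻¹ by rw [(e.comm hw').eq, mul_inv_cancel_right],
      card_cent_pair_conj, e.card_diag (by simp [hc])]

end Emb

theorem ui_data : ∀ ui ∈ [288, 432], (∀ p ∈ pL, mulM ui p = mulM p ui → p = 0) ∧ mulM ui ui = 0 ∧
    mulM ui 6 = mulM 9 ui ∧ mulM ui 72 = mulM 108 ui ∧ mulM 12 ui = mulM (mulM zM ui) 12 ∧
    mulM zM ui = mulM ui zM ∧ ui < 576 ∧ ui ≠ 0 ∧ ui ≠ zM := by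
  decide +kernel

/-- A large centraliser of an element of order three. -/
structure Big (f : ℕ → G) (z : G) (O : Subgroup G) (w : G) (ui : ℕ) : Prop where
  ui_mem : ui ∈ [288, 432]
  wu : Commute w (f ui)
  wz : z * w * z⁻¹ = w⁻¹
  w3 : w ^ 3 = 1
  w1 : w ≠ 1
  card : Nat.card O = 729
  le : ∀ o ∈ O, Commute o w
  memw : w ∈ O
  center : ∀ y ∈ O, (∀ o ∈ O, Commute o y) → y ∈ Subgroup.zpowers w
  nz : ∀ o ∈ O, z * o * z⁻¹ ∈ O
  nu : ∀ o ∈ O, f ui * o * (f ui)⁻¹ ∈ O
  cz : Nat.card (O ⊓ Subgroup.centralizer ({z} : Set G) : Subgroup G) = 9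
  cu : Nat.card (O ⊓ Subgroup.centralizer ({f ui} : Set G) : Subgroup G) = 9
  czu : Nat.card (O ⊓ Subgroup.centralizer ({z * f ui} : Set G) : Subgroup G) = 9
  triv : ∀ o ∈ O, Commute z o → Commute (f ui) o → o = 1

namespace Side

variable {R : Subgroup G} (S : Side f z R 3) (e : Emb f z)
include S e

set_option maxHeartbeats 2000000 in
theorem exists_big (hG : Nat.card G = 4245696) (h17 : Nat.card (Subgroup.centralizer ({f 72} : Set G)) = 648) :
    ∃ O w ui, Big f z O w ui := by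
  classical
  haveI : Fact (Nat.Prime 3) := ⟨Nat.prime_three⟩
  have h14 : Nat.card (Subgroup.centralizer ({f 6} : Set G)) = 648 := by rw [S.cardC, S.card]
  have h27 : Nat.card R = 27 := by rw [S.card]
  obtain ⟨c0, c1, c2, c3, c4, c5, c6, c7, c8, c9, c10, c11, c12, c13, c14, c15, c16, c17, c18, c19, c20, c21, c22, c23⟩ :=
    const_data
  obtain ⟨S1, hRS, h72S, cS1, hS1, hS6⟩ := S.exists_S1 e
  have c81 : Nat.card S1 = 3 ^ 4 := by rw [cS1, h27]; norm_num
  obtain ⟨T, hST, cT, hT⟩ := exists_over (n := 4) (by rw [hG]; norm_num) c81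
  have hTodd := odd_of_three cT
  have n243 : ∀ x : G, Nat.card (Subgroup.centralizer ({x} : Set G)) = 648 → ¬ T ≤ Subgroup.centralizer ({x} : Set G) := by
    intro x hx h
    have := Subgroup.card_dvd_of_le h
    rw [cT, hx] at this
    norm_num at this
  set A := R ⊓ Subgroup.centralizer ({f 72} : Set G) with hA
  have cA : Nat.card A = 3 ^ 2 := by rw [S.card_fix e]; norm_num
  have hKA := S.le_fix e
  have k6 : f 6 ∈ A := hKA (Subgroup.mem_zpowers _)
  have h6R : f 6 ∈ R := (Subgroup.mem_inf.1 k6).1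
  -- a central element outside K
  have cen_mem : ∀ x ∈ S1, (∀ s ∈ S1, Commute x s) → x ∈ A := by
    intro x hx hc
    obtain ⟨r, hr, k, rfl, hk⟩ := hS1 x hx
    exact Subgroup.mem_inf.2 ⟨S.center_le e (by norm_num) hr hk fun s hs => hc s (hRS hs),
      Subgroup.mem_centralizer_singleton_iff.2 (hc _ h72S).eq⟩
  obtain ⟨y, hy, hyc, hyK⟩ : ∃ y ∈ S1, (∀ s ∈ S1, Commute y s) ∧ ¬ InK f y := by
    by_contra hcon
    refine n243 (f 6) h14 fun g hg => Subgroup.mem_centralizer_singleton_iff.2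
      (commute_of_conj_mem_pair (odd_orderOf hTodd hg) ?_).eq
    have hc : ∀ s ∈ S1, Commute (g * f 6 * g⁻¹) s := by
      intro s hs
      have h0 := hT _ (inv_mem hg) s hs
      rw [inv_inv] at h0
      have := (Commute.conj_iff g).2 (hS6 _ h0).symm
      rwa [show g * (g⁻¹ * s * g) * g⁻¹ = s by group] at this
    rcases (not_not.1 fun h => hcon ⟨_, hT g hg _ (hRS h6R), hc, h⟩ : InK f (g * f 6 * g⁻¹)) with h | h | h
    · exact absurd (conj_eq_one_iff.1 h) e.f6_ne
    · exact Or.inl h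
    · exact Or.inr (h.trans e.f9)
  have hyA := cen_mem y hy hyc
  -- A is the centre of S1
  have hAc : ∀ a ∈ A, ∀ s ∈ S1, Commute a s := by
    set B := A ⊓ Subgroup.centralizer (S1 : Set G) with hB
    have hKB : Subgroup.zpowers (f 6) ≤ B := Subgroup.zpowers_le.2
      (Subgroup.mem_inf.2 ⟨k6, fun s hs => (hS6 s hs).eq⟩)
    have hyB : y ∈ B := Subgroup.mem_inf.2 ⟨hyA, fun s hs => (hyc s hs).eq.symm⟩
    have : B = A := by
      refine Subgroup.eq_of_le_of_card_ge inf_le_left ?_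
      have hd : Nat.card B ∣ 3 ^ 2 := cA ▸ Subgroup.card_dvd_of_le inf_le_left
      obtain ⟨j, hj, hje⟩ := (Nat.dvd_prime_pow Nat.prime_three).1 hd
      have hgt : 3 < Nat.card B := by
        rw [← e.card_K]
        refine lt_of_le_of_ne (Subgroup.card_le_of_le hKB) fun h => hyK ?_
        exact e.inK_iff.2 ((Subgroup.eq_of_le_of_card_ge hKB h.ge).symm ▸ hyB)
      interval_cases j <;> simp_all
    intro a ha s hs
    rw [← this] at ha
    exact ((Subgroup.mem_inf.1 ha).2 s hs).symm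
  have hab : ∀ r ∈ R, ∀ s ∈ R, Commute r s := by
    intro r hr s hs
    by_cases h : r ∈ A
    · exact hAc r h s (hRS hs)
    set B := R ⊓ Subgroup.centralizer ({r} : Set G)
    have hAB : A ≤ B := le_inf inf_le_left fun a ha =>
      Subgroup.mem_centralizer_singleton_iff.2 (hAc a ha r (hRS hr)).eq
    have : B = R := by
      refine Subgroup.eq_of_le_of_card_ge inf_le_left ?_
      have hd : Nat.card B ∣ 3 ^ 3 := by
        have hd := Subgroup.card_dvd_of_le (inf_le_left : B ≤ R)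
        rw [h27] at hd
        rwa [show (3 : ℕ) ^ 3 = 27 by norm_num]
      obtain ⟨j, hj, hje⟩ := (Nat.dvd_prime_pow Nat.prime_three).1 hd
      have hgt : 9 < Nat.card B := by
        have hle := Subgroup.card_le_of_le hAB
        rw [cA] at hle
        refine lt_of_le_of_ne hle fun h' => h ?_
        exact (Subgroup.eq_of_le_of_card_ge hAB (by rw [cA, ← h']; norm_num)).symm ▸
          Subgroup.mem_inf.2 ⟨hr, Subgroup.mem_centralizer_singleton_iff.2 rfl⟩
      interval_cases j <;> omega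
    exact (Subgroup.mem_centralizer_singleton_iff.1 (Subgroup.mem_inf.1 (this.symm ▸ hs)).2 : s * r = r * s).symm
  -- the inverted line
  obtain ⟨c', w, hyw, hc', hwR, hwz⟩ := S.split y (Subgroup.mem_inf.1 hyA).1
  have hwA : w ∈ A := by
    rw [show w = c'⁻¹ * y by rw [hyw, inv_mul_cancel_left]]
    exact mul_mem (inv_mem (hKA (e.inK_iff.1 hc'))) hyA
  have hw1 : w ≠ 1 := fun h => hyK (by rw [hyw, h, mul_one]; exact hc')
  have hw3 : w ^ 3 = 1 := S.cube w hwR
  have zc : ∀ c, InK f c → z * c * z⁻¹ = c := by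
    rintro c (rfl | rfl | rfl)
    · group
    all_goals rw [← (e.comm (by norm_num)).eq, mul_inv_cancel_right]
  have hAodd : Odd (Nat.card A) := odd_of_three cA
  have hAz : ∀ a ∈ A, z * a * z⁻¹ ∈ A := by
    intro a ha
    obtain ⟨c, i, rfl, hc, hi, hiz⟩ := S.split a (Subgroup.mem_inf.1 ha).1
    have hcA := hKA (e.inK_iff.1 hc)
    rw [show z * (c * i) * z⁻¹ = (z * c * z⁻¹) * (z * i * z⁻¹) by group, zc c hc, hiz]
    exact mul_mem hcA (inv_mem ((Subgroup.mul_mem_cancel_left _ hcA).1 ha))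
  -- inverted elements of A
  have invA : ∀ i ∈ A, z * i * z⁻¹ = i⁻¹ → i = 1 ∨ i = w ∨ i = w⁻¹ := by
    intro i hi hiz
    have hcnt := card_fixed_inverted hAodd e.z_sq hAz
    have hfx : Nat.card {c : G // c ∈ A ∧ Commute z c} = 3 := by
      rw [← e.card_K]
      exact Nat.card_congr (Equiv.subtypeEquivRight fun c => ⟨fun h => e.inK_iff.1
        (S.fixz c (Subgroup.mem_inf.1 h.1).1 h.2.symm), fun h => ⟨hKA h, by
          have := zc c (e.inK_iff.2 h)
          exact mul_inv_eq_iff_eq_mul.1 this⟩⟩)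
    rw [cA, hfx] at hcnt
    have hI : Nat.card {i : G // i ∈ A ∧ z * i * z⁻¹ = i⁻¹} = 3 := by omega
    have hwne : w⁻¹ ≠ w := fun h => hw1 (eq_one_of_sq (odd_orderOf hAodd hwA)
      (eq_inv_iff_mul_eq_one.1 h.symm))
    haveI := Fintype.ofFinite {i : G // i ∈ A ∧ z * i * z⁻¹ = i⁻¹}
    let s : Finset {i : G // i ∈ A ∧ z * i * z⁻¹ = i⁻¹} :=
      {⟨1, one_mem _, by group⟩, ⟨w, hwA, hwz⟩, ⟨w⁻¹, inv_mem hwA, by rw [← conj_inv, hwz]⟩}
    have hs : s = Finset.univ := by
      refine Finset.eq_univ_of_card _ ?_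
      rw [← Nat.card_eq_fintype_card, hI, Finset.card_insert_of_notMem, Finset.card_insert_of_notMem,
        Finset.card_singleton]
      · simp [Subtype.ext_iff, hwne.symm]
      · simp [Subtype.ext_iff, hw1.symm, (inv_ne_one.2 hw1).symm]
    have := hs ▸ Finset.mem_univ (⟨i, hi, hiz⟩ : {i : G // i ∈ A ∧ z * i * z⁻¹ = i⁻¹})
    simpa [s, Subtype.ext_iff] using this
  -- the involution centralising w
  obtain ⟨ui, huim, hwu⟩ : ∃ ui ∈ [288, 432], Commute w (f ui) := by
    obtain ⟨-, -, h6', h72', -, hz', -, -, -⟩ := ui_data 288 (by simp)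
    have n6 : f 288 * f 6 * (f 288)⁻¹ = f 9 := by
      rw [e.rel (by norm_num) (by norm_num) (by norm_num) (by norm_num) h6', mul_inv_cancel_right]
    have n72 : f 288 * f 72 * (f 288)⁻¹ = (f 72)⁻¹ := by
      rw [e.rel (by norm_num) (by norm_num) (by norm_num) (by norm_num) h72', mul_inv_cancel_right,
        eq_inv_iff_mul_eq_one]
      exact e.rel0 (by norm_num) (by norm_num) (by decide +kernel)
    have hm : f 288 * w * (f 288)⁻¹ ∈ A := by
      refine Subgroup.mem_inf.2 ⟨S.conj _ (Or.inr n6) w hwR, Subgroup.mem_centralizer_singleton_iff.2 ?_⟩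
      have := (Commute.conj_iff (f 288)).2 (show Commute w (f 72) from
        Subgroup.mem_centralizer_singleton_iff.1 (Subgroup.mem_inf.1 hwA).2)
      rw [n72] at this
      exact (Commute.inv_right_iff.1 this).eq
    have hzt : z * f 288 = f 288 * z := (e.comm (by norm_num)).eq.symm
    rcases invA _ hm (by
      rw [show z * (f 288 * w * (f 288)⁻¹) * z⁻¹ = (z * f 288) * w * (z * f 288)⁻¹ by group, hzt,
        show f 288 * z * w * (f 288 * z)⁻¹ = f 288 * (z * w * z⁻¹) * (f 288)⁻¹ by group, hwz, ← conj_inv])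
      with h | h | h
    · exact absurd (conj_eq_one_iff.1 h) hw1
    · exact ⟨288, by simp, (mul_inv_eq_iff_eq_mul.1 h).symm⟩
    · refine ⟨432, by simp, (mul_inv_eq_iff_eq_mul.1 ?_).symm⟩
      rw [show f 432 = z * f 288 by rw [← e.hz, ← e.mul _ (by norm_num [zM]) _ (by norm_num), c4],
        show z * f 288 * w * (z * f 288)⁻¹ = z * (f 288 * w * (f 288)⁻¹) * z⁻¹ by group, h, ← conj_inv, hwz,
        inv_inv]
  obtain ⟨hfixP, hu0, hu6, hu72, hub, huz, hui, hune, hunz⟩ := ui_data ui huim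
  -- T centralises w
  have hTA : ∀ g ∈ T, ∀ a ∈ A, g * a * g⁻¹ ∈ A := by
    intro g hg a ha
    refine cen_mem _ (hT g hg a (hRS (Subgroup.mem_inf.1 ha).1)) fun s hs => ?_
    have h0 := hT _ (inv_mem hg) s hs
    rw [inv_inv] at h0
    have := (Commute.conj_iff g).2 (hAc a ha _ h0)
    rwa [show g * (g⁻¹ * s * g) * g⁻¹ = s by group] at this
  have hwT : 3 ^ 5 ∣ Nat.card (Subgroup.centralizer ({w} : Set G)) := by
    haveI : (A.subgroupOf T).Normal := ⟨fun a ha g => hTA g.1 g.2 a.1 ha⟩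
    have hAT : A ≤ T := fun a ha => hST (hRS (Subgroup.mem_inf.1 ha).1)
    letI : MulAction T (A.subgroupOf T) := MulAction.compHom _ (MulAut.conjNormal (G := T) (H := A.subgroupOf T))
    have hsm : ∀ (g : T) (a : A.subgroupOf T), ((g • a : A.subgroupOf T) : T).1 = g.1 * a.1.1 * g.1⁻¹ :=
      fun g a => rfl
    obtain ⟨v, hvfix, hv1⟩ := (IsPGroup.of_card cT).exists_fixed_point_of_prime_dvd_card_of_fixed_point
      (A.subgroupOf T) (by rw [Nat.card_congr (Subgroup.subgroupOfEquivOfLe hAT).toEquiv, cA]; norm_num)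
      (a := 1) (fun g => by
        refine Subtype.ext (Subtype.ext ?_)
        rw [hsm]
        simp)
    set v' : G := v.1.1 with hv'
    have hvA : v' ∈ A := v.2
    have hv1' : v' ≠ 1 := fun h => hv1 (Subtype.ext (Subtype.ext h.symm))
    have hvT : ∀ g ∈ T, Commute g v' := fun g hg => by
      have := congrArg (fun a : A.subgroupOf T => a.1.1) (hvfix ⟨g, hg⟩)
      simp only [hsm] at this
      exact mul_inv_eq_iff_eq_mul.1 this
    have hvd : ∀ v, (∀ g ∈ T, Commute g v) → 3 ^ 5 ∣ Nat.card (Subgroup.centralizer ({v} : Set G)) := fun v hv =>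
      cT ▸ Subgroup.card_dvd_of_le fun g hg => Subgroup.mem_centralizer_singleton_iff.2 (hv g hg).eq
    obtain ⟨c, i, hvi, hcK, hiR, hiz⟩ := S.split v' (Subgroup.mem_inf.1 hvA).1
    have hiA : i ∈ A := by
      rw [show i = c⁻¹ * v' by rw [hvi, inv_mul_cancel_left]]
      exact mul_mem (inv_mem (hKA (e.inK_iff.1 hcK))) hvA
    rcases hcK with hc1 | hcK
    · rw [hc1, one_mul] at hvi
      rcases invA i hiA hiz with h | h | h
      · exact absurd (hvi.trans h) hv1'
      · rw [← h, ← hvi]; exact hvd _ hvT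
      · refine hvd w fun g hg => ?_
        have := (hvT g hg).inv_right
        rwa [hvi, h, inv_inv] at this
    exfalso
    obtain ⟨u, j, huT, hju, hjA, hjz⟩ : ∃ u j, (∀ g ∈ T, Commute g u) ∧ u = f 6 * j ∧ j ∈ A ∧ z * j * z⁻¹ = j⁻¹ := by
      rcases hcK with rfl | rfl
      · exact ⟨v', i, hvT, hvi, hiA, hiz⟩
      · refine ⟨v'⁻¹, i⁻¹, fun g hg => (hvT g hg).inv_right, ?_, inv_mem hiA, by rw [← conj_inv, hiz]⟩
        rw [hvi, mul_inv_rev, e.f9, inv_inv]
        exact ((S.kcen e (Or.inr (Or.inl rfl)) (inv_mem hiR))).eq.symm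
    have hj3 : j ^ 3 = 1 := S.cube j (Subgroup.mem_inf.1 hjA).1
    have huA : u ∈ A := hju ▸ mul_mem k6 hjA
    have h6j : Commute (f 6) j := S.kcen e (Or.inr (Or.inl rfl)) (Subgroup.mem_inf.1 hjA).1
    have hu3 : u ^ 3 = 1 := S.cube u (Subgroup.mem_inf.1 huA).1
    have hu1 : u ≠ 1 := fun h => by
      have : f 6 = j⁻¹ := eq_inv_of_mul_eq_one_left (hju ▸ h)
      have h1 := zc _ (Or.inr (Or.inl rfl) : InK f (f 6))
      rw [this, ← conj_inv, hjz, inv_inv] at h1
      exact e.f6_ne (this.trans (by rw [eq_one_of_sq (odd_orderOf hAodd hjA) (eq_inv_iff_mul_eq_one.1 h1), inv_one]))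
    set L := Subgroup.zpowers u
    have hLc : Nat.card L = 3 := by rw [Nat.card_zpowers, orderOf_eq_prime hu3 hu1]
    have huc : ∀ g ∈ T, ∀ x ∈ L, Commute g x := by
      intro g hg x hx
      obtain ⟨n, rfl⟩ := Subgroup.mem_zpowers_iff.1 hx
      exact (huT g hg).zpow_right n
    have hLA : L ≤ A := Subgroup.zpowers_le.2 huA
    have h6L : f 6 ∉ L := fun h => n243 (f 6) h14 fun g hg =>
      Subgroup.mem_centralizer_singleton_iff.2 (huc g hg _ h).eq
    have hcov : ∀ a ∈ A, a ∈ L ∨ (f 6)⁻¹ * a ∈ L ∨ f 6 * a ∈ L := by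
      have h := CfsgLib.Signalizer.card_mul_mul_card_inf (Subgroup.zpowers (f 6)) L
      have hi : Nat.card (Subgroup.zpowers (f 6) ⊓ L : Subgroup G) = 1 := by
        rw [Subgroup.card_eq_one, eq_bot_iff]
        intro x hx
        rcases e.inK_iff.2 (Subgroup.mem_inf.1 hx).1 with rfl | rfl | rfl
        · exact one_mem _
        · exact absurd (Subgroup.mem_inf.1 hx).2 h6L
        · exact absurd (by simpa [e.f9] using inv_mem (Subgroup.mem_inf.1 hx).2) h6L
      rw [hi, mul_one, e.card_K, hLc] at h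
      have hset : ((Subgroup.zpowers (f 6) : Set G) * (L : Set G)) = (A : Set G) := by
        refine Set.eq_of_subset_of_ncard_le ?_ ?_ (Set.toFinite _)
        · rintro _ ⟨a, ha, b, hb, rfl⟩; exact mul_mem (hKA ha) (hLA hb)
        · rw [← Nat.card_coe_set_eq, ← Nat.card_coe_set_eq, h]
          exact le_of_eq cA
      intro a ha
      rw [← SetLike.mem_coe, ← hset] at ha
      obtain ⟨k, hk, l, hl, rfl⟩ := ha
      rcases e.inK_iff.2 hk with rfl | rfl | rfl
      · exact Or.inl (by simpa using hl)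
      · exact Or.inr (Or.inl (by rw [inv_mul_cancel_left]; exact hl))
      · refine Or.inr (Or.inr ?_)
        rw [e.f9, mul_inv_cancel_left]; exact hl
    have hsq : ∀ g ∈ T, (f 6)⁻¹ * (g * g * f 6 * (g * g)⁻¹) ∈ L := by
      intro g hg
      rcases hcov _ (hTA g hg _ k6) with h | h | h
      · exfalso
        refine h6L ?_
        have := huc g⁻¹ (inv_mem hg) _ h
        have e1 := mul_inv_eq_iff_eq_mul.2 this.eq
        rwa [← e1, inv_inv, show g⁻¹ * (g * f 6 * g⁻¹) * g = f 6 by group] at h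
      · have h1 := huc g hg _ h
        have e1 : g * ((f 6)⁻¹ * (g * f 6 * g⁻¹)) * g⁻¹ = (f 6)⁻¹ * (g * f 6 * g⁻¹) :=
          mul_inv_eq_iff_eq_mul.2 h1.eq
        rw [show (f 6)⁻¹ * (g * g * f 6 * (g * g)⁻¹) = ((f 6)⁻¹ * (g * f 6 * g⁻¹)) *
          (g * ((f 6)⁻¹ * (g * f 6 * g⁻¹)) * g⁻¹) by group, e1]
        exact mul_mem h h
      · have h1 := huc g hg _ h
        set l := f 6 * (g * f 6 * g⁻¹) with hl
        have hgx : g * f 6 * g⁻¹ = (f 6)⁻¹ * l := by rw [hl]; group
        have e1 : g * l * g⁻¹ = l := mul_inv_eq_iff_eq_mul.2 h1.eq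
        rw [show (f 6)⁻¹ * (g * g * f 6 * (g * g)⁻¹) = (f 6)⁻¹ * (g * (g * f 6 * g⁻¹) * g⁻¹) by group, hgx,
          show g * ((f 6)⁻¹ * l) * g⁻¹ = (g * f 6 * g⁻¹)⁻¹ * (g * l * g⁻¹) by group, e1, hgx, mul_inv_rev, inv_inv,
          show (f 6)⁻¹ * (l⁻¹ * f 6 * l) = (f 6)⁻¹ * l⁻¹ * f 6 * l by group]
        have hc : Commute l (f 6) := hAc l (hLA h) _ (hRS h6R)
        rw [show (f 6)⁻¹ * l⁻¹ * f 6 * l = (f 6)⁻¹ * l⁻¹ * (f 6 * l) by group, ← hc.eq]
        simp
    -- some element moves f 6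
    obtain ⟨g, hg, hgne⟩ : ∃ g ∈ T, (f 6)⁻¹ * (g * f 6 * g⁻¹) ≠ 1 ∧ (f 6)⁻¹ * (g * f 6 * g⁻¹) ∈ L := by
      by_contra hcon
      refine n243 (f 6) h14 fun g hg => Subgroup.mem_centralizer_singleton_iff.2
        (commute_of_sq (odd_orderOf hTodd hg) (mul_inv_eq_iff_eq_mul.1 ?_)).eq
      exact (inv_mul_eq_one.1 (not_not.1 fun h => hcon ⟨g * g, mul_mem hg hg, h, hsq g hg⟩)).symm
    obtain ⟨hne', hgL⟩ := hgne
    obtain ⟨q, hq, hqu⟩ : ∃ q ∈ T, q * f 6 * q⁻¹ = f 6 * u := by
      obtain ⟨n, hn⟩ := Subgroup.mem_zpowers_iff.1 hgL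
      have hu3' : u ^ (3 : ℤ) = 1 := by exact_mod_cast hu3
      have hn3 : u ^ n = u ^ (n % 3) := by
        conv_lhs => rw [← Int.mul_ediv_add_emod n 3, zpow_add, zpow_mul, hu3', one_zpow, one_mul]
      rw [hn3] at hn
      have hgx : g * f 6 * g⁻¹ = f 6 * u ^ (n % 3) := by rw [hn, mul_inv_cancel_left]
      rcases (show n % 3 = 0 ∨ n % 3 = 1 ∨ n % 3 = 2 by omega) with j | j | j
      · rw [j, zpow_zero] at hn; exact absurd hn.symm hne'
      · exact ⟨g, hg, by rw [hgx, j, zpow_one]⟩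
      · refine ⟨g * g, mul_mem hg hg, ?_⟩
        rw [show g * g * f 6 * (g * g)⁻¹ = g * (g * f 6 * g⁻¹) * g⁻¹ by group, hgx, j,
          show g * (f 6 * u ^ (2 : ℤ)) * g⁻¹ = (g * f 6 * g⁻¹) * (g * u ^ (2 : ℤ) * g⁻¹) by group, hgx, j,
          mul_inv_eq_iff_eq_mul.2 ((huT g hg).zpow_right 2).eq, mul_assoc, ← zpow_add,
          show (2 : ℤ) + 2 = 3 + 1 by norm_num, zpow_add, hu3', one_mul, zpow_one]
    have hbig : 3 ^ 5 ∣ Nat.card (Subgroup.centralizer ({f 6 * u} : Set G)) := by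
      have h1 : f 6 * u = (z * u * z⁻¹)⁻¹ := by
        rw [hju, show z * (f 6 * j) * z⁻¹ = (z * f 6 * z⁻¹) * (z * j * z⁻¹) by group,
          zc _ (Or.inr (Or.inl rfl)), hjz, mul_inv_rev, inv_inv]
        calc f 6 * (f 6 * j) = (f 6 * f 6) * j := by group
          _ = (f 6)⁻¹ * j := by rw [← e.mul 6 (by norm_num) 6 (by norm_num), c9, e.f9]
          _ = j * (f 6)⁻¹ := h6j.inv_left.eq
      have h2 : Subgroup.centralizer ({(z * u * z⁻¹)⁻¹} : Set G) = Subgroup.centralizer ({z * u * z⁻¹} : Set G) := by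
        ext x
        rw [Subgroup.mem_centralizer_singleton_iff, Subgroup.mem_centralizer_singleton_iff]
        exact Commute.inv_right_iff
      rw [h1, h2, card_cent_conj]
      exact hvd u huT
    rw [← hqu, card_cent_conj, h14] at hbig
    norm_num at hbig
  -- the centraliser of w
  set u := f ui with hu
  have uu : u * u = 1 := e.rel0 hui hui hu0
  have u1 : u ≠ 1 := fun h => hune (e.inj ui hui 0 (by norm_num) (by rw [← hu, h, e.one]))
  have hzu : Commute z u := (e.comm hui).symm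
  have hucon : IsConj z u := e.fus ui hui u1 uu
  have h18 := (e.cent_of_three h14 h17 hucon hwu hw3 hw1).resolve_left (not_not.2 hwT)
  set C := Subgroup.centralizer ({w} : Set G) with hC
  have memC : ∀ g, g ∈ C ↔ Commute g w := fun g => Subgroup.mem_centralizer_singleton_iff
  haveI : Fact (Nat.Prime 2) := ⟨Nat.prime_two⟩
  have huC : u ∈ C := (memC u).2 hwu.symm
  have hu2 : Nat.card (Subgroup.zpowers u) = 2 ^ 1 := by
    rw [Nat.card_zpowers, orderOf_eq_prime (by rw [pow_two, uu]) u1, pow_one]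
  have h4 : ¬ 2 ^ 2 ∣ Nat.card C := by
    refine not_pow_dvd_of_normalizer (Subgroup.zpowers_le.2 huC) hu2 fun h => ?_
    have hle : Subgroup.normalizer ((Subgroup.zpowers u : Subgroup G) : Set G) ⊓ C ≤
        Subgroup.centralizer ({w} : Set G) ⊓ Subgroup.centralizer ({u} : Set G) := by
      intro x hx
      obtain ⟨hn, hxC⟩ := Subgroup.mem_inf.1 hx
      refine Subgroup.mem_inf.2 ⟨hxC, Subgroup.mem_centralizer_singleton_iff.2 ?_⟩
      obtain ⟨n, hn'⟩ := Subgroup.mem_zpowers_iff.1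
        ((Subgroup.mem_normalizer_iff.1 hn u).1 (Subgroup.mem_zpowers u))
      rcases Int.even_or_odd' n with ⟨k, rfl | rfl⟩
      · rw [zpow_mul, zpow_two, uu, one_zpow] at hn'
        exact absurd (conj_eq_one_iff.1 hn'.symm) u1
      · rw [zpow_add, zpow_mul, zpow_two, uu, one_zpow, one_mul, zpow_one] at hn'
        exact mul_inv_eq_iff_eq_mul.1 hn'.symm
    have := h.trans (Subgroup.card_dvd_of_le hle)
    rw [h18] at this
    norm_num at this
  set uC : C := ⟨u, huC⟩
  set U := Subgroup.zpowers uC with hU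
  have hUc : Nat.card U = 2 := by
    rw [Nat.card_zpowers, orderOf_eq_prime (Subtype.ext (by push_cast; rw [pow_two, uu]))
      fun h => u1 (congrArg Subtype.val h)]
  have hUi : ¬ 2 ∣ U.index := by
    rintro ⟨k, hk⟩
    refine h4 ⟨k, ?_⟩
    rw [← U.card_mul_index, hUc, hk]; ring
  set P2 : Sylow 2 C := (IsPGroup.of_card (n := 1) (by rw [hUc, pow_one])).toSylow hUi
  have hP2 : Subgroup.normalizer ((P2 : Subgroup C) : Set C) ≤ Subgroup.centralizer ((P2 : Subgroup C) : Set C) := by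
    intro g hg
    show g ∈ Subgroup.centralizer (U : Set C)
    rw [hU, Subgroup.zpowers_eq_closure, Subgroup.centralizer_closure, Subgroup.mem_centralizer_singleton_iff]
    obtain ⟨n, hn'⟩ := Subgroup.mem_zpowers_iff.1
      ((Subgroup.mem_normalizer_iff.1 hg uC).1 (Subgroup.mem_zpowers uC))
    have uu' : uC * uC = 1 := Subtype.ext uu
    rcases Int.even_or_odd' n with ⟨k, rfl | rfl⟩
    · rw [zpow_mul, zpow_two, uu', one_zpow] at hn'
      exact absurd (congrArg Subtype.val (conj_eq_one_iff.1 hn'.symm)) u1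
    · rw [zpow_add, zpow_mul, zpow_two, uu', one_zpow, one_mul, zpow_one] at hn'
      exact mul_inv_eq_iff_eq_mul.1 hn'.symm
  set φ := MonoidHom.transferSylow P2 hP2
  set O := φ.ker.map C.subtype with hO
  have hOC : O ≤ C := Subgroup.map_subtype_le _
  have hOo : Odd (Nat.card O) := by
    rw [hO, Subgroup.card_map_of_injective C.subtype_injective, ← Nat.not_even_iff_odd, even_iff_two_dvd]
    exact MonoidHom.not_dvd_card_ker_transferSylow P2 hP2
  have hPc : Nat.card (P2 : Subgroup C) = 2 := hUc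
  have cCO : Nat.card C = 2 * Nat.card O := by
    rw [hO, Subgroup.card_map_of_injective C.subtype_injective,
      ← (MonoidHom.ker_transferSylow_isComplement' P2 hP2).card_mul, hPc, mul_comm]
  have oddO : ∀ g : G, Commute g w → Odd (orderOf g) → g ∈ O := by
    intro g hg ho
    refine ⟨⟨g, (memC g).2 hg⟩, MonoidHom.mem_ker.2 ?_, rfl⟩
    rw [← orderOf_eq_one_iff]
    refine Nat.eq_one_of_dvd_coprimes ho.coprime_two_left ?_ ((orderOf_map_dvd φ _).trans (by
      rw [Subgroup.orderOf_mk]))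
    exact (orderOf_dvd_natCard _).trans hPc.dvd
  have hOn : ∀ g : G, g * w * g⁻¹ = w ∨ g * w * g⁻¹ = w⁻¹ → ∀ o ∈ O, g * o * g⁻¹ ∈ O := by
    intro g hg o ho
    refine oddO _ ?_ (by rw [show g * o * g⁻¹ = MulAut.conj g o from rfl, MulEquiv.orderOf_eq]; exact odd_orderOf hOo ho)
    have := (Commute.conj_iff g).2 ((memC o).1 (hOC ho))
    rcases hg with h | h <;> rw [h] at this
    exacts [this, Commute.inv_right_iff.1 this]
  have hnz : ∀ o ∈ O, z * o * z⁻¹ ∈ O := hOn z (Or.inr hwz)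
  have hnu : ∀ o ∈ O, u * o * u⁻¹ ∈ O := hOn u (Or.inl (by rw [← hwu.eq, mul_inv_cancel_right]))
  -- fixed points
  obtain ⟨P, hPc9, hP6, hP72, hPm⟩ := e.exists_P
  have hPO : P ≤ O := by
    intro x hx
    refine oddO x ?_ (odd_orderOf (odd_of_three hPc9) hx)
    obtain ⟨p, hp, rfl⟩ := hPm x hx
    have hw6 : Commute w (f 6) := S.le w hwR
    have hw72 : Commute w (f 72) := hAc w hwA _ h72S
    have all : ∀ p ∈ pL, ∃ a ∈ [0, 6, 9], ∃ b ∈ [0, 72, 108], p = mulM a b := by decide +kernel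
    obtain ⟨a, ha, b, hb, rfl⟩ := all p hp
    simp only [List.mem_cons, List.not_mem_nil, or_false] at ha hb
    rw [e.mul a (by omega) b (by omega)]
    refine Commute.mul_left ?_ ?_
    · rcases ha with rfl | rfl | rfl
      exacts [e.one ▸ Commute.one_left w, hw6.symm, e.f9 ▸ hw6.symm.inv_left]
    · rcases hb with rfl | rfl | rfl
      · exact e.one ▸ Commute.one_left w
      · exact hw72.symm
      · rw [← c10, e.mul 72 (by norm_num) 72 (by norm_num)]
        exact hw72.symm.mul_left hw72.symm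
  set Oz := O ⊓ Subgroup.centralizer ({z} : Set G) with hOz
  have hPz : P ≤ Oz := le_inf hPO fun x hx => by
    obtain ⟨p, hp, rfl⟩ := hPm x hx
    exact Subgroup.mem_centralizer_singleton_iff.2 (e.comm (six_data.2.2.2.2.2.1 p hp).1).eq
  have hOzd : Nat.card Oz ∣ 9 := e.card_odd_le (hOo.of_dvd_nat (Subgroup.card_dvd_of_le inf_le_left))
    fun x hx => Subgroup.mem_centralizer_singleton_iff.1 (Subgroup.mem_inf.1 hx).2
  have cOz : Nat.card Oz = 9 := by
    refine le_antisymm (Nat.le_of_dvd (by norm_num) hOzd) ?_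
    have := Subgroup.card_le_of_le hPz
    rw [hPc9] at this
    simpa using this
  have eOz : P = Oz := Subgroup.eq_of_le_of_card_ge hPz (by rw [cOz, hPc9]; norm_num)
  have htriv : ∀ o ∈ O, Commute z o → Commute u o → o = 1 := by
    intro o ho h1 h2
    obtain ⟨p, hp, rfl⟩ := hPm o (eOz ▸ Subgroup.mem_inf.2 ⟨ho, Subgroup.mem_centralizer_singleton_iff.2 h1.eq.symm⟩)
    have hp' := (six_data.2.2.2.2.2.1 p hp).1
    rw [hfixP p hp (e.inj _ (mulM_lt hui) _ (mulM_lt hp') (by
      rw [e.mul _ hui _ hp', e.mul _ hp' _ hui]; exact h2.eq)), e.one]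
  have cOu : Nat.card (O ⊓ Subgroup.centralizer ({u} : Set G) : Subgroup G) = 9 := by
    obtain ⟨g, hg⟩ := isConj_iff.1 hucon
    have e' := hg ▸ e.conj g
    refine le_antisymm (Nat.le_of_dvd (by norm_num) (e'.card_odd_le
      (hOo.of_dvd_nat (Subgroup.card_dvd_of_le inf_le_left))
      fun x hx => Subgroup.mem_centralizer_singleton_iff.1 (Subgroup.mem_inf.1 hx).2)) ?_
    set D := Subgroup.centralizer ({w} : Set G) ⊓ Subgroup.centralizer ({u} : Set G) with hD
    obtain ⟨K, hK⟩ := Sylow.exists_subgroup_card_pow_prime (G := D) 3 (n := 2) (by rw [h18]; norm_num)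
    have hKc : Nat.card (K.map D.subtype) = 3 ^ 2 := by
      rw [Subgroup.card_map_of_injective D.subtype_injective, hK]
    refine le_trans (le_of_eq (hKc.trans (by norm_num)).symm) (Subgroup.card_le_of_le ?_)
    intro x hx
    have hxD := Subgroup.map_subtype_le _ hx
    exact Subgroup.mem_inf.2 ⟨oddO x ((memC x).1 (Subgroup.mem_inf.1 hxD).1) (odd_orderOf (odd_of_three hKc) hx),
      (Subgroup.mem_inf.1 hxD).2⟩
  have zne : z ≠ u := fun h => hunz (e.inj ui hui zM (by norm_num [zM]) (by rw [e.hz, h]))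
  have hfour := four_card hOo e.z_sq uu hzu e.z_ne u1 zne hnz hnu htriv
  set Ozu := O ⊓ Subgroup.centralizer ({z * u} : Set G) with hOzu
  rw [cOz, cOu] at hfour
  have hzui : z * u = f (mulM zM ui) := by rw [e.mul _ (by norm_num [zM]) _ hui, e.hz]
  have hzuu : z * u * (z * u) = 1 := by
    calc z * u * (z * u) = z * (u * z) * u := by group
      _ = (z * z) * (u * u) := by rw [← hzu.eq]; group
      _ = 1 := by rw [e.z_sq, uu, mul_one]
  have hzu1 : z * u ≠ 1 := fun h => zne ((eq_inv_of_mul_eq_one_left h).trans (inv_eq_of_mul_eq_one_left uu))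
  have hdv : Nat.card Ozu ∣ 9 := by
    obtain ⟨g, hg⟩ := isConj_iff.1 (hzui ▸ e.fus _ (mulM_lt (by norm_num [zM])) (hzui ▸ hzu1) (hzui ▸ hzuu) :
      IsConj z (z * u))
    exact (hg ▸ e.conj g).card_odd_le (hOo.of_dvd_nat (Subgroup.card_dvd_of_le inf_le_left))
      fun x hx => Subgroup.mem_centralizer_singleton_iff.1 (Subgroup.mem_inf.1 hx).2
  -- the image of w under the swap
  set b := f 12
  set w2 := b * w * b⁻¹ with hw2
  have hb6 : b * f 6 * b⁻¹ = f 6 := by
    rw [e.rel (by norm_num) (by norm_num) (by norm_num) (by norm_num) c6, mul_inv_cancel_right]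
  have hbu : b * u * b⁻¹ = z * u := by
    rw [hzui, e.rel (by norm_num) hui (mulM_lt (by norm_num [zM])) (by norm_num) hub, mul_inv_cancel_right]
  have hw2R : w2 ∈ R := S.conj b (Or.inl hb6) w hwR
  have hw2O : w2 ∈ O := oddO w2 (hab _ hw2R w hwR) (odd_orderOf S.odd hw2R)
  have hw2zu : Commute w2 (z * u) := by
    have := (Commute.conj_iff b).2 hwu
    rwa [hbu] at this
  have hw21 : w2 ≠ 1 := fun h => hw1 (conj_eq_one_iff.1 h)
  have hm3 : 3 ≤ Nat.card Ozu := by
    obtain ⟨j, hj, hje⟩ := (Nat.dvd_prime_pow Nat.prime_three (m := 2)).1 (by simpa using hdv)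
    have : Nat.card Ozu ≠ 1 := fun h => hw21 (by
      rw [Subgroup.card_eq_one] at h
      exact Subgroup.mem_bot.1 (h ▸ (Subgroup.mem_inf.2 ⟨hw2O, Subgroup.mem_centralizer_singleton_iff.2 hw2zu.eq⟩ :
        w2 ∈ Ozu)))
    rw [hje] at this ⊢
    interval_cases j <;> omega
  have h243 : 243 ≤ Nat.card O := by rw [hfour]; omega
  -- the centre
  have hcenter : ∀ y ∈ O, (∀ o ∈ O, Commute o y) → y ∈ Subgroup.zpowers w := by
    intro y hyO hyc
    obtain ⟨r, hr, hr72, i, hi, rfl⟩ := S.decompP e (hyc _ (hPO hP6)).symm (hyc _ (hPO hP72)).symm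
    have hrA : r ∈ A := Subgroup.mem_inf.2 ⟨hr, Subgroup.mem_centralizer_singleton_iff.2 hr72.eq⟩
    have hrw : Commute r w := hab r hr w hwR
    have hrO : r ∈ O := oddO r hrw (odd_orderOf S.odd hr)
    have hiO : f i ∈ O := (Subgroup.mul_mem_cancel_left _ hrO).1 hyO
    obtain ⟨hi', -, hi72⟩ := six_data.1 i hi
    obtain ⟨p, hp, hpe⟩ := hPm (f i) (eOz ▸ Subgroup.mem_inf.2 ⟨hiO,
      Subgroup.mem_centralizer_singleton_iff.2 (e.comm hi').eq⟩)
    have hip : i = p := e.inj _ hi' _ (six_data.2.2.2.2.2.1 p hp).1 hpe.symm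
    have hi2 : Commute (f i) w2 := by
      have h1 : Commute (r * f i) w2 := (hyc w2 hw2O).symm
      have h2 := (hab r hr w2 hw2R).inv_left.mul_left h1
      rwa [inv_mul_cancel_left] at h2
    have hi0 : i = 0 := by
      have sel : ∀ i ∈ six, i ∈ pL → i = 0 ∨ i = 72 ∨ i = 108 := by decide +kernel
      rcases sel i hi (hip ▸ hp) with h | h | h
      · exact h
      all_goals
        exfalso
        have h72w : Commute w2 (f 72) := by
          rw [h] at hi2
          first
          | exact hi2.symm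
          | (have h108 : f 108 = (f 72)⁻¹ :=
              (inv_eq_of_mul_eq_one_right (e.rel0 (by norm_num) (by norm_num) c8)).symm
             exact (Commute.inv_left_iff.1 (h108 ▸ hi2)).symm)
        have hw2A : w2 ∈ A := Subgroup.mem_inf.2 ⟨hw2R, Subgroup.mem_centralizer_singleton_iff.2 h72w.eq⟩
        have hbz : z * b = b * z := (e.comm (by norm_num)).eq.symm
        have hw2z : z * w2 * z⁻¹ = w2⁻¹ := by
          rw [hw2, show z * (b * w * b⁻¹) * z⁻¹ = (z * b) * w * (z * b)⁻¹ by group, hbz,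
            show b * z * w * (b * z)⁻¹ = b * (z * w * z⁻¹) * b⁻¹ by group, hwz, ← conj_inv]
        have huw : Commute w2 u := by
          rcases invA w2 hw2A hw2z with h' | h' | h' <;> rw [h']
          exacts [Commute.one_left u, hwu, hwu.inv_left]
        have hzw : Commute w2 z := by
          have := hw2zu.mul_right huw
          rwa [mul_assoc, uu, mul_one] at this
        rw [← hzw.eq, mul_inv_cancel_right] at hw2z
        exact hw21 (eq_one_of_sq (odd_orderOf S.odd hw2R) (eq_inv_iff_mul_eq_one.1 hw2z))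
    rw [hi0, e.one, mul_one] at hyO hyc ⊢
    obtain ⟨c, i', hri, hc, hi'', hiz⟩ := S.split r hr
    have hi'A : i' ∈ A := by
      rw [show i' = c⁻¹ * r by rw [hri, inv_mul_cancel_left]]
      exact mul_mem (inv_mem (hKA (e.inK_iff.1 hc))) hrA
    have hi'w : i' ∈ Subgroup.zpowers w := by
      rcases invA i' hi'A hiz with h | h | h <;> rw [h]
      exacts [one_mem _, Subgroup.mem_zpowers w, inv_mem (Subgroup.mem_zpowers w)]
    rcases hc with hc | hc
    · rw [hri, hc, one_mul]; exact hi'w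
    exfalso
    have hcc : ∀ o ∈ O, Commute o c := by
      intro o ho
      obtain ⟨n, hn⟩ := Subgroup.mem_zpowers_iff.1 hi'w
      have h1 := (hyc o ho).mul_right (((memC o).1 (hOC ho)).zpow_right n).inv_right
      rwa [hn, hri, mul_inv_cancel_right] at h1
    have hOle : O ≤ Subgroup.centralizer ({f 6} : Set G) := fun o ho =>
      Subgroup.mem_centralizer_singleton_iff.2 (by
        rcases hc with h | h
        · exact (h ▸ hcc o ho).eq
        · have := h ▸ hcc o ho
          rw [e.f9] at this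
          exact (Commute.inv_right_iff.1 this).eq)
    have hd := Subgroup.card_dvd_of_le hOle
    rw [h14, hfour] at hd
    obtain ⟨j, hj, hje⟩ := (Nat.dvd_prime_pow Nat.prime_three (m := 2)).1 (by simpa using hdv)
    rw [hje] at hd hm3
    interval_cases j <;> first | (norm_num at hm3; done) | (norm_num at hd; done)
  have hwO : w ∈ O := oddO w (Commute.refl w) (odd_orderOf S.odd hwR)
  have cO : Nat.card O = 729 := by
    obtain ⟨j, hj, hje⟩ := (Nat.dvd_prime_pow Nat.prime_three (m := 2)).1 (by simpa using hdv)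
    rw [hfour, hje]
    rw [hje] at hm3
    interval_cases j
    · norm_num at hm3
    · exfalso
      have c243 : Nat.card O = 3 ^ 5 := by rw [hfour, hje]; norm_num
      obtain ⟨T', hOT', cT', hT'⟩ := exists_over (n := 5) (by rw [hG]; norm_num) c243
      have hle : T' ≤ O := by
        intro g hg
        refine oddO g ?_ (odd_orderOf (odd_of_three cT') hg)
        have hz : g * w * g⁻¹ ∈ Subgroup.zpowers w := hcenter _ (hT' g hg w hwO) fun o ho => by
          have h0 := hT' _ (inv_mem hg) o ho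
          rw [inv_inv] at h0
          have := (Commute.conj_iff g).2 ((memC _).1 (hOC h0))
          rwa [show g * (g⁻¹ * o * g) * g⁻¹ = o by group] at this
        obtain ⟨n, hn⟩ := Subgroup.mem_zpowers_iff.1 hz
        have hw3' : w ^ (3 : ℤ) = 1 := by exact_mod_cast hw3
        rw [← Int.mul_ediv_add_emod n 3, zpow_add, zpow_mul, hw3', one_zpow, one_mul] at hn
        refine commute_of_conj_mem_pair (odd_orderOf (odd_of_three cT') hg) ?_
        rcases (show n % 3 = 0 ∨ n % 3 = 1 ∨ n % 3 = 2 by omega) with j | j | j <;> rw [j] at hn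
        · rw [zpow_zero] at hn; exact absurd (conj_eq_one_iff.1 hn.symm) hw1
        · exact Or.inl (by rw [← hn, zpow_one])
        · refine Or.inr ?_
          rw [← hn, eq_inv_iff_mul_eq_one, ← zpow_add_one]
          exact hw3'
      have := Subgroup.card_le_of_le hle
      rw [cT', c243] at this
      norm_num at this
    · norm_num
  refine ⟨O, w, ui,
    { ui_mem := huim, wu := hwu, wz := hwz, w3 := hw3, w1 := hw1, card := cO
      le := fun o ho => (memC o).1 (hOC ho), memw := hwO, center := hcenter, nz := hnz, nu := hnu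
      cz := cOz, cu := cOu, czu := ?_, triv := htriv }⟩
  show Nat.card Ozu = 9
  omega

end Side

end CfsgG23Two
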