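import Cfsg.Agent.Lib.G23Two.CaseOne
import Cfsg.Agent.Lib.RegularPGroup

/-!
The case of centralisers of order 648 is impossible.
-/

set_option autoImplicit false

namespace CfsgG23Two

open scoped Pointwise

variable {G : Type*} [Group G] {f : ℕ → G} {z : G} [Finite G]

theorem pow_three_cases {x : G} (h3 : x ^ 3 = 1) {y : G} (hy : y ∈ Subgroup.zpowers x) :
    y = 1 ∨ y = x ∨ y = x⁻¹ := by
  obtain ⟨n, rfl⟩ := Subgroup.mem_zpowers_iff.1 hy
  have h3' : x ^ (3 : ℤ) = 1 := by exact_mod_cast h3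
  rw [show n = 3 * (n / 3) + n % 3 from (Int.mul_ediv_add_emod n 3).symm, zpow_add, zpow_mul, h3', one_zpow, one_mul]
  rcases (show n % 3 = 0 ∨ n % 3 = 1 ∨ n % 3 = 2 by omega) with j | j | j <;> rw [j]
  · exact Or.inl (zpow_zero _)
  · exact Or.inr (Or.inl (zpow_one _))
  · exact Or.inr (Or.inr (by rw [eq_inv_iff_mul_eq_one, ← zpow_add_one]; exact h3'))

set_option maxHeartbeats 1000000 in
theorem Big.absurd {O : Subgroup G} {w : G} {ui : ℕ} (B : Big f z O w ui) (e : Emb f z) {R : Subgroup G}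
    (S : Side f z R 3) (hG : Nat.card G = 4245696) : False := by
  classical
  haveI : Fact (Nat.Prime 3) := ⟨Nat.prime_three⟩
  obtain ⟨-, hu0, -, -, -, -, hui, hune, hunz⟩ := ui_data ui B.ui_mem
  set u := f ui with hu
  have uu : u * u = 1 := e.rel0 hui hui hu0
  have u1 : u ≠ 1 := fun h => hune (e.inj ui hui 0 (by norm_num) (by rw [← hu, h, e.one]))
  have hzu : Commute z u := (e.comm hui).symm
  have hucon : IsConj z u := e.fus ui hui u1 uu
  have zne : z ≠ u := fun h => hunz (e.inj ui hui zM (by norm_num [zM]) (by rw [e.hz, h]))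
  have hzuu : z * u * (z * u) = 1 := by
    calc z * u * (z * u) = z * (u * z) * u := by group
      _ = (z * z) * (u * u) := by rw [← hzu.eq]; group
      _ = 1 := by rw [e.z_sq, uu, mul_one]
  have hzu1 : z * u ≠ 1 := fun h => zne ((eq_inv_of_mul_eq_one_left h).trans (inv_eq_of_mul_eq_one_left uu))
  have hzui : z * u = f (mulM zM ui) := by rw [e.mul _ (by norm_num [zM]) _ hui, e.hz]
  have hzucon : IsConj z (z * u) :=
    hzui ▸ e.fus _ (mulM_lt (by norm_num [zM])) (hzui ▸ hzu1) (hzui ▸ hzuu)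
  have hOo : Odd (Nat.card O) := odd_of_three (n := 6) (by rw [B.card]; norm_num)
  have oddm : ∀ o ∈ O, Odd (orderOf o) := fun o ho => odd_orderOf hOo ho
  have cube : ∀ a : G, IsConj z a → ∀ o ∈ O, Commute o a → o ^ 3 = 1 := by
    intro a ha o ho hc
    obtain ⟨g, hg⟩ := isConj_iff.1 ha
    have e' : Emb (fun x => g * f x * g⁻¹) a := hg ▸ e.conj g
    exact e'.odd_three hc (oddm o ho)
  have mem3 : ∀ a, ∀ o, o ∈ O ⊓ Subgroup.centralizer ({a} : Set G) → o ∈ O ∧ Commute o a := fun a o ho =>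
    ⟨(Subgroup.mem_inf.1 ho).1, Subgroup.mem_centralizer_singleton_iff.1 (Subgroup.mem_inf.1 ho).2⟩
  have mk3 : ∀ {a o}, o ∈ O → Commute o a → o ∈ O ⊓ Subgroup.centralizer ({a} : Set G) := fun ho hc =>
    Subgroup.mem_inf.2 ⟨ho, Subgroup.mem_centralizer_singleton_iff.2 hc.eq⟩
  -- the fixed points of u
  set Pu := O ⊓ Subgroup.centralizer ({u} : Set G) with hPu
  have hwP : w ∈ Pu := mk3 B.memw B.wu
  have hwc : Nat.card (Subgroup.zpowers w) = 3 := by rw [Nat.card_zpowers, orderOf_eq_prime B.w3 B.w1]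
  obtain ⟨e0, he0, he0w⟩ : ∃ e0 ∈ Pu, e0 ∉ Subgroup.zpowers w := by
    by_contra hcon
    have := Subgroup.card_le_of_le (show Pu ≤ Subgroup.zpowers w from fun x hx => not_not.1 fun h => hcon ⟨x, hx, h⟩)
    rw [B.cu, hwc] at this
    omega
  obtain ⟨he0O, he0u⟩ := mem3 u e0 he0
  have he03 : e0 ^ 3 = 1 := cube u hucon e0 he0O he0u
  have he01 : e0 ≠ 1 := fun h => he0w (h ▸ one_mem _)
  have hcov : ∀ x ∈ Pu, ∃ a ∈ Subgroup.zpowers w, ∃ b ∈ Subgroup.zpowers e0, x = a * b := by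
    have hle : ((Subgroup.zpowers w : Set G) * (Subgroup.zpowers e0 : Set G)) ⊆ (Pu : Set G) := by
      rintro _ ⟨a, ha, b, hb, rfl⟩
      exact mul_mem (Subgroup.zpowers_le.2 hwP ha) (Subgroup.zpowers_le.2 he0 hb)
    have h := CfsgLib.Signalizer.card_mul_mul_card_inf (Subgroup.zpowers w) (Subgroup.zpowers e0)
    have hi : Nat.card (Subgroup.zpowers w ⊓ Subgroup.zpowers e0 : Subgroup G) = 1 := by
      rw [Subgroup.card_eq_one, eq_bot_iff]
      intro x hx
      obtain ⟨hx1, hx2⟩ := Subgroup.mem_inf.1 hx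
      rcases pow_three_cases he03 hx2 with rfl | rfl | rfl
      · exact one_mem _
      · exact False.elim (he0w hx1)
      · exact False.elim (he0w (by simpa using inv_mem hx1))
    rw [hi, mul_one, hwc, Nat.card_zpowers, orderOf_eq_prime he03 he01] at h
    have hset := Set.eq_of_subset_of_ncard_le hle (by
      rw [← Nat.card_coe_set_eq, ← Nat.card_coe_set_eq, h]
      exact le_of_eq B.cu) (Set.toFinite _)
    intro x hx
    rw [← SetLike.mem_coe, ← hset] at hx
    obtain ⟨a, ha, b, hb, rfl⟩ := hx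
    exact ⟨a, ha, b, hb, rfl⟩
  -- elements of O centralising Pu
  set Y := O ⊓ Subgroup.centralizer (Pu : Set G) with hY
  have hY27 : Nat.card Y ≤ 27 := by
    obtain ⟨g, hg⟩ := isConj_iff.1 hucon
    obtain ⟨P, hP9, hP6, hP72, hPm⟩ := e.exists_P
    set H := Subgroup.centralizer ({z} : Set G) with hH
    have hPH : P ≤ H := fun x hx => by
      obtain ⟨p, hp, rfl⟩ := hPm x hx
      exact Subgroup.mem_centralizer_singleton_iff.2 (e.comm (six_data.2.2.2.2.2.1 p hp).1).eq
    set Q := Pu.map (MulAut.conj g⁻¹).toMonoidHom with hQ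
    have hQH : Q ≤ H := by
      rintro _ ⟨x, hx, rfl⟩
      refine Subgroup.mem_centralizer_singleton_iff.2 ?_
      have := (Commute.conj_iff g⁻¹).2 (mem3 u x hx).2
      simp only [← hg, inv_inv] at this
      rw [show g⁻¹ * (g * z * g⁻¹) * g = z by group] at this
      simpa using this.eq
    have hQ9 : Nat.card Q = 3 ^ 2 := by
      rw [hQ, Subgroup.card_map_of_injective (MulAut.conj g⁻¹).injective, B.cu]; norm_num
    have hsyl : ∀ X : Subgroup G, X ≤ H → Nat.card X = 3 ^ 2 → ∃ T : Sylow 3 H, (T : Subgroup H) = X.subgroupOf H := by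
      intro X hX hc
      have hc' : Nat.card (X.subgroupOf H) = 3 ^ 2 := by
        rw [Nat.card_congr (Subgroup.subgroupOfEquivOfLe hX).toEquiv, hc]
      refine ⟨(IsPGroup.of_card hc').toSylow fun hd => ?_, rfl⟩
      obtain ⟨k, hk⟩ := hd
      have := (X.subgroupOf H).card_mul_index
      rw [hc', hk, e.card_cent] at this
      omega
    obtain ⟨TP, hTP⟩ := hsyl P hPH hP9
    obtain ⟨TQ, hTQ⟩ := hsyl Q hQH hQ9
    obtain ⟨h, hh⟩ := MulAction.exists_smul_eq H TP TQ
    have himg : ∀ x ∈ P, g * (h.1 * x * h.1⁻¹) * g⁻¹ ∈ Pu := by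
      intro x hx
      have hx' : h * ⟨x, hPH hx⟩ * h⁻¹ ∈ (TQ : Subgroup H) := by
        rw [← hh, Sylow.coe_subgroup_smul]
        exact Subgroup.smul_mem_pointwise_smul _ _ _ (hTP ▸ hx : (⟨x, hPH hx⟩ : H) ∈ (TP : Subgroup H))
      rw [hTQ] at hx'
      obtain ⟨y, hy, hye⟩ := hx'
      simp only [MulEquiv.coe_toMonoidHom, MulAut.conj_apply, inv_inv, Subgroup.coe_mul, Subgroup.coe_inv,
        Subgroup.subtype_apply] at hye
      rw [← hye, show g * (g⁻¹ * y * g) * g⁻¹ = y by group]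
      exact hy
    have hle : Y.map (MulAut.conj (g * h.1)⁻¹).toMonoidHom ≤
        Subgroup.centralizer ({f 6} : Set G) ⊓ Subgroup.centralizer ({f 72} : Set G) := by
      rintro _ ⟨y, hy, rfl⟩
      have key : ∀ x ∈ P, (MulAut.conj (g * h.1)⁻¹).toMonoidHom y * x = x * (MulAut.conj (g * h.1)⁻¹).toMonoidHom y := by
        intro x hx
        have h1 : Commute (g * (h.1 * x * h.1⁻¹) * g⁻¹) y := (Subgroup.mem_inf.1 hy).2 _ (himg x hx)
        have := ((Commute.conj_iff (g * h.1)⁻¹).2 h1).symm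
        rw [show (g * h.1)⁻¹ * (g * (h.1 * x * h.1⁻¹) * g⁻¹) * ((g * h.1)⁻¹)⁻¹ = x by group] at this
        exact this.eq
      exact Subgroup.mem_inf.2 ⟨Subgroup.mem_centralizer_singleton_iff.2 (key _ hP6),
        Subgroup.mem_centralizer_singleton_iff.2 (key _ hP72)⟩
    have h1 := Subgroup.card_dvd_of_le hle
    rw [Subgroup.card_map_of_injective (MulAut.conj (g * h.1)⁻¹).injective, S.card_CP e] at h1
    have h2 := Subgroup.card_dvd_of_le (inf_le_left : Y ≤ O)
    rw [B.card] at h2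
    refine Nat.le_of_dvd (by norm_num) ?_
    have h3 := Nat.dvd_gcd h1 h2
    norm_num at h3
    exact h3
  -- the quotient
  set Kw := (Subgroup.zpowers w).subgroupOf O with hKw
  haveI hKn : Kw.Normal := ⟨fun k hk g => by
    rw [Subgroup.mem_subgroupOf] at hk ⊢
    obtain ⟨n, hn⟩ := Subgroup.mem_zpowers_iff.1 hk
    show (g : G) * k * (g : G)⁻¹ ∈ _
    rw [← hn, ((B.le g g.2).zpow_right n).eq, mul_inv_cancel_right, hn]
    exact hk⟩
  have hwO : Subgroup.zpowers w ≤ O := Subgroup.zpowers_le.2 B.memw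
  set Qb := O ⧸ Kw
  have hcard : Nat.card Qb = 243 := by
    have h := Subgroup.card_mul_index Kw
    rw [Nat.card_congr (Subgroup.subgroupOfEquivOfLe hwO).toEquiv, hwc, Subgroup.index_eq_card, B.card] at h
    show Nat.card (O ⧸ Kw) = 243
    omega
  set π := QuotientGroup.mk' Kw with hπ
  have πsurj : Function.Surjective π := QuotientGroup.mk'_surjective Kw
  have πeq : ∀ x : O, π x = 1 ↔ (x : G) ∈ Subgroup.zpowers w := fun x =>
    (QuotientGroup.eq_one_iff x).trans Iff.rfl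
  have hwfix : ∀ x ∈ Subgroup.zpowers w, u * x * u⁻¹ = x := by
    intro x hx
    obtain ⟨n, rfl⟩ := Subgroup.mem_zpowers_iff.1 hx
    rw [(B.wu.symm.zpow_right n).eq, mul_inv_cancel_right]
  let cu : O →* O := MonoidHom.mk' (fun x => ⟨u * x * u⁻¹, B.nu x x.2⟩) fun x y => Subtype.ext (by push_cast; group)
  have hcu : Kw ≤ Kw.comap cu := fun x hx => by
    show u * (x : G) * u⁻¹ ∈ Subgroup.zpowers w
    rw [hwfix (x : G) hx]; exact hx
  let ub : Qb →* Qb := QuotientGroup.map Kw Kw cu hcu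
  have hub : ∀ x : O, ub (π x) = π (cu x) := fun x => rfl
  have hub2 : ∀ x, ub (ub x) = x := fun x => by
    obtain ⟨o, rfl⟩ := πsurj x
    rw [hub, hub]
    refine congrArg π (Subtype.ext ?_)
    show u * (u * o * u⁻¹) * u⁻¹ = o
    rw [show u * (u * (o : G) * u⁻¹) * u⁻¹ = (u * u) * o * (u * u)⁻¹ by group, uu]
    group
  set eb : Qb := π ⟨e0, he0O⟩ with heb
  have hueb : ub eb = eb := by
    rw [heb, hub]
    refine congrArg π (Subtype.ext ?_)
    show u * e0 * u⁻¹ = e0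
    rw [← he0u.eq, mul_inv_cancel_right]
  have heb3 : eb ^ 3 = 1 := by
    rw [heb, ← map_pow, show (⟨e0, he0O⟩ : O) ^ 3 = 1 from Subtype.ext (by push_cast; exact he03), map_one]
  have heb1 : eb ≠ 1 := fun h => he0w ((πeq _).1 h)
  set Cb := Subgroup.centralizer ({eb} : Set Qb) with hCb
  -- the centraliser of the fixed element is small
  have hCb9 : Nat.card Cb ≤ 9 := by
    set X := (Cb.comap π).map O.subtype with hX
    have cX : Nat.card X = 3 * Nat.card Cb := by
      rw [hX, Subgroup.card_map_of_injective O.subtype_injective]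
      have := QuotientGroup.preimageMkEquivSubgroupProdSet Kw (Cb : Set Qb)
      rw [← hwc, ← Nat.card_congr (Subgroup.subgroupOfEquivOfLe hwO).toEquiv, ← Nat.card_prod]
      exact Nat.card_congr this
    have hXo : Odd (Nat.card X) := hOo.of_dvd_nat (Subgroup.card_dvd_of_le (Subgroup.map_subtype_le _))
    have hXn : ∀ x ∈ X, u * x * u⁻¹ ∈ X := by
      rintro _ ⟨x, hx, rfl⟩
      refine ⟨cu x, ?_, rfl⟩
      show π (cu x) ∈ Cb
      rw [← hub]
      have := (Subgroup.mem_centralizer_singleton_iff.1 hx : π x * eb = eb * π x)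
      exact Subgroup.mem_centralizer_singleton_iff.2 (by rw [← hueb, ← map_mul, this, map_mul])
    have hYo : Odd (Nat.card Y) := hOo.of_dvd_nat (Subgroup.card_dvd_of_le inf_le_left)
    have hYn : ∀ y ∈ Y, u * y * u⁻¹ ∈ Y := by
      intro y hy
      refine Subgroup.mem_inf.2 ⟨B.nu y (Subgroup.mem_inf.1 hy).1, fun p hp => ?_⟩
      have h1 : Commute p y := (Subgroup.mem_inf.1 hy).2 p hp
      have := (Commute.conj_iff u).2 h1
      rwa [show u * p * u⁻¹ = p by rw [← (mem3 u p hp).2.eq, mul_inv_cancel_right]] at this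
    have hPucomm : ∀ p ∈ Pu, ∀ q ∈ Pu, Commute p q := by
      intro p hp q hq
      obtain ⟨a, ha, b, hb, rfl⟩ := hcov p hp
      obtain ⟨a', ha', b', hb', rfl⟩ := hcov q hq
      obtain ⟨n, rfl⟩ := Subgroup.mem_zpowers_iff.1 ha
      obtain ⟨m, rfl⟩ := Subgroup.mem_zpowers_iff.1 hb
      obtain ⟨n', rfl⟩ := Subgroup.mem_zpowers_iff.1 ha'
      obtain ⟨m', rfl⟩ := Subgroup.mem_zpowers_iff.1 hb'
      have hew : Commute e0 w := B.le e0 he0O
      exact (((Commute.refl w).zpow_zpow n n').mul_right (hew.symm.zpow_zpow n m')).mul_left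
        ((hew.zpow_zpow m n').mul_right ((Commute.refl e0).zpow_zpow m m'))
    have hfixY : Nat.card {c : G // c ∈ Y ∧ Commute u c} = 9 := by
      rw [← B.cu]
      exact Nat.card_congr (Equiv.subtypeEquivRight fun c => ⟨fun h => mk3 (Subgroup.mem_inf.1 h.1).1 h.2.symm,
        fun h => ⟨Subgroup.mem_inf.2 ⟨(mem3 u c h).1, fun p hp => hPucomm p hp c h⟩, (mem3 u c h).2.symm⟩⟩)
    have hfixX : Nat.card {c : G // c ∈ X ∧ Commute u c} ≤ 9 := by
      rw [← B.cu]
      refine Nat.card_le_card_of_injective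
        (fun c => (⟨c.1, mk3 (Subgroup.map_subtype_le _ c.2.1) c.2.2.symm⟩ : Pu)) fun a b h =>
          Subtype.ext (congrArg Subtype.val h :)
    have hinv : Nat.card {i : G // i ∈ X ∧ u * i * u⁻¹ = i⁻¹} ≤ Nat.card {i : G // i ∈ Y ∧ u * i * u⁻¹ = i⁻¹} := by
      refine Nat.card_le_card_of_injective (fun i => ⟨i.1, ?_, i.2.2⟩) fun a b h =>
        Subtype.ext (congrArg Subtype.val h :)
      obtain ⟨⟨x, hxX, hxe⟩, hiu⟩ := i.2
      have hiO : (i : G) ∈ O := Subgroup.map_subtype_le _ i.2.1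
      have hk : e0⁻¹ * (i.1 * e0 * i.1⁻¹) ∈ Subgroup.zpowers w := by
        have h1 : π x * eb = eb * π x := Subgroup.mem_centralizer_singleton_iff.1 hxX
        have h2 : π (⟨e0, he0O⟩⁻¹ * (x * ⟨e0, he0O⟩ * x⁻¹)) = 1 := by
          rw [map_mul, map_mul, map_mul, map_inv, map_inv, ← heb, h1, mul_inv_cancel_right, inv_mul_cancel]
        have h3 := (πeq _).1 h2
        rw [← hxe]
        simpa using h3
      set k := e0⁻¹ * (i.1 * e0 * i.1⁻¹) with hkd
      have hie : i.1 * e0 * i.1⁻¹ = e0 * k := by rw [hkd, mul_inv_cancel_left]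
      have hek : Commute k e0 := by
        obtain ⟨n, hn⟩ := Subgroup.mem_zpowers_iff.1 hk
        rw [← hn]; exact ((B.le e0 he0O).zpow_right n).symm
      have hik : Commute k i.1 := by
        obtain ⟨n, hn⟩ := Subgroup.mem_zpowers_iff.1 hk
        rw [← hn]; exact ((B.le i.1 hiO).zpow_right n).symm
      have h1 := congrArg (fun v => u * v * u⁻¹) hie
      rw [show u * (i.1 * e0 * i.1⁻¹) * u⁻¹ = (u * i.1 * u⁻¹) * (u * e0 * u⁻¹) * (u * i.1 * u⁻¹)⁻¹ by group,
        hiu, ← he0u.eq, mul_inv_cancel_right, inv_inv,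
        show u * (e0 * k) * u⁻¹ = (u * e0 * u⁻¹) * (u * k * u⁻¹) by group, hwfix k hk, ← he0u.eq,
        mul_inv_cancel_right] at h1
      have h4 : e0 = e0 * k * k := by
        calc e0 = i.1⁻¹ * (i.1 * e0 * i.1⁻¹) * i.1 := by group
          _ = (i.1⁻¹ * e0) * (k * i.1) := by rw [hie]; group
          _ = (i.1⁻¹ * e0 * i.1) * k := by rw [hik.eq]; group
          _ = e0 * k * k := by rw [h1]
      have hk1 : k = 1 := eq_one_of_sq (oddm k (hwO hk)) (mul_eq_left.1 (by rw [← mul_assoc]; exact h4.symm))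
      rw [hk1, mul_one] at hie
      refine Subgroup.mem_inf.2 ⟨hiO, fun p hp => ?_⟩
      obtain ⟨a, ha, b, hb, rfl⟩ := hcov p hp
      obtain ⟨n, rfl⟩ := Subgroup.mem_zpowers_iff.1 ha
      obtain ⟨m, rfl⟩ := Subgroup.mem_zpowers_iff.1 hb
      exact ((((B.le i.1 hiO).zpow_right n).mul_right
        ((show Commute i.1 e0 from mul_inv_eq_iff_eq_mul.1 hie).zpow_right m))).symm.eq
    have h1 := card_fixed_inverted hXo uu hXn
    have h2 := card_fixed_inverted hYo uu hYn
    rw [hfixY] at h2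
    have h3 : Nat.card {i : G // i ∈ Y ∧ u * i * u⁻¹ = i⁻¹} ≤ 3 := by omega
    have h4 := Nat.mul_le_mul hfixX (hinv.trans h3)
    omega
  -- the fixed element avoids the derived group
  have hpQ : IsPGroup 3 Qb := IsPGroup.of_card (n := 5) (by rw [hcard]; norm_num)
  have hcomm : eb ∉ commutator Qb := by
    intro hmem
    obtain ⟨g, hg⟩ : ∃ g : Qb, g * eb ≠ eb * g := by
      by_contra hcon
      have : Cb = ⊤ := eq_top_iff.2 fun x _ =>
        Subgroup.mem_centralizer_singleton_iff.2 (not_not.1 fun h => hcon ⟨x, h⟩)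
      rw [this, Subgroup.card_top, hcard] at hCb9
      omega
    have hle : Nat.card (commutator Qb) ≤ 27 := by
      obtain ⟨j, hj, hje⟩ := (Nat.dvd_prime_pow Nat.prime_three (m := 5)).1
        (show Nat.card (commutator Qb) ∣ 3 ^ 5 by
          rw [show (3 : ℕ) ^ 5 = Nat.card Qb by rw [hcard]; norm_num]; exact Subgroup.card_subgroup_dvd_card _)
      rw [hje]
      by_contra hbig
      have hj4 : 4 ≤ j := by
        by_contra h
        exact hbig ((Nat.pow_le_pow_right (by norm_num) (show j ≤ 3 by omega)).trans (le_of_eq (by norm_num)))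
      interval_cases j
      · obtain ⟨x, hx⟩ : ∃ x : Qb, x ∉ commutator Qb := by
          by_contra hcon
          have : commutator Qb = ⊤ := eq_top_iff.2 fun x _ => not_not.1 fun h => hcon ⟨x, h⟩
          exact CfsgLib.Regular.commutator_ne_top hpQ hg this
        refine CfsgLib.Regular.zpowers_sup_commutator_ne_top hpQ hg x (Subgroup.eq_top_of_card_eq _ ?_)
        obtain ⟨i, hi, hie⟩ := (Nat.dvd_prime_pow Nat.prime_three (m := 5)).1
          (show Nat.card (Subgroup.zpowers x ⊔ commutator Qb : Subgroup Qb) ∣ 3 ^ 5 by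
            rw [show (3 : ℕ) ^ 5 = Nat.card Qb by rw [hcard]; norm_num]; exact Subgroup.card_subgroup_dvd_card _)
        have hgt : 81 < Nat.card (Subgroup.zpowers x ⊔ commutator Qb : Subgroup Qb) := by
          have hle : commutator Qb ≤ Subgroup.zpowers x ⊔ commutator Qb := le_sup_right
          refine lt_of_le_of_ne (le_trans (le_of_eq (by rw [hje]; norm_num)) (Subgroup.card_le_of_le hle)) fun h => hx ?_
          have h81 : Nat.card (Subgroup.zpowers x ⊔ commutator Qb : Subgroup Qb) ≤ Nat.card (commutator Qb) := by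
            rw [hje, ← h]; norm_num
          rw [Subgroup.eq_of_le_of_card_ge hle h81]
          exact Subgroup.mem_sup_left (Subgroup.mem_zpowers x)
        rw [hcard]
        rw [hie] at hgt ⊢
        interval_cases i <;> omega
      · exact CfsgLib.Regular.commutator_ne_top hpQ hg (Subgroup.eq_top_of_card_eq _ (by rw [hje, hcard]; norm_num))
    have hn : (commutator Qb).Normal := inferInstance
    let F : Qb ⧸ Cb → {x : commutator Qb // x ≠ 1} := fun q =>
      ⟨⟨q.out * eb * q.out⁻¹, hn.conj_mem eb hmem q.out⟩, fun h => heb1 (conj_eq_one_iff.1 (congrArg Subtype.val h))⟩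
    have hF : Function.Injective F := by
      intro q q' h
      have h' : q.out * eb * q.out⁻¹ = q'.out * eb * q'.out⁻¹ :=
        congrArg (fun x : {x : commutator Qb // x ≠ 1} => (x.1 : Qb)) h
      rw [← QuotientGroup.out_eq' q, ← QuotientGroup.out_eq' q', QuotientGroup.eq]
      refine Subgroup.mem_centralizer_singleton_iff.2 ?_
      calc q.out⁻¹ * q'.out * eb = q.out⁻¹ * (q'.out * eb * q'.out⁻¹) * q'.out := by group
        _ = eb * (q.out⁻¹ * q'.out) := by rw [← h']; group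
    have h1 := Nat.card_le_card_of_injective F hF
    have h2 : Nat.card {x : commutator Qb // x ≠ 1} + 1 = Nat.card (commutator Qb) := by
      haveI := Fintype.ofFinite (commutator Qb)
      rw [Nat.card_eq_fintype_card, Nat.card_eq_fintype_card, Fintype.card_subtype_compl, Fintype.card_subtype_eq]
      have := Fintype.card_pos (α := commutator Qb)
      omega
    have h3 := Cb.card_eq_card_quotient_mul_card_subgroup
    rw [hcard] at h3
    have : Nat.card (Qb ⧸ Cb) * Nat.card Cb ≤ 26 * 9 := Nat.mul_le_mul (by omega) hCb9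
    omega
  -- the inverted subgroup of index three
  let Φ : Qb →* Abelianization Qb := Abelianization.of.comp ub * Abelianization.of
  have hΦ : ∀ x, Φ x = Abelianization.of (ub x) * Abelianization.of x := fun x => rfl
  set E := Φ.ker with hE
  have hEmem : ∀ x, x ∈ E ↔ Φ x = 1 := fun x => MonoidHom.mem_ker
  have hebE : eb ∉ E := fun h => hcomm (by
    rw [hEmem, hΦ, hueb, ← pow_two] at h
    have h3 : (Abelianization.of eb) ^ 3 = 1 := by rw [← map_pow, heb3, map_one]
    rw [pow_succ, h, one_mul] at h3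
    rw [← Abelianization.ker_of Qb]
    exact h3)
  have hEub : ∀ x ∈ E, ub x ∈ E := fun x hx => by
    rw [hEmem, hΦ] at hx ⊢
    rw [hub2, mul_comm]; exact hx
  have hfix : ∀ x ∈ E, ub x = x → x = 1 := by
    intro x hx hxu
    obtain ⟨o, rfl⟩ := πsurj x
    have h1 : π (o⁻¹ * cu o) = 1 := by rw [map_mul, map_inv, ← hub, hxu, inv_mul_cancel]
    obtain ⟨n, hn, -, hc⟩ := fix_factor (N := Subgroup.zpowers w) (by rw [hwc]; decide) uu
      (g := (o : G)) (by
        have := (πeq _).1 h1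
        simpa [cu] using this)
    obtain ⟨a, ha, b, hb, hab⟩ := hcov _ (mk3 (mul_mem o.2 (hwO hn)) hc.symm)
    have hbO : b ∈ O := Subgroup.zpowers_le.2 he0O hb
    have hπ : π o = π ⟨b, hbO⟩ := by
      have heq : o = ⟨a, hwO ha⟩ * ⟨b, hbO⟩ * ⟨n, hwO hn⟩⁻¹ := Subtype.ext (by
        push_cast
        rw [← hab, mul_inv_cancel_right])
      rw [heq, map_mul, map_mul, map_inv, (πeq ⟨n, hwO hn⟩).2 hn, (πeq ⟨a, hwO ha⟩).2 ha, inv_one, mul_one, one_mul]
    rw [hπ] at hx ⊢
    rcases pow_three_cases he03 hb with h | h | h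
    · exact (πeq ⟨b, hbO⟩).2 (by rw [show ((⟨b, hbO⟩ : O) : G) = 1 from h]; exact one_mem _)
    · subst h; exact False.elim (hebE hx)
    · subst h
      refine False.elim (hebE ?_)
      have := inv_mem hx
      rwa [← map_inv, show (⟨e0⁻¹, hbO⟩ : O)⁻¹ = ⟨e0, he0O⟩ from Subtype.ext (inv_inv e0)] at this
  have hinvE : ∀ x ∈ E, ub x = x⁻¹ := by
    let ψ : E → E := fun x => ⟨x.1⁻¹ * ub x.1, mul_mem (inv_mem x.2) (hEub _ x.2)⟩
    have hψ : Function.Injective ψ := by
      intro a b h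
      have h' : a.1⁻¹ * ub a.1 = b.1⁻¹ * ub b.1 := congrArg Subtype.val h
      have h1 : ub (b.1 * a.1⁻¹) = b.1 * a.1⁻¹ := by
        rw [map_mul, map_inv, mul_inv_eq_iff_eq_mul, mul_assoc, h', mul_inv_cancel_left]
      exact Subtype.ext (mul_inv_eq_one.1 (hfix _ (mul_mem b.2 (inv_mem a.2)) h1)).symm
    intro x hx
    obtain ⟨y, hy⟩ := Finite.injective_iff_surjective.1 hψ ⟨x, hx⟩
    have hy' : y.1⁻¹ * ub y.1 = x := congrArg Subtype.val hy
    rw [← hy', map_mul, map_inv, hub2, mul_inv_rev, inv_inv]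
  have hEcomm : ∀ x ∈ E, ∀ y ∈ E, x * y = y * x := by
    intro x hx y hy
    have h := hinvE _ (mul_mem hx hy)
    rw [map_mul, hinvE x hx, hinvE y hy, mul_inv_rev] at h
    exact (Commute.inv_inv_iff.1 (h : Commute x⁻¹ y⁻¹)).eq
  -- its elements of order three
  let E0 : Subgroup Qb :=
    { carrier := {x | x ∈ E ∧ x ^ 3 = 1}
      one_mem' := ⟨one_mem _, one_pow _⟩
      mul_mem' := by
        rintro x y ⟨hx, hx3⟩ ⟨hy, hy3⟩
        exact ⟨mul_mem hx hy, by rw [(show Commute x y from hEcomm x hx y hy).mul_pow, hx3, hy3, one_mul]⟩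
      inv_mem' := by
        rintro x ⟨hx, hx3⟩
        exact ⟨inv_mem hx, by rw [inv_pow, hx3, inv_one]⟩ }
  have memE0 : ∀ x, x ∈ E0 ↔ x ∈ E ∧ x ^ 3 = 1 := fun x => Iff.rfl
  set Oz := O ⊓ Subgroup.centralizer ({z} : Set G)
  set Ozu := O ⊓ Subgroup.centralizer ({z * u} : Set G)
  have hOzinv : ∀ p ∈ Oz, u * p * u⁻¹ = p⁻¹ := inverts_of_fpf uu (hOo.of_dvd_nat (Subgroup.card_dvd_of_le inf_le_left))
    (fun p hp => mk3 (B.nu p (mem3 z p hp).1) (by
      have := (Commute.conj_iff u).2 (mem3 z p hp).2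
      rwa [← hzu.eq, mul_inv_cancel_right] at this))
    fun p hp hc => B.triv p (mem3 z p hp).1 (mem3 z p hp).2.symm hc
  have hKfix : ∀ k ∈ Ozu, Commute u k → k = 1 := fun k hk hc => by
    have h1 := (mem3 (z * u) k hk).2.mul_right hc.symm
    rw [mul_assoc, uu, mul_one] at h1
    exact B.triv k (mem3 _ k hk).1 h1.symm hc
  have hKn' : ∀ k ∈ Ozu, u * k * u⁻¹ ∈ Ozu := fun k hk => by
    refine mk3 (B.nu k (mem3 _ k hk).1) ?_
    have := (Commute.conj_iff u).2 (mem3 _ k hk).2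
    rwa [show u * (z * u) * u⁻¹ = u * z by group, ← hzu.eq] at this
  have hKodd : Odd (Nat.card Ozu) := hOo.of_dvd_nat (Subgroup.card_dvd_of_le inf_le_left)
  have hKinv : ∀ k ∈ Ozu, u * k * u⁻¹ = k⁻¹ := inverts_of_fpf uu hKodd hKn' hKfix
  have hKz : ∀ k ∈ Ozu, z * k * z⁻¹ = k⁻¹ := fun k hk => by
    have h1 : (z * u) * k * (z * u)⁻¹ = k := mul_inv_eq_iff_eq_mul.2 (mem3 _ k hk).2.symm.eq
    rw [show z * u * k * (z * u)⁻¹ = z * (u * k * u⁻¹) * z⁻¹ by group, hKinv k hk, ← conj_inv] at h1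
    exact inv_eq_iff_eq_inv.1 h1
  have inE0 : ∀ o : O, u * (o : G) * u⁻¹ = (o : G)⁻¹ → (o : G) ^ 3 = 1 → π o ∈ E0 := by
    intro o hi h3
    have hi' : cu o = o⁻¹ := Subtype.ext hi
    refine (memE0 _).2 ⟨?_, ?_⟩
    · rw [hEmem, hΦ, hub, hi', map_inv, map_inv, inv_mul_cancel]
    · rw [← map_pow, show o ^ 3 = 1 from Subtype.ext (by push_cast; exact h3), map_one]
  have hE0 : 81 ≤ Nat.card E0 := by
    have h81 : Nat.card (Oz × Ozu) = 81 := by
      rw [Nat.card_prod]
      show Nat.card (O ⊓ Subgroup.centralizer ({z} : Set G) : Subgroup G) *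
        Nat.card (O ⊓ Subgroup.centralizer ({z * u} : Set G) : Subgroup G) = 81
      rw [B.cz, B.czu]
    rw [← h81]
    refine Nat.card_le_card_of_injective (fun pk => (⟨π ⟨pk.1.1, (mem3 z _ pk.1.2).1⟩ *
        π ⟨pk.2.1, (mem3 _ _ pk.2.2).1⟩,
      mul_mem (inE0 _ (hOzinv _ pk.1.2) (cube z (IsConj.refl z) _ (mem3 z _ pk.1.2).1 (mem3 z _ pk.1.2).2))
        (inE0 _ (hKinv _ pk.2.2) (cube _ hzucon _ (mem3 _ _ pk.2.2).1 (mem3 _ _ pk.2.2).2))⟩ : E0)) ?_
    rintro ⟨⟨p, hp⟩, ⟨k, hk⟩⟩ ⟨⟨p', hp'⟩, ⟨k', hk'⟩⟩ h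
    have h' := congrArg Subtype.val h
    simp only at h'
    rw [← map_mul, ← map_mul] at h'
    have hw' := (πeq _).1 (show π ((⟨p', (mem3 z p' hp').1⟩ * ⟨k', (mem3 _ k' hk').1⟩)⁻¹ *
      (⟨p, (mem3 z p hp).1⟩ * ⟨k, (mem3 _ k hk).1⟩)) = 1 by rw [map_mul, map_inv, h', inv_mul_cancel])
    simp only [Subgroup.coe_mul, Subgroup.coe_inv] at hw'
    set p2 := p'⁻¹ * p with hp2
    set k2 := k * k'⁻¹ with hk2
    have hp2m : p2 ∈ Oz := mul_mem (inv_mem hp') hp
    have hk2m : k2 ∈ Ozu := mul_mem hk (inv_mem hk')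
    have hv : p2 * k2 ∈ Subgroup.zpowers w := by
      obtain ⟨n, hn⟩ := Subgroup.mem_zpowers_iff.1 hw'
      have hc : Commute k' ((p' * k')⁻¹ * (p * k)) := hn ▸ (B.le k' (mem3 _ k' hk').1).zpow_right n
      rw [show p2 * k2 = k' * ((p' * k')⁻¹ * (p * k)) * k'⁻¹ by rw [hp2, hk2]; group, hc.eq, mul_inv_cancel_right]
      exact hw'
    obtain ⟨n, hn⟩ := Subgroup.mem_zpowers_iff.1 hv
    have hzv : z * (p2 * k2) * z⁻¹ = (p2 * k2)⁻¹ := by rw [← hn, ← conj_zpow, B.wz, inv_zpow]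
    have hzp : z * p2 * z⁻¹ = p2 := mul_inv_eq_iff_eq_mul.2 (mem3 z p2 hp2m).2.symm.eq
    rw [show z * (p2 * k2) * z⁻¹ = (z * p2 * z⁻¹) * (z * k2 * z⁻¹) by group, hzp, hKz k2 hk2m, mul_inv_rev p2 k2] at hzv
    have e3 : k2 * p2 * k2⁻¹ = p2⁻¹ := by
      rw [mul_assoc, hzv, mul_inv_cancel_left]
    have hp21 : p2 = 1 := by
      have hc := commute_of_conj_mem_pair (oddm k2 (mem3 _ k2 hk2m).1) (Or.inr e3)
      rw [hc.eq, mul_inv_cancel_right] at e3
      exact eq_one_of_sq (oddm p2 (mem3 z p2 hp2m).1) (eq_inv_iff_mul_eq_one.1 e3)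
    have hk21 : k2 = 1 := by
      rw [hp21, one_mul] at hn
      exact hKfix k2 hk2m (hn ▸ B.wu.symm.zpow_right n)
    have e1 : p = p' := (inv_mul_eq_one.1 hp21).symm
    have e2 : k = k' := mul_inv_eq_one.1 hk21
    subst e1; subst e2; rfl
  -- the fixed element acts with few fixed points
  letI : CommGroup E0 :=
    { (inferInstance : Group E0) with
      mul_comm := fun a b => Subtype.ext (hEcomm _ ((memE0 _).1 a.2).1 _ ((memE0 _).1 b.2).1) }
  have hEn : E.Normal := MonoidHom.normal_ker Φ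
  let σ : E0 →* E0 := MonoidHom.mk' (fun x => ⟨eb * x.1 * eb⁻¹, (memE0 _).2
    ⟨hEn.conj_mem _ ((memE0 _).1 x.2).1 eb, by rw [conj_pow, ((memE0 _).1 x.2).2, mul_one, mul_inv_cancel]⟩⟩)
    fun x y => Subtype.ext (by push_cast; group)
  have h := card_le_cube (V := E0) (fun v => Subtype.ext (by push_cast; exact ((memE0 _).1 v.2).2)) σ (fun v => by
    refine Subtype.ext ?_
    show eb * (eb * (eb * v.1 * eb⁻¹) * eb⁻¹) * eb⁻¹ = v.1
    rw [show eb * (eb * (eb * v.1 * eb⁻¹) * eb⁻¹) * eb⁻¹ = (eb * (eb * eb)) * v.1 * (eb * (eb * eb))⁻¹ by group,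
      ← pow_three, heb3]
    group)
  have hfix3 : Nat.card {v : E0 // σ v = v} * 3 ≤ Nat.card Cb := by
    have hv : ∀ v : {v : E0 // σ v = v}, v.1.1 ∈ Cb := fun v => by
      have : eb * v.1.1 * eb⁻¹ = v.1.1 := congrArg Subtype.val v.2
      exact Subgroup.mem_centralizer_singleton_iff.2 (mul_inv_eq_iff_eq_mul.1 this).symm
    have h3 : Nat.card (Subgroup.zpowers eb) = 3 := by rw [Nat.card_zpowers, orderOf_eq_prime heb3 heb1]
    rw [← h3, ← Nat.card_prod]
    refine Nat.card_le_card_of_injective (fun p => (⟨p.1.1.1 * p.2.1, mul_mem (hv p.1) (by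
      exact Subgroup.zpowers_le.2 (Subgroup.mem_centralizer_singleton_iff.2 rfl) p.2.2)⟩ : Cb)) ?_
    rintro ⟨v, ⟨a, ha⟩⟩ ⟨v', ⟨a', ha'⟩⟩ h
    have h' : v.1.1 * a = v'.1.1 * a' := congrArg Subtype.val h
    have hd : a * a'⁻¹ ∈ E := by
      rw [show a * a'⁻¹ = v.1.1⁻¹ * v'.1.1 by rw [eq_inv_mul_iff_mul_eq, ← mul_assoc, h', mul_inv_cancel_right]]
      exact mul_mem (inv_mem ((memE0 _).1 v.1.2).1) ((memE0 _).1 v'.1.2).1
    rcases pow_three_cases heb3 (mul_mem ha (inv_mem ha')) with e1 | e1 | e1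
    · have ea : a = a' := mul_inv_eq_one.1 e1
      subst ea
      have ev : v = v' := Subtype.ext (Subtype.ext (mul_right_cancel h'))
      subst ev; rfl
    · exact False.elim (hebE (e1 ▸ hd))
    · exact False.elim (hebE (by
        rw [e1] at hd
        rw [← inv_inv eb]
        exact inv_mem hd))
  have : Nat.card {v : E0 // σ v = v} ^ 3 ≤ 3 ^ 3 := Nat.pow_le_pow_left (by omega) 3
  omega

namespace Side

variable {R : Subgroup G} {d : ℕ} (S : Side f z R d) (e : Emb f z)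
include S e

/-- Both centralisers contain Sylow 3-subgroups. -/
theorem d_nine {R' : Subgroup G} {d' : ℕ} (S' : Side (fun x => f (swapI x)) z R' d') (hG : Nat.card G = 4245696) :
    d = 9 ∧ d' = 9 := by
  have hd := S.d_eq e S'
  subst hd
  rcases S.dval with rfl | rfl | rfl
  · exact absurd rfl (S.ne_one e hG)
  · exfalso
    have h17 : Nat.card (Subgroup.centralizer ({f 72} : Set G)) = 648 := by
      have h := S'.cardC
      simp only [swapI_data.2.2.2.1] at h
      rw [h, S'.card]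
    obtain ⟨O, w, ui, B⟩ := S.exists_big e hG h17
    exact B.absurd e S hG
  · exact ⟨rfl, rfl⟩

end Side

end CfsgG23Two
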