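import Cfsg.Agent.Lib.G23Two.Frame
import Cfsg.Agent.Lib.ZStar.BrauerSuzuki

/-!
The centraliser of an element of order three of a factor.
-/

set_option autoImplicit false
set_option maxRecDepth 100000

namespace CfsgG23Two

variable {G : Type*} [Group G]

/-- The powers of the first element of order three. -/
def InK (f : ℕ → G) (g : G) : Prop := g = 1 ∨ g = f 6 ∨ g = f 9

/-- The structure of the centraliser of f 6. -/
structure Side (f : ℕ → G) (z : G) (R : Subgroup G) (d : ℕ) : Prop where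
  le : ∀ r ∈ R, Commute r (f 6)
  odd : Odd (Nat.card R)
  conj : ∀ g : G, g * f 6 * g⁻¹ = f 6 ∨ g * f 6 * g⁻¹ = f 9 → ∀ r ∈ R, g * r * g⁻¹ ∈ R
  decomp : ∀ g : G, Commute g (f 6) → ∃ r ∈ R, ∃ b < 24, g = r * f (snd b)
  memK : ∀ g, InK f g → g ∈ R
  fixz : ∀ r ∈ R, Commute r z → InK f r
  split : ∀ r ∈ R, ∃ c i, r = c * i ∧ InK f c ∧ i ∈ R ∧ z * i * z⁻¹ = i⁻¹
  comm : ∀ r ∈ R, ∀ s ∈ R, InK f (r * s * r⁻¹ * s⁻¹)
  cube : ∀ r ∈ R, r ^ 3 = 1
  dval : d = 1 ∨ d = 3 ∨ d = 9
  card : Nat.card R = 3 * (d * d)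
  cardt : Nat.card (R ⊓ Subgroup.centralizer ({f 288} : Set G) : Subgroup G) = d
  cardzt : Nat.card (R ⊓ Subgroup.centralizer ({f 432} : Set G) : Subgroup G) = d
  cardC : Nat.card (Subgroup.centralizer ({f 6} : Set G)) = 24 * Nat.card R

theorem snd_split : ∀ x < 576, inC x = true → mulM (x % 12) (snd (x / 12 % 24)) = x := by
  have h : ((List.range 576).all fun x => !(inC x) || (mulM (x % 12) (snd (x / 12 % 24)) == x)) = true := by
    decide +kernel
  simp only [List.all_eq_true, List.mem_range, Bool.or_eq_true, beq_iff_eq, Bool.not_eq_true'] at h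
  exact fun x hx hc => (h x hx).resolve_left (by simp [hc])

theorem q8_data : (∀ q ∈ q8, mulM q q = 0 → q = 0 ∨ q = zM) ∧ mulM 6 zM = 150 ∧ mulM 9 zM = 153 := by
  decide +kernel

namespace Emb

variable {f : ℕ → G} {z : G} (e : Emb f z)
include e

theorem rel {a b c d : ℕ} (ha : a < 576) (hb : b < 576) (hc : c < 576) (hd : d < 576)
    (h : mulM a b = mulM c d) : f a * f b = f c * f d := by
  rw [← e.mul a ha b hb, h, e.mul c hc d hd]

theorem rel0 {a b : ℕ} (ha : a < 576) (hb : b < 576) (h : mulM a b = 0) : f a * f b = 1 := by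
  rw [← e.mul a ha b hb, h, e.one]

theorem f9 : f 9 = (f 6)⁻¹ :=
  (inv_eq_of_mul_eq_one_right (e.rel0 (by norm_num) (by norm_num) const_data.2.2.2.2.2.2.2.1)).symm

theorem f6_three : f 6 ^ 3 = 1 := by
  rw [← e.pow (by norm_num), const_data.2.2.2.2.2.2.2.2.2.2.2.1, e.one]

theorem f6_ne : f 6 ≠ 1 := fun h => by
  have := e.inj 6 (by norm_num) 0 (by norm_num) (by rw [h, e.one])
  omega

theorem inK_iff {g : G} : InK f g ↔ g ∈ Subgroup.zpowers (f 6) := by
  constructor
  · rintro (rfl | rfl | rfl)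
    exacts [one_mem _, Subgroup.mem_zpowers _, e.f9 ▸ inv_mem (Subgroup.mem_zpowers _)]
  · intro h
    obtain ⟨k, rfl⟩ := Subgroup.mem_zpowers_iff.1 h
    have h3 : f 6 ^ (3 : ℤ) = 1 := by exact_mod_cast e.f6_three
    rw [show k = 3 * (k / 3) + k % 3 from (Int.mul_ediv_add_emod k 3).symm, zpow_add, zpow_mul, h3, one_zpow, one_mul]
    rcases (show k % 3 = 0 ∨ k % 3 = 1 ∨ k % 3 = 2 by omega) with j | j | j <;> rw [j]
    · exact Or.inl (zpow_zero _)
    · exact Or.inr (Or.inl (zpow_one _))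
    · refine Or.inr (Or.inr ?_)
      rw [e.f9, eq_inv_iff_mul_eq_one, ← zpow_add_one]
      exact h3

theorem card_K : Nat.card (Subgroup.zpowers (f 6)) = 3 := by
  haveI : Fact (Nat.Prime 3) := ⟨Nat.prime_three⟩
  rw [Nat.card_zpowers, orderOf_eq_prime e.f6_three e.f6_ne]

/-- Odd subgroups of the centraliser of an involution of the image. -/
theorem invol_frame {u : ℕ} (hu : u < 576) (h0 : mulM u u = 0) (hne : u ≠ 0) :
    ∃ f' : ℕ → G, Emb f' (f u) := by
  obtain ⟨g, hg⟩ := isConj_iff.1 (e.fus u hu (fun h => hne (e.inj u hu 0 (by norm_num) (by rw [h, e.one])))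
    (e.rel0 hu hu h0))
  exact ⟨_, hg ▸ e.conj g⟩

variable [Finite G]

theorem card_centC : Nat.card (Subgroup.centralizer ({f 6} : Set G) ⊓ Subgroup.centralizer ({z} : Set G) :
    Subgroup G) = 72 := by
  classical
  have hnd : ((List.range 576).filter inC).Nodup := List.nodup_range.filter _
  rw [← cent_data.1, ← List.toFinset_card_of_nodup hnd, ← Nat.card_eq_finsetCard]
  have hm : ∀ y, y ∈ ((List.range 576).filter inC).toFinset ↔ y < 576 ∧ inC y = true := fun y => by
    simp [List.mem_filter]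
  refine (Nat.card_congr (Equiv.ofBijective (fun y => (⟨f y.1, Subgroup.mem_inf.2
    ⟨Subgroup.mem_centralizer_singleton_iff.2 (e.rel ((hm _).1 y.2).1 (by norm_num) (by norm_num) ((hm _).1 y.2).1
      (beq_iff_eq.1 ((hm _).1 y.2).2)),
    Subgroup.mem_centralizer_singleton_iff.2 (e.comm ((hm _).1 y.2).1).eq⟩⟩ :
      (Subgroup.centralizer ({f 6} : Set G) ⊓ Subgroup.centralizer ({z} : Set G) : Subgroup G))) ⟨fun y y' h => ?_,
      fun g => ?_⟩)).symm
  · exact Subtype.ext (e.inj _ ((hm _).1 y.2).1 _ ((hm _).1 y'.2).1 (congrArg Subtype.val h))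
  · obtain ⟨h6, hz⟩ := Subgroup.mem_inf.1 g.2
    obtain ⟨y, hy, hye⟩ := e.range g.1 (Subgroup.mem_centralizer_singleton_iff.1 hz)
    refine ⟨⟨y, (hm _).2 ⟨hy, beq_iff_eq.2 (e.inj _ (mulM_lt hy) _ (mulM_lt (by norm_num)) ?_)⟩⟩, Subtype.ext hye⟩
    rw [e.mul _ hy _ (by norm_num), e.mul _ (by norm_num) _ hy, hye]
    exact Subgroup.mem_centralizer_singleton_iff.1 h6

set_option maxHeartbeats 1000000 in
theorem exists_side : ∃ R d, Side f z R d := by
  classical
  haveI : Fact (Nat.Prime 2) := ⟨Nat.prime_two⟩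
  obtain ⟨-, hC2, hC3, hC4, hC5⟩ := cent_data
  obtain ⟨c0, c1, c2, c3, c4, c5, c6, c7, c8, c9, c10, c11, c12, c13, c14, c15, c16, c17, c18, c19, c20, c21, c22, c23⟩ :=
    const_data
  obtain ⟨q1, q2, q3, q4⟩ := qOf_data
  set C := Subgroup.centralizer ({f 6} : Set G) with hC
  have memC : ∀ g, g ∈ C ↔ Commute g (f 6) := fun g => Subgroup.mem_centralizer_singleton_iff
  set Cz := C ⊓ Subgroup.centralizer ({z} : Set G) with hCz
  have memCz : ∀ g ∈ Cz, ∃ x < 576, inC x = true ∧ f x = g := fun g hg => by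
    obtain ⟨x, hx, rfl⟩ := e.range g (Subgroup.mem_centralizer_singleton_iff.1 (Subgroup.mem_inf.1 hg).2)
    refine ⟨x, hx, beq_iff_eq.2 (e.inj _ (mulM_lt hx) _ (mulM_lt (by norm_num)) ?_), rfl⟩
    rw [e.mul _ hx _ (by norm_num), e.mul _ (by norm_num) _ hx]
    exact ((memC _).1 (Subgroup.mem_inf.1 hg).1).eq
  have inCC : ∀ x < 576, inC x = true → f x ∈ C := fun x hx h => (memC _).2
    (e.rel hx (by norm_num) (by norm_num) hx (beq_iff_eq.1 h))
  have hzC : z ∈ C := (memC _).2 (e.comm (by norm_num)).symm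
  have h6C : f 6 ∈ C := (memC _).2 (Commute.refl _)
  obtain ⟨R, hRC, hodd, hRn, hmax⟩ := exists_max_odd C
  have hK : Subgroup.zpowers (f 6) ≤ R := by
    refine hmax _ (Subgroup.zpowers_le.2 h6C) (by rw [e.card_K]; decide) fun c hc k hk => ?_
    obtain ⟨j, rfl⟩ := Subgroup.mem_zpowers_iff.1 hk
    rw [(((memC c).1 hc).zpow_right j).eq, mul_inv_cancel_right]
    exact hk
  let qHom : QuaternionGroup 2 →* G :=
    MonoidHom.mk' (fun g => f (qOf g)) fun g h => by
      show f (qOf (g * h)) = _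
      rw [q2, e.mul _ (hC5 _ (q1 g)).2 _ (hC5 _ (q1 h)).2]
  have qinj : Function.Injective qHom := fun g h he =>
    q3 g h (e.inj _ (hC5 _ (q1 g)).2 _ (hC5 _ (q1 h)).2 he)
  set Q := qHom.range with hQdef
  have hQC : Q ≤ C := by
    rintro _ ⟨g, rfl⟩
    exact inCC _ (hC5 _ (q1 g)).2 (hC5 _ (q1 g)).1
  have hQ8 : Nat.card Q = 2 ^ 3 := by
    rw [← Nat.card_congr (MonoidHom.ofInjective qinj).toEquiv, Nat.card_eq_fintype_card, QuaternionGroup.card]
    norm_num
  have zQ : z ∈ Q := by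
    obtain ⟨g, hg⟩ := q4 zM (by decide +kernel)
    exact ⟨g, by show f (qOf g) = z; rw [hg, e.hz]⟩
  have uQ : ∀ x ∈ Q, x * x = 1 → x = 1 ∨ x = z := by
    rintro _ ⟨g, rfl⟩ h2
    have hg := (hC5 _ (q1 g)).2
    rcases q8_data.1 _ (q1 g) (e.inj _ (mulM_lt hg) 0 (by norm_num) (by
      rw [e.mul _ hg _ hg, e.one]; exact h2)) with h | h
    · exact Or.inl (by show f (qOf g) = 1; rw [h, e.one])
    · exact Or.inr (by show f (qOf g) = z; rw [h, e.hz])
  have hsyl : ¬ 2 ^ 4 ∣ Nat.card C := by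
    refine not_pow_dvd_of_normalizer hQC hQ8 fun h => ?_
    have hle : Subgroup.normalizer (Q : Set G) ⊓ C ≤ Cz := by
      intro n hn
      obtain ⟨hn1, hn2⟩ := Subgroup.mem_inf.1 hn
      refine Subgroup.mem_inf.2 ⟨hn2, Subgroup.mem_centralizer_singleton_iff.2 ?_⟩
      rcases uQ _ ((Subgroup.mem_normalizer_iff.1 hn1 z).1 zQ) (by
        rw [← pow_two, conj_pow, pow_two, e.z_sq, mul_one, mul_inv_cancel]) with h | h
      · exact absurd (conj_eq_one_iff.1 h) e.z_ne
      · exact mul_inv_eq_iff_eq_mul.1 h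
    have := h.trans (Subgroup.card_dvd_of_le hle)
    rw [e.card_centC] at this
    norm_num at this
  haveI hRN : (R.subgroupOf C).Normal := ⟨fun r hr c => hRn c.1 c.2 r.1 hr⟩
  set π := QuotientGroup.mk' (R.subgroupOf C)
  have πeq : ∀ x : C, π x = 1 ↔ (x : G) ∈ R := fun x => (QuotientGroup.eq_one_iff x).trans Iff.rfl
  have hcard : Nat.card C = Nat.card R * Nat.card (C ⧸ R.subgroupOf C) := by
    rw [← Subgroup.card_mul_index (R.subgroupOf C), Nat.card_congr (Subgroup.subgroupOfEquivOfLe hRC).toEquiv,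
      Subgroup.index_eq_card]
  have disj : ∀ x ∈ Q, x ∈ R → x = 1 := by
    intro x hx hxR
    have h1 : orderOf x ∣ 2 ^ 3 := hQ8 ▸ Subgroup.orderOf_dvd_natCard Q hx
    exact orderOf_eq_one_iff.1 (Nat.dvd_one.1
      (((Nat.coprime_two_right.2 (odd_orderOf hodd hxR)).pow_right 3) ▸ Nat.dvd_gcd dvd_rfl h1))
  let qq : QuaternionGroup 2 →* C ⧸ R.subgroupOf C := π.comp (qHom.codRestrict C fun g => hQC ⟨g, rfl⟩)
  have qqinj : Function.Injective qq := (injective_iff_map_eq_one qq).2 fun g hg =>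
    (injective_iff_map_eq_one qHom).1 qinj g (disj _ ⟨g, rfl⟩ ((πeq _).1 hg))
  have hS : IsPGroup 2 qq.range := IsPGroup.of_card (n := 3) (by
    rw [← Nat.card_congr (MonoidHom.ofInjective qqinj).toEquiv, Nat.card_eq_fintype_card, QuaternionGroup.card]
    norm_num)
  have hSi : ¬ 2 ∣ qq.range.index := by
    intro h
    refine hsyl ?_
    have hq8 : Nat.card (QuaternionGroup 2) = 8 := by rw [Nat.card_eq_fintype_card, QuaternionGroup.card]
    rw [hcard, ← qq.range.card_mul_index, ← Nat.card_congr (MonoidHom.ofInjective qqinj).toEquiv, hq8]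
    obtain ⟨k, hk⟩ := h
    exact ⟨Nat.card R * k, by rw [hk]; ring⟩
  set S : Sylow 2 (C ⧸ R.subgroupOf C) := hS.toSylow hSi with hSdef
  have hSc : (S : Subgroup (C ⧸ R.subgroupOf C)) = qq.range := rfl
  have hO : ∀ N : Subgroup (C ⧸ R.subgroupOf C), N.Normal → Odd (Nat.card N) → N = ⊥ := by
    intro N hN hNo
    have hsub : R.subgroupOf C ≤ N.comap π := fun x hx => by
      show π x ∈ N
      rw [(πeq x).2 hx]; exact one_mem _
    have hodd' : Odd (Nat.card ((N.comap π).map C.subtype)) := by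
      rw [Subgroup.card_map_of_injective C.subtype_injective]
      have := QuotientGroup.preimageMkEquivSubgroupProdSet (R.subgroupOf C) (N : Set (C ⧸ R.subgroupOf C))
      have hc : Nat.card (N.comap π) = Nat.card (R.subgroupOf C) * Nat.card N := by
        rw [← Nat.card_prod]; exact Nat.card_congr this
      rw [hc, Nat.card_congr (Subgroup.subgroupOfEquivOfLe hRC).toEquiv]
      exact hodd.mul hNo
    have hle := hmax _ (Subgroup.map_subtype_le _) hodd' (by
      rintro c hc _ ⟨x, hx, rfl⟩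
      exact ⟨⟨c, hc⟩ * x * ⟨c, hc⟩⁻¹, (hN.comap π).conj_mem x hx ⟨c, hc⟩, rfl⟩)
    refine eq_bot_iff.2 fun y hy => ?_
    obtain ⟨x, rfl⟩ := QuotientGroup.mk'_surjective (R.subgroupOf C) y
    exact Subgroup.mem_bot.2 ((πeq x).2 (hle ⟨x, hy, rfl⟩))
  have hZ2 := CfsgLib.ZStar.card_center_of_quaternion S (k := 2) le_rfl
    ((MonoidHom.ofInjective qqinj).trans (MulEquiv.subgroupCongr hSc.symm)).symm hO
  have zbar : π ⟨z, hzC⟩ ∈ Subgroup.center (C ⧸ R.subgroupOf C) := by
    obtain ⟨c, hc⟩ := exists_prime_orderOf_dvd_card' (G := Subgroup.center (C ⧸ R.subgroupOf C)) 2 (by rw [hZ2])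
    have hc2 : (c : C ⧸ R.subgroupOf C) ^ 2 = 1 := by
      rw [← Subgroup.coe_pow, ← hc, pow_orderOf_eq_one]; rfl
    have hcne : (c : C ⧸ R.subgroupOf C) ≠ 1 := fun h => by
      rw [← Subgroup.orderOf_coe, h, orderOf_one] at hc; omega
    have hcS : (c : C ⧸ R.subgroupOf C) ∈ (S : Subgroup (C ⧸ R.subgroupOf C)) :=
      (S.3 (S.2.to_sup_of_normal_right (IsPGroup.of_card (n := 1) (by rw [hZ2]; norm_num))) le_sup_left).le
        (Subgroup.mem_sup_right c.2)
    rw [hSc] at hcS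
    obtain ⟨g, hg⟩ := hcS
    rcases uQ (qHom g) ⟨g, rfl⟩ (by
      rw [← map_mul, (injective_iff_map_eq_one qq).1 qqinj (g * g) (by rw [map_mul, hg, ← pow_two, hc2]), map_one])
      with h | h
    · exact absurd (by rw [← hg, (injective_iff_map_eq_one qHom).1 qinj g h, map_one]) hcne
    · rw [show π ⟨z, hzC⟩ = (c : C ⧸ R.subgroupOf C) by
        rw [← hg]; exact congrArg π (Subtype.ext h.symm)]
      exact c.2
  have hdec : ∀ g ∈ C, ∃ r ∈ R, g * r ∈ Cz := by
    intro g hg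
    have hm : g⁻¹ * (z * g * z⁻¹) ∈ R := by
      have h := Subgroup.mem_center_iff.1 zbar (π ⟨g, hg⟩)
      refine (πeq (⟨g, hg⟩⁻¹ * (⟨z, hzC⟩ * ⟨g, hg⟩ * ⟨z, hzC⟩⁻¹))).1 ?_
      rw [map_mul, map_mul, map_mul, map_inv, map_inv, ← h]
      group
    obtain ⟨n, hn, -, hc⟩ := fix_factor hodd e.z_sq hm
    exact ⟨n, hn, Subgroup.mem_inf.2 ⟨mul_mem hg (hRC hn), Subgroup.mem_centralizer_singleton_iff.2 hc.eq.symm⟩⟩
  have hfix : ∀ r ∈ R, Commute r z → InK f r := by
    intro r hr hrz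
    obtain ⟨y, hy, hyC, rfl⟩ := memCz r (Subgroup.mem_inf.2 ⟨hRC hr, Subgroup.mem_centralizer_singleton_iff.2 hrz.eq⟩)
    have hcomm : ∀ q ∈ q8, mulM y q = mulM q y := by
      intro q hq
      obtain ⟨q', hq', he⟩ := hC3 y hy hyC q hq
      have hql := (hC5 q hq).2
      have hql' := (hC5 q' hq').2
      have heq := e.rel hy hql hql' hy he
      obtain ⟨g, rfl⟩ := q4 q hq
      obtain ⟨g', rfl⟩ := q4 q' hq'
      have h1 : f (qOf g') * (f (qOf g))⁻¹ ∈ R := by
        rw [show f (qOf g') = f y * f (qOf g) * (f y)⁻¹ by rw [heq, mul_inv_cancel_right],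
          show f y * f (qOf g) * (f y)⁻¹ * (f (qOf g))⁻¹ = f y * (f (qOf g) * (f y)⁻¹ * (f (qOf g))⁻¹) by group]
        exact mul_mem hr (hRn _ (hQC ⟨g, rfl⟩) _ (inv_mem hr))
      have h2 := mul_inv_eq_one.1 (disj _ (mul_mem ⟨g', rfl⟩ (inv_mem ⟨g, rfl⟩)) h1)
      rw [he, e.inj _ hql' _ hql h2]
    have hz : z ∉ R := fun h => e.z_ne (disj z zQ h)
    have hl := hC4 y hy hyC hcomm
    simp only [List.mem_cons, List.not_mem_nil, or_false] at hl
    rcases hl with rfl | rfl | rfl | rfl | rfl | rfl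
    · exact Or.inl e.one
    · exact Or.inr (Or.inl rfl)
    · exact Or.inr (Or.inr rfl)
    · exact absurd (by rw [← e.hz]; exact hr) hz
    · refine absurd ?_ hz
      have : (f 6)⁻¹ * f 150 = z := by
        rw [← q8_data.2.1, e.mul 6 (by norm_num) zM (by norm_num [zM]), inv_mul_cancel_left, e.hz]
      rw [← this]; exact mul_mem (inv_mem (hK (Subgroup.mem_zpowers _))) hr
    · refine absurd ?_ hz
      have : (f 9)⁻¹ * f 153 = z := by
        rw [← q8_data.2.2, e.mul 9 (by norm_num) zM (by norm_num [zM]), inv_mul_cancel_left, e.hz]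
      rw [← this, e.f9, inv_inv]; exact mul_mem (hK (Subgroup.mem_zpowers _)) hr
  have kcen : ∀ c, InK f c → ∀ r ∈ R, Commute c r := fun c hc r hr => by
    obtain ⟨j, rfl⟩ := Subgroup.mem_zpowers_iff.1 (e.inK_iff.1 hc)
    exact ((memC r).1 (hRC hr)).symm.zpow_left j
  have kmem : ∀ g, InK f g → g ∈ R := fun g hg => hK (e.inK_iff.1 hg)
  have kthree : ∀ g, InK f g → g ^ 3 = 1 := fun g hg => by
    obtain ⟨j, rfl⟩ := Subgroup.mem_zpowers_iff.1 (e.inK_iff.1 hg)
    rw [← zpow_natCast, ← zpow_mul, mul_comm, zpow_mul, zpow_natCast, e.f6_three, one_zpow]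
  have hnz : ∀ r ∈ R, z * r * z⁻¹ ∈ R := hRn z hzC
  have hsplit : ∀ r ∈ R, ∃ c i, r = c * i ∧ InK f c ∧ i ∈ R ∧ z * i * z⁻¹ = i⁻¹ := by
    intro r hr
    obtain ⟨n, hn, hinv, hc⟩ := fix_factor hodd e.z_sq (mul_mem (inv_mem hr) (hnz r hr))
    exact ⟨r * n, n⁻¹, (mul_inv_cancel_right r n).symm, hfix _ (mul_mem hr hn) hc.symm, inv_mem hn,
      by rw [← conj_inv, hinv]⟩
  have hzr : ∀ r ∈ R, InK f (r * (z * r * z⁻¹)) := by
    intro r hr
    obtain ⟨c, i, rfl, hc, hi, hiz⟩ := hsplit r hr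
    have hcz : z * c * z⁻¹ = c := by
      rcases hc with rfl | rfl | rfl
      · group
      all_goals rw [← (e.comm (by norm_num)).eq, mul_inv_cancel_right]
    rw [show z * (c * i) * z⁻¹ = (z * c * z⁻¹) * (z * i * z⁻¹) by group, hcz, hiz,
      show c * i * (c * i⁻¹) = c * (i * c) * i⁻¹ by group, ← (kcen c hc i hi).eq,
      show c * (c * i) * i⁻¹ = c * c by group]
    exact e.inK_iff.2 (mul_mem (e.inK_iff.1 hc) (e.inK_iff.1 hc))
  have hcomm : ∀ r ∈ R, ∀ s ∈ R, InK f (r * s * r⁻¹ * s⁻¹) := by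
    intro r hr s hs
    have a := e.inK_iff.1 (hzr _ (inv_mem hr))
    have b := e.inK_iff.1 (hzr _ (inv_mem hs))
    have c := e.inK_iff.1 (hzr _ (mul_mem (inv_mem hr) (inv_mem hs)))
    refine e.inK_iff.2 ?_
    have k1 := kcen _ (e.inK_iff.2 a)
    have k2 := kcen _ (e.inK_iff.2 b)
    set kr := r⁻¹ * (z * r⁻¹ * z⁻¹) with hkr
    set ks := s⁻¹ * (z * s⁻¹ * z⁻¹) with hks
    have e1 : z * r⁻¹ * z⁻¹ = r * kr := by rw [hkr]; group
    have e2 : z * s⁻¹ * z⁻¹ = s * ks := by rw [hks]; group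
    rw [show z * (r⁻¹ * s⁻¹) * z⁻¹ = (z * r⁻¹ * z⁻¹) * (z * s⁻¹ * z⁻¹) by group, e1, e2,
      show r⁻¹ * s⁻¹ * (r * kr * (s * ks)) = r⁻¹ * s⁻¹ * r * (kr * s) * ks by group, (k1 s hs).eq,
      show r⁻¹ * s⁻¹ * r * (s * kr) * ks = (r⁻¹ * s⁻¹ * r * s) * (kr * ks) by group] at c
    have d := (Subgroup.mul_mem_cancel_right _ (mul_mem a b)).1 c
    have d' := kcen _ (e.inK_iff.2 d)
    rw [show r * s * r⁻¹ * s⁻¹ = r * (s * (r⁻¹ * s⁻¹ * r * s) * s⁻¹) * r⁻¹ by group, ← (d' s hs).eq,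
      mul_inv_cancel_right, ← (d' r hr).eq, mul_inv_cancel_right]
    exact d
  have n288 : f 288 * f 6 * (f 288)⁻¹ = f 9 := by
    rw [e.rel (by norm_num) (by norm_num) (by norm_num) (by norm_num) c1, mul_inv_cancel_right]
  have n432 : f 432 * f 6 * (f 432)⁻¹ = f 9 := by
    rw [e.rel (by norm_num) (by norm_num) (by norm_num) (by norm_num) c15, mul_inv_cancel_right]
  have hconj : ∀ g : G, g * f 6 * g⁻¹ = f 6 ∨ g * f 6 * g⁻¹ = f 9 → ∀ r ∈ R, g * r * g⁻¹ ∈ R := by
    intro g hg r hr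
    have hCg : ∀ c, c ∈ C → g * c * g⁻¹ ∈ C ∧ g⁻¹ * c * g ∈ C := by
      intro c hc
      have hc' := (memC c).1 hc
      constructor
      · have := (Commute.conj_iff g).2 hc'
        rcases hg with h | h <;> rw [h] at this
        · exact (memC _).2 this
        · rw [e.f9] at this; exact (memC _).2 (Commute.inv_right_iff.1 this)
      · rcases hg with h | h
        · have hh : g⁻¹ * f 6 * g = f 6 := by nth_rw 1 [← h]; group
          have := (Commute.conj_iff g⁻¹).2 hc'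
          rw [inv_inv, hh] at this
          exact (memC _).2 this
        · have hh : g⁻¹ * f 6 * g = f 9 := by
            have h' := congrArg (·⁻¹) h
            simp only [e.f9, inv_inv, ← conj_inv] at h'
            rw [e.f9]; nth_rw 1 [← h']; group
          have := (Commute.conj_iff g⁻¹).2 hc'
          rw [inv_inv, hh, e.f9] at this
          exact (memC _).2 (Commute.inv_right_iff.1 this)
    refine hmax (R.map (MulAut.conj g).toMonoidHom) ?_ ?_ ?_ ⟨r, hr, rfl⟩
    · rintro _ ⟨x, hx, rfl⟩; exact (hCg x (hRC hx)).1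
    · rw [Subgroup.card_map_of_injective (MulAut.conj g).injective]; exact hodd
    · rintro c hc _ ⟨x, hx, rfl⟩
      refine ⟨(g⁻¹ * c * g) * x * (g⁻¹ * c * g)⁻¹, hRn _ (hCg c hc).2 x hx, ?_⟩
      simp only [MulEquiv.coe_toMonoidHom, MulAut.conj_apply]
      group
  have hnt : ∀ r ∈ R, f 288 * r * (f 288)⁻¹ ∈ R := hconj _ (Or.inr n288)
  have hzt : z * f 288 = f 432 := by rw [← e.hz, ← e.mul _ (by norm_num [zM]) _ (by norm_num), c4]
  have hzt2 : Commute z (f 288) := (e.comm (by norm_num)).symm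
  have htriv : ∀ r ∈ R, Commute z r → Commute (f 288) r → r = 1 := by
    intro r hr h1 h2
    rcases hfix r hr h1.symm with h | rfl | rfl
    · exact h
    · exfalso
      rw [h2.eq, mul_inv_cancel_right] at n288
      have := e.inj 6 (by norm_num) 9 (by norm_num) n288
      omega
    · exfalso
      have h3 := e.f9 ▸ h2
      rw [(Commute.inv_right_iff.1 h3).eq, mul_inv_cancel_right] at n288
      have := e.inj 6 (by norm_num) 9 (by norm_num) n288
      omega
  have ht1 : f 288 ≠ 1 := fun h => by have := e.inj 288 (by norm_num) 0 (by norm_num) (by rw [h, e.one]); omega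
  have htz : z ≠ f 288 := fun h => by
    have := e.inj zM (by norm_num [zM]) 288 (by norm_num) (by rw [e.hz, h]); norm_num [zM] at this
  have hfour := four_card hodd e.z_sq (e.rel0 (by norm_num) (by norm_num) c0) hzt2 e.z_ne ht1 htz hnz hnt htriv
  rw [hzt] at hfour
  have hRz : R ⊓ Subgroup.centralizer ({z} : Set G) = Subgroup.zpowers (f 6) := by
    refine le_antisymm (fun r hr => e.inK_iff.1 (hfix r (Subgroup.mem_inf.1 hr).1
      (Subgroup.mem_centralizer_singleton_iff.1 (Subgroup.mem_inf.1 hr).2))) (le_inf hK (Subgroup.zpowers_le.2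
        (Subgroup.mem_centralizer_singleton_iff.2 (e.comm (by norm_num)).eq)))
  rw [hRz, e.card_K] at hfour
  -- conjugation exchanges the two involutions
  have hb : f 12 * f 288 * (f 12)⁻¹ = f 432 := by
    rw [e.rel (by norm_num) (by norm_num) (by norm_num) (by norm_num) c5, mul_inv_cancel_right]
  have hb6 : f 12 * f 6 * (f 12)⁻¹ = f 6 := by
    rw [e.rel (by norm_num) (by norm_num) (by norm_num) (by norm_num) c6, mul_inv_cancel_right]
  set Rt := R ⊓ Subgroup.centralizer ({f 288} : Set G) with hRt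
  set Rzt := R ⊓ Subgroup.centralizer ({f 432} : Set G) with hRzt
  have heq : Nat.card Rzt = Nat.card Rt := by
    have hm : Rt.map (MulAut.conj (f 12)).toMonoidHom = Rzt := by
      ext x
      simp only [Subgroup.mem_map, MulEquiv.coe_toMonoidHom, MulAut.conj_apply, hRt, hRzt, Subgroup.mem_inf,
        Subgroup.mem_centralizer_singleton_iff]
      constructor
      · rintro ⟨r, ⟨hr, hc⟩, rfl⟩
        refine ⟨hconj _ (Or.inl hb6) r hr, ?_⟩
        have := (Commute.conj_iff (f 12)).2 (show Commute r (f 288) from hc)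
        rwa [hb] at this
      · rintro ⟨hx, hc⟩
        refine ⟨(f 12)⁻¹ * x * f 12, ⟨?_, ?_⟩, by group⟩
        · have := hconj (f 12)⁻¹ (Or.inl (by rw [inv_inv]; nth_rw 1 [← hb6]; group)) x hx
          rwa [inv_inv] at this
        · have := (Commute.conj_iff (f 12)⁻¹).2 (show Commute x (f 432) from hc)
          rwa [inv_inv, show (f 12)⁻¹ * f 432 * f 12 = f 288 by rw [← hb]; group] at this
    rw [← hm, Subgroup.card_map_of_injective (MulAut.conj (f 12)).injective]
  obtain ⟨f', e'⟩ := e.invol_frame (u := 288) (by norm_num) c0 (by norm_num)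
  obtain ⟨f'', e''⟩ := e.invol_frame (u := 432) (by norm_num) c14 (by norm_num)
  have hdv : Nat.card Rt ∣ 9 := e'.card_odd_le (hodd.of_dvd_nat (Subgroup.card_dvd_of_le inf_le_left))
    fun x hx => Subgroup.mem_centralizer_singleton_iff.1 (Subgroup.mem_inf.1 hx).2
  have hdval : Nat.card Rt = 1 ∨ Nat.card Rt = 3 ∨ Nat.card Rt = 9 := by
    obtain ⟨k, hk, hke⟩ := (Nat.dvd_prime_pow Nat.prime_three (m := 2)).1 (by simpa using hdv)
    rw [hke]
    interval_cases k <;> norm_num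
  have hcube : ∀ r ∈ R, r ^ 3 = 1 := by
    intro r hr
    obtain ⟨n, hn, hinv, hc⟩ := fix_factor hodd (e.rel0 (by norm_num) (by norm_num) c0)
      (mul_mem (inv_mem hr) (hnt r hr))
    have ha3 : (r * n) ^ 3 = 1 := e'.odd_three hc.symm (odd_orderOf hodd (mul_mem hr hn))
    obtain ⟨c, j, hcj, hcK, hj, hjz⟩ := hsplit n⁻¹ (inv_mem hn)
    have htc : f 288 * c * (f 288)⁻¹ = c⁻¹ := by
      rcases hcK with rfl | rfl | rfl
      · group
      · rw [n288, e.f9]
      · rw [e.f9, ← conj_inv, n288, e.f9]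
    have htj : f 288 * j * (f 288)⁻¹ = j⁻¹ := by
      have h1 : f 288 * (c * j) * (f 288)⁻¹ = (c * j)⁻¹ := by rw [← hcj, ← conj_inv, hinv]
      rw [show f 288 * (c * j) * (f 288)⁻¹ = (f 288 * c * (f 288)⁻¹) * (f 288 * j * (f 288)⁻¹) by group, htc,
        mul_inv_rev, ← (kcen _ (e.inK_iff.2 (inv_mem (e.inK_iff.1 hcK))) _ (inv_mem hj)).eq] at h1
      exact mul_left_cancel h1
    have hjc : Commute j (f 432) := by
      show j * f 432 = f 432 * j
      rw [← hzt]
      refine (mul_inv_eq_iff_eq_mul.1 ?_).symm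
      rw [show z * f 288 * j * (z * f 288)⁻¹ = z * (f 288 * j * (f 288)⁻¹) * z⁻¹ by group, htj, ← conj_inv, hjz,
        inv_inv]
    have hw3 : (c * j) ^ 3 = 1 := by
      rw [(kcen c hcK j hj).mul_pow, kthree c hcK, e''.odd_three hjc (odd_orderOf hodd hj), one_mul]
    rw [show r = (r * n) * n⁻¹ by group, hcj]
    set a := r * n
    set w := c * j
    have ham : a ∈ R := mul_mem hr hn
    have hwm : w ∈ R := mul_mem (kmem c hcK) hj
    set k := (a * w)⁻¹ * (w * a) with hk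
    have hkK : InK f k := by
      have h := hcomm _ (inv_mem hwm) _ (inv_mem ham)
      rw [inv_inv, inv_inv] at h
      rwa [hk, show (a * w)⁻¹ * (w * a) = w⁻¹ * a⁻¹ * w * a by group]
    have hwa : w * a = a * w * k := by rw [hk]; group
    have kc := kcen k hkK
    rw [pow_three] at ha3 hw3 ⊢
    calc a * w * (a * w * (a * w)) = a * (w * a) * w * (a * w) := by group
      _ = a * (a * w * k) * w * (a * w) := by rw [hwa]
      _ = a * a * w * (k * w) * (a * w) := by group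
      _ = a * a * w * (w * k) * (a * w) := by rw [(kc w hwm).eq]
      _ = a * a * w * w * (k * a) * w := by group
      _ = a * a * w * w * (a * k) * w := by rw [(kc a ham).eq]
      _ = a * a * w * (w * a) * (k * w) := by group
      _ = a * a * w * (a * w * k) * (w * k) := by rw [hwa, (kc w hwm).eq]
      _ = a * a * (w * a) * w * (k * w) * k := by group
      _ = a * a * (a * w * k) * w * (w * k) * k := by rw [hwa, (kc w hwm).eq]
      _ = a * a * a * w * (k * w) * w * k * k := by group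
      _ = a * a * a * w * (w * k) * w * k * k := by rw [(kc w hwm).eq]
      _ = a * a * a * w * w * (k * w) * k * k := by group
      _ = a * a * a * w * w * (w * k) * k * k := by rw [(kc w hwm).eq]
      _ = (a * (a * a)) * (w * (w * w)) * (k * (k * k)) := by group
      _ = 1 := by rw [ha3, hw3, ← pow_three, kthree k hkK, mul_one, mul_one]
  refine ⟨R, Nat.card Rt,
    { le := fun r hr => (memC r).1 (hRC hr), odd := hodd, conj := hconj, decomp := ?_, memK := kmem, fixz := hfix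
      split := hsplit, comm := hcomm, cube := hcube, dval := hdval
      card := by rw [hfour, heq]; ring
      cardt := rfl, cardzt := heq, cardC := ?_ }⟩
  · intro g hg
    obtain ⟨r, hr, hgr⟩ := hdec g ((memC g).2 hg)
    obtain ⟨x, hx, hxC, hxe⟩ := memCz _ hgr
    obtain ⟨hs, ha⟩ := hC2 x hx hxC
    have hb : x / 12 % 24 < 24 := Nat.mod_lt _ (by norm_num)
    have ha' : f (x % 12) ∈ R := by
      rcases ha with h | h | h <;> rw [h]
      exacts [e.one ▸ one_mem R, kmem _ (Or.inr (Or.inl rfl)), kmem _ (Or.inr (Or.inr rfl))]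
    obtain ⟨hsl, hsC⟩ := snd_data.1 _ hb
    refine ⟨f (x % 12) * (f (snd (x / 12 % 24)) * r⁻¹ * (f (snd (x / 12 % 24)))⁻¹),
      mul_mem ha' (hRn _ (inCC _ hsl hsC) _ (inv_mem hr)), _, hb, ?_⟩
    rw [show g = g * r * r⁻¹ by group, ← hxe]
    conv_lhs => rw [← snd_split x hx hxC, e.mul _ (by omega) _ hsl]
    group
  · rw [hcard, mul_comm]
    congr 1
    set ψ : Cz →* C ⧸ R.subgroupOf C := π.comp (Subgroup.inclusion inf_le_left) with hψ
    have surj : Function.Surjective ψ := by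
      intro y
      obtain ⟨g, rfl⟩ := QuotientGroup.mk'_surjective (R.subgroupOf C) y
      obtain ⟨r, hr, hgr⟩ := hdec g.1 g.2
      refine ⟨⟨_, hgr⟩, ?_⟩
      show π (g * ⟨r, hRC hr⟩) = π g
      rw [map_mul, (πeq ⟨r, hRC hr⟩).2 hr, mul_one]
    have hker : Nat.card ψ.ker = 3 := by
      rw [← e.card_K, ← hRz]
      exact Nat.card_congr
        { toFun := fun x => ⟨x.1.1, Subgroup.mem_inf.2 ⟨(πeq _).1 x.2, (Subgroup.mem_inf.1 x.1.2).2⟩⟩
          invFun := fun x => ⟨⟨x.1, Subgroup.mem_inf.2 ⟨hRC (Subgroup.mem_inf.1 x.2).1, (Subgroup.mem_inf.1 x.2).2⟩⟩,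
            (πeq _).2 (Subgroup.mem_inf.1 x.2).1⟩
          left_inv := fun x => rfl, right_inv := fun x => rfl }
    have := ψ.ker.card_mul_index
    rw [hker, Subgroup.index_ker, MonoidHom.range_eq_top.2 surj, Subgroup.card_top,
      show Nat.card Cz = 72 from e.card_centC] at this
    omega

end Emb

end CfsgG23Two
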