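import Cfsg.Agent.Lib.G23Two.Emb
import Cfsg.Agent.Lib.CharTheory.Irr
import Cfsg.Agent.Lib.CharTheory.Linear

/-!
The functions are generalised characters of the centraliser.
-/

set_option autoImplicit false

namespace CfsgG23Two

open Cfsg CfsgLib.CharTheory

open scoped ComplexConjugate

/-- A primitive twelfth root of unity. -/
noncomputable def ω : ℂ := (Real.sqrt 3 : ℂ) / 2 + Complex.I / 2

theorem ω_four : ω ^ 4 = ω ^ 2 - 1 := by
  have h3 : ((Real.sqrt 3 : ℂ)) ^ 2 = 3 := by
    rw [← Complex.ofReal_pow, Real.sq_sqrt (by norm_num : (0 : ℝ) ≤ 3)]; norm_num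
  rw [ω]
  linear_combination (((Real.sqrt 3 : ℂ)) ^ 2 / 16 + (Real.sqrt 3 : ℂ) * Complex.I / 4 +
    3 * Complex.I ^ 2 / 8 - 1 / 16) * h3 + ((Real.sqrt 3 : ℂ) * Complex.I / 4 + Complex.I ^ 2 / 16 + 13 / 16) *
    Complex.I_sq

theorem ω_twelve : ω ^ 12 = 1 := by
  linear_combination (ω ^ 8 + ω ^ 6 - ω ^ 2 - 1) * ω_four

theorem ω_eval (e : ℕ) : (zt e 0 : ℂ) + zt e 1 * ω + zt e 2 * ω ^ 2 + zt e 3 * ω ^ 3 = ω ^ e := by
  have step : ∀ k < 12, (zt (k + 1) 0 == -zt k 3 && zt (k + 1) 1 == zt k 0 && zt (k + 1) 2 == zt k 1 + zt k 3 &&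
      zt (k + 1) 3 == zt k 2) = true := by decide +kernel
  have main : ∀ k ≤ 12, (zt k 0 : ℂ) + zt k 1 * ω + zt k 2 * ω ^ 2 + zt k 3 * ω ^ 3 = ω ^ k := by
    intro k
    induction k with
    | zero =>
      intro _
      norm_num [show zt 0 0 = 1 from rfl, show zt 0 1 = 0 from rfl, show zt 0 2 = 0 from rfl,
        show zt 0 3 = 0 from rfl]
    | succ k ih =>
      intro hk
      have h := step k (by omega)
      simp only [Bool.and_eq_true, beq_iff_eq] at h
      obtain ⟨⟨⟨a, b⟩, c⟩, d⟩ := h
      rw [a, b, c, d, show ω ^ (k + 1) = ω ^ k * ω from pow_succ ω k, ← ih (by omega)]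
      push_cast
      linear_combination (-(zt k 3 : ℂ)) * ω_four
  have he : ω ^ e = ω ^ (e % 12) := by
    conv_lhs => rw [← Nat.mod_add_div e 12, pow_add, pow_mul, ω_twelve, one_pow, mul_one]
  rw [he, ← main (e % 12) (Nat.mod_lt _ (by norm_num)).le]
  simp [zt, Nat.mod_mod]

/-- The sum over the classes. -/
theorem sum_classes {M : Type*} [AddCommMonoid M] (F : ℕ → M) :
    ∑ x ∈ Finset.range 576, F x = ∑ c ∈ Finset.range 20, ∑ x ∈ (Finset.range 576).filter (fun x => cls x = c), F x :=
  (Finset.sum_fiberwise_of_maps_to (fun x hx => Finset.mem_range.2 (cls_data (Finset.mem_range.1 hx)).1) _).symm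

theorem card_class {c : ℕ} (hc : c < 20) : ((Finset.range 576).filter fun x => cls x = c).card = sizeOf' c := by
  rw [← (rep_data.1 c hc).2.2.1]
  show _ = _
  rw [Finset.card_def, Finset.filter_val, Finset.range_val, Multiset.range, Multiset.filter_coe, Multiset.coe_card]
  congr 2

theorem class_values {G : Type*} [Group G] {f : ℕ → G} {z : G} (e : Emb f z) {F : G → ℂ}
    (hF : IsClassFunction G F) (w : ℕ → ℂ) :
    ∑ x ∈ Finset.range 576, w (cls x) * F (f x) =
      ∑ c ∈ Finset.range 20, (sizeOf' c : ℂ) * w c * F (f (repOf c)) := by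
  rw [sum_classes]
  refine Finset.sum_congr rfl fun c hc => ?_
  rw [Finset.sum_congr rfl (fun x hx => show w (cls x) * F (f x) = w c * F (f (repOf c)) by
    obtain ⟨hx1, hx2⟩ := Finset.mem_filter.1 hx
    rw [hx2, ← e.conj_rep (Finset.mem_range.1 hx1), hx2, hF]), Finset.sum_const,
    card_class (Finset.mem_range.1 hc), nsmul_eq_mul, mul_assoc]

/-- The sum of a function against a character. -/
noncomputable def pairing {G : Type*} (f : ℕ → G) (t : ℕ) (F : G → ℂ) : ℂ :=
  ∑ x ∈ Finset.range 576, (val t (cls x) : ℂ) * F (f x)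

/-- The sum over a subgroup with a linear character. -/
theorem sub_sum {G : Type*} [Group G] [Finite G] {f : ℕ → G} {z : G} (e : Emb f z) {K : List (ℕ × ℕ)}
    (hK : subOK K = true) {χ : G → ℂ} (hχ : IsCharacter G χ) :
    ∃ m : ℕ, (K.map fun p => ω ^ p.2 * χ (f p.1)).sum = (K.length : ℂ) * m := by
  classical
  simp only [subOK, Bool.and_eq_true, decide_eq_true_eq, List.contains_iff_mem, beq_iff_eq, List.all_eq_true] at hK
  obtain ⟨⟨⟨hnd, h0⟩, -⟩, hall⟩ := hK
  let S : Set G := {g | ∃ p ∈ K, f p.1 = g}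
  have hmul : ∀ p ∈ K, ∀ q ∈ K, (mulM p.1 q.1, (p.2 + q.2) % 12) ∈ K := fun p hp q hq => (hall p hp).2 q hq
  let T : Submonoid G :=
    { carrier := S
      one_mem' := ⟨(0, 0), h0, e.one⟩
      mul_mem' := by
        rintro _ _ ⟨p, hp, rfl⟩ ⟨q, hq, rfl⟩
        exact ⟨_, hmul p hp q hq, e.mul _ (hall p hp).1.1 _ (hall q hq).1.1⟩ }
  let H : Subgroup G :=
    { T with
      inv_mem' := by
        intro g hg
        have hu : g ^ (orderOf g - 1) = g⁻¹ := by
          rw [eq_inv_iff_mul_eq_one, ← pow_succ, Nat.sub_add_cancel (orderOf_pos g), pow_orderOf_eq_one]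
        exact hu ▸ T.pow_mem hg _ }
  have uniq : ∀ p ∈ K, ∀ q ∈ K, f p.1 = f q.1 → p = q := fun p hp q hq h =>
    List.inj_on_of_nodup_map hnd hp hq (e.inj _ (hall p hp).1.1 _ (hall q hq).1.1 h)
  have hmem : ∀ g : H, ∃ p ∈ K, f p.1 = g.1 := fun g => g.2
  choose pk hpk hpf using hmem
  let lam : H →* ℂ :=
    { toFun := fun g => ω ^ (pk g).2
      map_one' := by
        rw [show pk 1 = (0, 0) from uniq _ (hpk 1) _ h0 (by rw [hpf, e.one]; rfl), pow_zero]
      map_mul' := fun g g' => by
        have he : pk (g * g') = (mulM (pk g).1 (pk g').1, ((pk g).2 + (pk g').2) % 12) :=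
          uniq _ (hpk _) _ (hmul _ (hpk g) _ (hpk g'))
            (by rw [hpf, e.mul _ (hall _ (hpk g)).1.1 _ (hall _ (hpk g')).1.1, hpf, hpf]; rfl)
        rw [he, ← pow_add]
        conv_rhs => rw [← Nat.mod_add_div ((pk g).2 + (pk g').2) 12, pow_add, pow_mul, ω_twelve, one_pow, mul_one] }
  let ρ : Representation ℂ H (Fin 1 → ℂ) :=
    { toFun := fun g => conj (lam g) • (1 : Module.End ℂ (Fin 1 → ℂ))
      map_one' := by simp
      map_mul' := fun g g' => by rw [map_mul, map_mul, smul_mul_smul_comm, one_mul] }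
  have hρ : IsCharacter H (fun g => conj (lam g)) := by
    refine ⟨1, ρ, ?_⟩
    funext g
    show LinearMap.trace ℂ (Fin 1 → ℂ) (conj (lam g) • 1) = _
    rw [map_smul, LinearMap.trace_one]
    simp
  haveI := Fintype.ofFinite H
  obtain ⟨m, hm⟩ := classInner_char_nat (isCharacter_restrict hχ H) hρ
  refine ⟨m, ?_⟩
  have hbij : ∑ g : H, χ g * lam g = (K.map fun p => ω ^ p.2 * χ (f p.1)).sum := by
    rw [← List.sum_toFinset _ hnd.of_map]
    refine Finset.sum_bij' (fun g _ => pk g) (fun p hp => ⟨f p.1, p, List.mem_toFinset.1 hp, rfl⟩)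
      (fun g _ => List.mem_toFinset.2 (hpk g)) (fun _ _ => Finset.mem_univ _) (fun g _ => Subtype.ext (hpf g))
      (fun p hp => uniq _ (hpk _) _ (List.mem_toFinset.1 hp) (hpf _)) (fun g _ => ?_)
    show χ g * ω ^ (pk g).2 = ω ^ (pk g).2 * χ (f (pk g).1)
    rw [hpf, mul_comm]
  have hcard : Nat.card H = K.length := by
    rw [← List.toFinset_card_of_nodup hnd.of_map, ← Nat.card_eq_finsetCard]
    exact Nat.card_congr
      { toFun := fun g => ⟨pk g, List.mem_toFinset.2 (hpk g)⟩
        invFun := fun p => ⟨f p.1.1, p.1, List.mem_toFinset.1 p.2, rfl⟩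
        left_inv := fun g => Subtype.ext (hpf g)
        right_inv := fun p => Subtype.ext (uniq _ (hpk _) _ (List.mem_toFinset.1 p.2) (hpf _)) }
  simp only [classInner, Complex.conj_conj, hcard] at hm
  rw [inv_mul_eq_iff_eq_mul₀ (by
    rw [← hcard]; exact Nat.cast_ne_zero.2 Nat.card_pos.ne')] at hm
  rw [← hbij]
  exact hm

/-- The integrality of the pairings. -/
theorem pairing_int {G : Type*} [Group G] [Finite G] {f : ℕ → G} {z : G} (e : Emb f z) {χ : G → ℂ}
    (hχ : IsCharacter G χ) {t : ℕ} (ht : t < 13) : ∃ n : ℤ, pairing f t χ = 576 * n := by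
  classical
  have hcert := certsOK_true
  simp only [certsOK, List.all_eq_true, List.mem_range, beq_iff_eq] at hcert
  have hsubs := subsOK_true
  simp only [subsOK, List.all_eq_true] at hsubs
  have hF : IsClassFunction G χ := fun g h => by
    obtain ⟨n, ρ, rfl⟩ := hχ
    exact ρ.char_conj g h
  have hval : ∀ c < 20, ∑ i ∈ Finset.range 4, (certSum (certs.getD t []) c i : ℂ) * ω ^ i =
      (sizeOf' c : ℂ) * val t c := by
    intro c hc
    rw [Finset.sum_eq_single 0]
    · rw [hcert t ht c hc 0 (by norm_num)]; simp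
    · intro i hi hi0
      rw [hcert t ht c hc i (Finset.mem_range.1 hi), if_neg hi0]; simp
    · simp
  have key : ∀ C : List (ℕ × ℤ), ∃ n : ℤ, ∑ c ∈ Finset.range 20,
      (∑ i ∈ Finset.range 4, (certSum C c i : ℂ) * ω ^ i) * χ (f (repOf c)) = 576 * n := by
    intro C
    induction C with
    | nil => exact ⟨0, by simp [certSum]⟩
    | cons p C ih =>
      obtain ⟨n, hn⟩ := ih
      have hsplit : ∀ c i, (certSum (p :: C) c i : ℂ) =
          (p.2 : ℂ) * subSum (subs.getD p.1 []) c i + certSum C c i := fun c i => by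
        simp [certSum]
      simp only [hsplit, add_mul, Finset.sum_add_distrib, hn]
      by_cases hp : p.1 < subs.length
      · set K := subs.getD p.1 [] with hKd
        have hK : subOK K = true := hsubs K (by
          rw [hKd, List.getD_eq_getElem _ _ hp]; exact List.getElem_mem hp)
        obtain ⟨m, hm⟩ := sub_sum e hK hχ
        simp only [subOK, Bool.and_eq_true, decide_eq_true_eq, List.contains_iff_mem, beq_iff_eq,
          List.all_eq_true] at hK
        obtain ⟨⟨⟨-, h0⟩, hdiv⟩, hall⟩ := hK
        refine ⟨p.2 * m + n, ?_⟩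
        have hsum : ∑ c ∈ Finset.range 20, ∑ i ∈ Finset.range 4,
            ((p.2 : ℂ) * subSum K c i) * ω ^ i * χ (f (repOf c)) =
            (p.2 : ℂ) * (((576 / K.length : ℕ) : ℂ) * (K.map fun q => ω ^ q.2 * χ (f q.1)).sum) := by
          have hgen : ∀ L : List (ℕ × ℕ), (∀ q ∈ L, q.1 < 576) →
              ∑ c ∈ Finset.range 20, ∑ i ∈ Finset.range 4,
                ((((L.filter fun q => cls q.1 == c).map fun q => zt q.2 i).sum : ℤ) : ℂ) * ω ^ i *
                  χ (f (repOf c)) = (L.map fun q => ω ^ q.2 * χ (f q.1)).sum := by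
            intro L
            induction L with
            | nil => simp
            | cons q L ihL =>
              intro hL
              have hq := hL q List.mem_cons_self
              rw [List.map_cons, List.sum_cons, ← ihL fun r hr => hL r (List.mem_cons_of_mem _ hr)]
              have hstep : ∀ c i, ((((q :: L).filter fun q => cls q.1 == c).map fun q => zt q.2 i).sum : ℤ) =
                  (if cls q.1 = c then zt q.2 i else 0) +
                    ((L.filter fun q => cls q.1 == c).map fun q => zt q.2 i).sum := fun c i => by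
                by_cases h : cls q.1 = c <;> simp [List.filter_cons, h]
              simp only [hstep, Int.cast_add, add_mul, Finset.sum_add_distrib]
              congr 1
              rw [Finset.sum_eq_single (cls q.1)]
              · have hχr : χ (f (repOf (cls q.1))) = χ (f q.1) := by
                  rw [← e.conj_rep hq, hF]
                simp only [if_true, hχr, ← Finset.sum_mul]
                congr 1
                rw [← ω_eval, Finset.sum_range_succ, Finset.sum_range_succ, Finset.sum_range_succ,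
                  Finset.sum_range_one]
                ring
              · intro c _ hc
                simp [Ne.symm hc]
              · intro hc
                exact absurd (Finset.mem_range.2 (cls_data hq).1) hc
          rw [← hgen K fun q hq => (hall q hq).1.1, Finset.mul_sum, Finset.mul_sum]
          refine Finset.sum_congr rfl fun c _ => ?_
          rw [Finset.mul_sum, Finset.mul_sum]
          refine Finset.sum_congr rfl fun i _ => ?_
          simp only [subSum, Int.cast_mul, Int.cast_natCast]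
          ring
        simp only [Finset.sum_mul] at hn ⊢
        rw [hsum, hm]
        have hdm : ((576 / K.length : ℕ) : ℂ) * (K.length : ℂ) = 576 := by
          rw [← Nat.cast_mul, Nat.div_mul_cancel (Nat.dvd_of_mod_eq_zero hdiv)]; norm_num
        push_cast
        linear_combination ((p.2 : ℂ) * m) * hdm
      · refine ⟨n, ?_⟩
        rw [List.getD_eq_default _ _ (by omega)]
        simp [subSum]
  obtain ⟨n, hn⟩ := key (certs.getD t [])
  refine ⟨n, ?_⟩
  rw [pairing, class_values e hF (fun c => (val t c : ℂ)), ← hn]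
  exact Finset.sum_congr rfl fun c hc => by rw [hval c (Finset.mem_range.1 hc)]

end CfsgG23Two
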