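import Cfsg.Agent.Lib.G23Two.Calc

/-!
The search for the configurations of multiplicities.
-/

set_option autoImplicit false

namespace CfsgG23Two

/-- The residual Gram matrix. -/
def res (i j : ℕ) : ℤ := gr i j - prin.getD i 0 * prin.getD j 0

/-- Scalar product of lists. -/
def dotL (x y : List ℤ) : ℤ := (List.zipWith (· * ·) x y).sum

/-- The quadratic form of the Gram matrix. -/
def quadL (x : List ℤ) : ℤ :=
  ((List.range x.length).map fun i => ((List.range x.length).map fun j => x.getD i 0 * x.getD j 0 * gr i j).sum).sum

/-- The Bessel test. -/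
def besselOK (q : List ℤ) : Bool :=
  let x := (bess.getD (q.length - 1) []).map fun r => dotL r q
  decide (dotL x q * dotL x q ≤ quadL x)

/-- The first entry that does not vanish is positive. -/
def signOK : List ℤ → Bool
  | [] => true
  | v :: q => if v = 0 then signOK q else decide (0 < v)

/-- The parity condition. -/
def parityOK (q : List ℤ) : Bool :=
  (q.getD 2 0 + q.getD 3 0 + q.getD 8 0 + q.getD 10 0) % 2 == 0

/-- The beginnings, as checked. -/
def presOK : Bool :=
  (List.range 11).all (fun t => (pres.getD t []).all fun q => [-2, -1, 0, 1, 2].all fun v =>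
    !(signOK (q ++ [v]) && besselOK (q ++ [v]) && (decide (t < 10) || parityOK (q ++ [v]))) ||
      (pres.getD (t + 1) []).contains (q ++ [v])) &&
  (pres.getD 11 []).all (fun q => (List.range 12).all fun t => (prefs.getD t []).contains (q.take t)) &&
  (pres.getD 0 []).contains [] && (List.range 11).all (fun i => decide (gr i i < 9))

/-- The new columns. -/
def news (t n2 n1 : ℕ) : List (List ℤ) :=
  List.replicate n2 (List.replicate t 0 ++ [2]) ++ List.replicate n1 (List.replicate t 0 ++ [1])

/-- The extensions of one configuration. -/
def ext (t : ℕ) : List (List ℤ) → List ℤ → ℕ → List (List ℤ) → Bool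
  | [], rs, rem, acc =>
    !(rs.all (· == 0)) || (List.range (rem / 4 + 1)).all fun n2 =>
      let new := news t n2 (rem - 4 * n2)
      !(new.all fun q => (prefs.getD (t + 1) []).contains q) ||
        (states.getD (t + 1) []).any fun S => (acc ++ new).isPerm S
  | c :: cs, rs, rem, acc =>
    (List.range t).any (fun j =>
      decide ((rem : ℤ) * ((c :: cs).map fun d => d.getD j 0 * d.getD j 0).sum < rs.getD j 0 * rs.getD j 0)) ||
    [-2, -1, 0, 1, 2].all fun v =>
      !(decide (v * v ≤ (rem : ℤ)) && (prefs.getD (t + 1) []).contains (c ++ [v])) ||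
        ext t cs ((List.range t).map fun j => rs.getD j 0 - v * c.getD j 0) (rem - (v * v).natAbs) ((c ++ [v]) :: acc)

/-- The row of the residual matrix below the diagonal. -/
def rowR (t : ℕ) : List ℤ := (List.range t).map fun j => res t j

/-- The chain of configurations, as checked. -/
def statesOK : Bool :=
  (List.range 11).all (fun t => decide (0 ≤ res t t) &&
    (states.getD t []).all fun S => ext t S (rowR t) (res t t).toNat []) &&
  (states.getD 0 []).contains []

/-- The weight of a column. -/
def wOf (q : List ℤ) : ℤ := dotL wt q

/-- The residue of the degree modulo 32. -/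
def rOf (q : List ℤ) : ℤ := (-dotL (cong32.take 11) q) % 32

/-- The interesting part of a column. -/
def proj (q : List ℤ) : List ℤ := [q.getD 0 0, q.getD 1 0, q.getD 3 0, q.getD 4 0, wOf q, rOf q]

/-- Whether a column is interesting. -/
def live (q : List ℤ) : Bool := q.getD 0 0 != 0 || q.getD 1 0 != 0 || q.getD 3 0 != 0 || q.getD 4 0 != 0

/-- The seven interesting columns. -/
def seven : List (List ℤ) :=
  [[0, 0, 1, 1, -9, 7], [0, 1, 0, 0, 8, 8], [0, 1, 0, 1, 6, 22], [0, 1, 1, 0, 2, 2], [1, 0, 0, 0, 8, 8],
    [1, 0, 0, 1, 2, 2], [1, 0, 1, 0, 6, 22]]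

/-- The outcome, as checked. -/
def finalOK : Bool := (states.getD 11 []).all fun S => ((S.filter live).map proj).isPerm seven

set_option maxRecDepth 100000 in
theorem presOK_true : presOK = true := by decide +kernel

set_option maxRecDepth 100000 in
theorem statesOK_true : statesOK = true := by decide +kernel

set_option maxRecDepth 100000 in
theorem finalOK_true : finalOK = true := by decide +kernel

end CfsgG23Two
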