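import Cfsg.Agent.Lib.G23Amalgam.Ident
import Cfsg.Agent.Lib.G23.Graph

/-!
The two descriptions of G2(3) agree: the Chevalley group satisfies the relations of the amalgam.
-/

set_option autoImplicit false

namespace CfsgG23Two

open Subgroup CfsgG23Amalgam

/-- A group of the right order that satisfies the relations is the octonion model. -/
theorem model_of_rel {M : Type*} [Group M] [Finite M] {h k x1 x2 x3 x4 x5 x6 a b : M}
    (R : Rel h k x1 x2 x3 x4 x5 x6 a b) (n3 : x3 ≠ 1) (n4 : x4 ≠ 1) (hc : Nat.card M ≤ 4245696) :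
    Nonempty (M ≃* M3) := by
  have RP := R.prod rel_model
  have hP := RP.card_eq (fun e => n3 (congrArg Prod.fst e)) (fun e => n4 (congrArg Prod.fst e))
  have hM := R.card_eq n3 n4
  have h3 := rel_model.card_eq m3_ne m4_ne
  obtain ⟨e1⟩ := equiv_map hP (MonoidHom.fst M M3) (by
    rw [MonoidHom.map_closure]; simpa [Set.image_insert_eq, Set.image_singleton] using hM)
  obtain ⟨e2⟩ := equiv_map hP (MonoidHom.snd M M3) (by
    rw [MonoidHom.map_closure]; simpa [Set.image_insert_eq, Set.image_singleton] using h3)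
  refine ⟨(Subgroup.topEquiv.symm.trans ((MulEquiv.subgroupCongr ?_).symm.trans (e1.symm.trans (e2.trans
    ((MulEquiv.subgroupCongr ?_).trans Subgroup.topEquiv)))))⟩
  · exact Subgroup.eq_top_of_le_card _ (by
      rw [MonoidHom.map_closure]; simpa [Set.image_insert_eq, Set.image_singleton, hM] using hc)
  · exact Subgroup.eq_top_of_le_card _ (by
      rw [MonoidHom.map_closure]; simpa [Set.image_insert_eq, Set.image_singleton, h3] using card_M3)

open Cfsg.Lie CfsgLib.G23

theorem chev_model : Nonempty (↥(chevG2.group (ZMod 3)) ≃* M3) := by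
  haveI : Finite ↥(chevG2.group (ZMod 3)) := inferInstance
  obtain ⟨x1, e1⟩ := word_mem [(7, 1)] (by decide)
  obtain ⟨x2, e2⟩ := word_mem [(10, 2)] (by decide)
  obtain ⟨x3, e3⟩ := word_mem [(9, 1)] (by decide)
  obtain ⟨x4, e4⟩ := word_mem [(11, 1)] (by decide)
  obtain ⟨x5, e5⟩ := word_mem [(8, 1)] (by decide)
  obtain ⟨x6, e6⟩ := word_mem [(6, 1)] (by decide)
  obtain ⟨a, ea⟩ := word_mem [(6, 2), (5, 1), (6, 2)] (by decide)
  obtain ⟨b, eb⟩ := word_mem [(7, 1), (4, 2), (7, 1)] (by decide)
  have p : ∀ {x y : ↥(chevG2.group (ZMod 3))}, rep x = rep y → x = y := fun h => rep_injective h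
  have c : ∀ x : ↥(chevG2.group (ZMod 3)), rep x * rep x * rep x = 1 → x⁻¹ = x ^ 2 := fun x hx =>
    inv_eq_of_mul_eq_one_right (p (by rw [map_mul, map_pow, pow_two, ← mul_assoc, map_one, hx]))
  have q1 := c x1 (by rw [e1]; decide +kernel)
  have q2 := c x2 (by rw [e2]; decide +kernel)
  have q3 := c x3 (by rw [e3]; decide +kernel)
  have q4 := c x4 (by rw [e4]; decide +kernel)
  have q5 := c x5 (by rw [e5]; decide +kernel)
  have q6 := c x6 (by rw [e6]; decide +kernel)
  have R : Rel (a * a) (b * b) x1 x2 x3 x4 x5 x6 a b := by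
    constructor <;> (try simp only [mul_inv_eq_iff_eq_mul, q1, q2, q3, q4, q5, q6]) <;> apply p <;>
      simp only [map_mul, map_pow, map_one, e1, e2, e3, e4, e5, e6, ea, eb] <;> decide +kernel
  exact model_of_rel R (fun h => absurd (e3 ▸ congrArg rep h) (by rw [map_one]; decide +kernel))
    (fun h => absurd (e4 ▸ congrArg rep h) (by rw [map_one]; decide +kernel)) (by rw [card_group]; norm_num)

end CfsgG23Two
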