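import Mathlib.Data.Nat.Notation
import Mathlib.Data.Int.Notation

/-!
Tables for the special classes of (SL2(3) * SL2(3)).2: an element `a + 12 (b + 24 s)` stands for the product of
the `a`-th and the `b`-th element of SL2(3) and the `s`-th power of the involution.
-/

set_option autoImplicit false

namespace CfsgG23Two

/-- The multiplication table of SL2(3), one packed number per row. -/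
def slRows : List Nat :=
  [0xbdab49ca307b9ac5a928398a418820, 0x3c5c4bbd543240d9945058ec895581, 0x431e5ab5723a88ea0071486e69da02, 0x341a0b393342caf9102c50aa7a5e23, 0xaded2a4d916bdd04ad4641c0508c44, 0xb56f39520c735f1525673208010465, 0x7a18d2d5cb21d521d0018a45784ec6, 0x69a0e059e92a1730c882628758d2e7, 0x71e2f25daa0193414ca382c3664aa8, 0x2064a130e3bc695834d67026f59509, 0x28a6b1c101ab2568b8f77928d480ca, 0xe890c4c2b427763d156964e510eb, 0x5a928398a418820bdab49ca307b9ac, 0x9945058ec8955813c5c4bbd543240d, 0xa0071486e69da02431e5ab5723a88e, 0x9102c50aa7a5e23341a0b393342caf, 0x4ad4641c0508c44aded2a4d916bdd0, 0x525673208010465b56f39520c735f1, 0x1d0018a45784ec67a18d2d5cb21d52, 0xc882628758d2e769a0e059e92a173,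 0x14ca382c3664aa871e2f25daa01934, 0x834d67026f595092064a130e3bc695, 0x8b8f77928d480ca28a6b1c101ab256, 0x63d156964e510eb00e890c4c2b4277]

/-- The matrices. -/
def slEls : List (List ℕ) :=
  [[1, 0, 0, 1],
   [0, 1, 2, 0],
   [0, 1, 2, 1],
   [0, 1, 2, 2],
   [1, 0, 1, 1],
   [1, 0, 2, 1],
   [1, 1, 0, 1],
   [1, 1, 1, 2],
   [1, 1, 2, 0],
   [1, 2, 0, 1],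
   [1, 2, 1, 0],
   [1, 2, 2, 2],
   [2, 0, 0, 2],
   [0, 2, 1, 0],
   [0, 2, 1, 2],
   [0, 2, 1, 1],
   [2, 0, 2, 2],
   [2, 0, 1, 2],
   [2, 2, 0, 2],
   [2, 2, 2, 1],
   [2, 2, 1, 0],
   [2, 1, 0, 2],
   [2, 1, 2, 0],
   [2, 1, 1, 1]]

/-- The automorphism given by the reflection. -/
def tauTab : ℕ :=
  0x9d256bd61110c2c3a0ca5a48573da0

/-- The class of each element. -/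
def clTab : ℕ :=
  0x20c232042119021190241842120c21108021000010800190241842120c2120c232042119021108021000010800108021000010800108021000010800190241842120c2120c232042119021108021000010800108021000010800190241842120c2120c23204211902110802100001080020c232042119021190241842120c2110802100001080010802100001080010802100001080020c232042119021190241842120c211080210000108001080210000108002a1082a108420af3316a3252b4a8d132d893294c524d03292c32d695b0d12a1082a108420af3254b3318a62cd03254b3318a62cd032d893294c524d03254b3318a62cd03292c32d695b0d12a1082a108420af3b9ae3b5ad6b8f32a1082a108420af3254b3318a62cd03292c32d695b0d132d893294c524d02a1082a108420af3316a3252b4a8d13316a3252b4a8d13292c32d695b0d13316a3252b4a8d132d893294c524d02a1082a108420af3b5cd3b9ce734f2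

/-- An element conjugating the representative to the element. -/
def witTab : ℕ :=
  0x741d0881906c200681b06c1a07c190f83d1084010045100410f03c11c3c1e84d148491f0501284b12c7813c490380d0481004015040110300c05c0c0d4350e8310cc380c8330cc320dc31188711986d19069190651bc601ac600683507831070210701d0cc1808c18098410a83d0a02d0a0290fc240bc24098250a8280a02d0a029090240bc24014050280100c080080300c0201c0115889168851605d1605921c5417c540380502801040080080300c0c01c01068190781c070210701d0601808c18104411183d0fc440f83f0fc3e10c3d1287d13879130511304d1ec4814c48044110580d03c140380f03c0e04c0d0c8310d8340d0390d0350c0300ec301b8651a8611c0681886318c6c19c610c81d088190d0200681b06c3007c190f8290b8251002c0982709c3c0ac250a4290b82509c2c09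82709c260ac25008010180401009010050000002c0021859178552205c1585715c8416c55008110180d010090100503c0002c000818118c1906d3a504664e018060184d12f4b92d4bd2e4d5354b12c4b00c0b0240942509c260b42409024090240380d03c0e0480f048120340f04d2c0994509c490a96a5c42a5a0480ac484e9394ed384f9394e13e4e9394fd386398d63d8c6498d631926398d64d8c140481244912c4a1444812048120484892148d2049921481264892149d200080100c0201803018060040301d200092100c55019765f4065d05401c540080100d21019224a4064812001c000693906c61079826241e6006007c604b92d4bd2c4c92d4b1324b92d4cd2c0982509c260a8270a82a094270ad440500c0340d03c0e0540c0300c0300c0b16912c2509d465344e51024090245013b4e9394ed3a505414e1384e0186518f6398d63d8e655956318c6306c1284912c4a1384b1384e1244b13d684a1234892148d224a5294812048000020000040100c020240000000000000217515c0100d224a45a48000000000212148c0100c02025260000000000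

/-- The predecessor of each element. -/
def predTab : ℕ :=
  0x56d5a565583bd565555454d525455089e263da2488e283d22087e2d874f0640e08f59638ce164cdd1284b1263468da2685a044d9e6759c66d9a6659846e0d4691e7fe044620483e09831145b1ba409726ddb6401b46cdb26c4fc580c85f56632cc95e4c50c8330c5746edba349b86dde0341b46cde56c4cc07ddd078228edd4071d477dd9770184f1f60a9427cdf20a1f07bdee7b42404dc50481685dbc041bc71dc17100c490986ed2a26c9949c95008030049016dad1685e6a9a4161a46bda96b05465d966559464d926459063d8e6358c13d95138526498c1318c65d91650481fd891f882619801f18062d85620785cd725c57023d6e5b56c5ad6a5a5684ad714a5285b9264956848d22485200dd650d83a5895c0d15c59d61590304ad2a4a52849d264952448d22485206bd4d6b5ac529aa6a54469da6695a459d4159564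4f9625853857d5e5755c62d35625884c9866152c60d826058001d290180a49920011204ad254a0000ec3a0e4380dc360d4340cc320c43041d064150440d02405003fcfe3f4fc1c11e4747646d1a1cd1841d013fd143bc82204ec1fc7e3a47c39ce63947838ce2384e007c1e3741c36cda36418130e138c52128e013cd838cdd36cdd32c5e174c816c5a3145830cc23045426c9a2649825c962549424c92244902cd1e4751c46d1a465182ad164551435cd6354d434cd2344d033cce334cc3ecbe2f4bc2ecba2e4b83ccb62d4b40109926c0a0089801c9026c9524c9532cca324c81fc7e3147c30cc2304781dc761d4741cc721c4701bc6e1b46c23c75144731c84e1c06c1b8711d04844c5e1745c16c5a1645842c561545414c521445013c4e1344c12c4a12448148510244f13806130481284d140003bc3a0e4380dc360d43439c320c43002c0a0240801c060140400c020040023c220848c07c1e2241c21c862141811c461144410c42104400fc3e0f43c0bc6a1a46819c661946409c6218460028090180701800010000080502000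

/-- The generator leading from the predecessor. -/
def genTab : ℕ :=
  0x2498492496e362361c1189049232498492498a462200406026124c10890c9216e362361c8a422200406026124c8a42220041109049248a44220046db6db6db8a44220048a44220046db8db6db28944a2498a44220046db6db6db28944a24928944a24928944a2498a44220042492492496db6db6db0d86c301364b2596d96db2596d909008201264b2596d96db6db6db6492496492492492492db6db2db0900820122496cb24b6db6db6db68a4524012db6db2db6db6db6db48a4524012db6db2db6db6db6db2d96cb24b249249249649249649482412400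

/-- The distance from the identity. -/
def depTab : ℕ :=
  0x554654446573576656666775465545555664665765557684554654446573465545555664465545555664465545555664665765557684576656666775776876668795354434444555554654446573554654446573443543335462665765557684554654446573443543335462443543335462443543335462665765557684554654446573776876668795332432224351654543436562576765656774465654545663576765656774465665555664354556464555465654545663354556464555665654547673576765656774676765657784243445353444465665555664665654547673554543436562665654547673654543436562543432325451554543436562543432325451576765656774665654547673676765657784432321214340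

/-- The generators. -/
def genEls : List ℕ :=
  [6, 72, 4, 48, 288]

/-- Representatives. -/
def clRep : List ℕ :=
  [288, 312, 290, 314, 315, 13, 25, 1, 14, 26, 27, 34, 28, 2, 3, 12, 24, 36, 0, 144]

/-- Class sizes. -/
def clSize : List ℕ :=
  [72, 72, 72, 36, 36, 18, 48, 6, 48, 32, 32, 32, 32, 8, 8, 6, 8, 8, 1, 1]

/-- Orders. -/
def clOrd : List ℕ :=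
  [2, 8, 8, 4, 4, 2, 12, 4, 12, 3, 6, 3, 6, 6, 3, 4, 6, 3, 1, 2]

/-- The classes carrying the functions. -/
def supp : List ℕ :=
  [1, 2, 6, 7, 8, 10, 12, 13, 15, 16, 19]

/-- The classes of involutions. -/
def invol : List ℕ :=
  [0, 5, 19]

/-- Pairs of involutions with given product. -/
def cnt : List ℕ :=
  [0, 8, 8, 0, 0, 0, 12, 36, 12, 0, 18, 0, 18, 36, 0, 36, 36, 0, 0, 90]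

/-- The eleven functions and the two auxiliary ones. -/
def vals : List (List ℤ) :=
  [[0, 0, 0, 0, 0, 0, 2, 8, 0, 0, -2, 0, -2, -8, 0, 0, 4, 0, 0, 16],
   [0, 0, 0, 0, 0, 0, 0, 0, 2, 0, -2, 0, -2, 4, 0, 8, -8, 0, 0, 16],
   [0, 4, 4, 0, 0, 0, 0, 0, 0, 0, 0, 0, 0, 0, 0, 0, 0, 0, 0, 0],
   [0, 2, 2, 0, 0, 0, 4, 4, 0, 0, 0, 0, 0, 0, 0, 12, 0, 0, 0, 0],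
   [0, 2, 2, 0, 0, 0, 0, 12, 4, 0, 0, 0, 0, 0, 0, 4, 0, 0, 0, 0],
   [0, 2, 2, 0, 0, 0, 2, -4, 2, 0, 4, 0, -2, 4, 0, -4, 4, 0, 0, 16],
   [0, 2, 2, 0, 0, 0, 2, -4, 2, 0, -2, 0, 4, 4, 0, -4, 4, 0, 0, 16],
   [0, -2, 2, 0, 0, 0, 4, 4, -4, 0, 0, 0, 0, 0, 0, -4, 0, 0, 0, 0],
   [0, 2, -2, 0, 0, 0, 4, 4, -4, 0, 0, 0, 0, 0, 0, -4, 0, 0, 0, 0],
   [0, 2, -2, 0, 0, 0, -2, 4, -2, 0, -2, 0, 4, 4, 0, 4, 4, 0, 0, 16],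
   [0, 0, 0, 0, 0, 0, 4, -8, 0, 0, -4, 0, -4, 8, 0, 0, 8, 0, 0, -16],
   [-2, 0, -2, 0, 0, 14, 2, 2, -2, 0, -2, 0, 4, 4, 0, -2, 4, 0, 18, -110],
   [-2, 4, 2, 0, 0, 4, 6, 0, -2, 0, -2, 0, -2, 4, 0, 4, 4, 0, 0, 64]]

/-- The combination giving the indicator of the centre. -/
def wt : List ℤ :=
  [8, 8, -1, -2, -6, 8, 2, 3, -3, 6, -4]

/-- Multiplicities of the trivial character. -/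
def prin : List ℤ :=
  [0, 0, 1, 1, 1, 1, 1, 0, 0, 0, 0]

/-- The Gram matrix. -/
def gram : List (List ℤ) :=
  [[3, 0, 0, 1, 1, 0, 0, 1, 1, 0, 0],
   [0, 3, 0, 1, 1, 0, 0, -1, -1, 0, 0],
   [0, 0, 4, 2, 2, 2, 2, 0, 0, 0, 0],
   [1, 1, 2, 4, 2, 1, 1, 1, 1, 0, 1],
   [1, 1, 2, 2, 4, 1, 1, -1, -1, 0, -1],
   [0, 0, 2, 1, 1, 4, 2, 0, 0, -1, 1],
   [0, 0, 2, 1, 1, 2, 4, 0, 0, 1, 1],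
   [1, -1, 0, 1, -1, 0, 0, 4, 2, -1, 1],
   [1, -1, 0, 1, -1, 0, 0, 2, 4, 1, 1],
   [0, 0, 0, 0, 0, -1, 1, -1, 1, 4, -1],
   [0, 0, 0, 1, -1, 1, 1, 1, 1, -1, 6]]

/-- The sums with the pair counts. -/
def ksum : List ℤ :=
  [864, 864, 4608, 8064, 8064, 7776, 7776, 0, 0, 4320, -864]

/-- The congruence modulo 32. -/
def cong32 : List ℤ :=
  [-8, -8, -15, 2, 6, -8, 14, 5, 11, 10, 4, -8, 14]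

/-- The congruence modulo 8. -/
def cong8 : List ℤ :=
  [-2, 1]

/-- Powers of a twelfth root of unity. -/
def zeta : List (List ℤ) :=
  [[1, 0, 0, 0],
   [0, 1, 0, 0],
   [0, 0, 1, 0],
   [0, 0, 0, 1],
   [-1, 0, 1, 0],
   [0, -1, 0, 1],
   [-1, 0, 0, 0],
   [0, -1, 0, 0],
   [0, 0, -1, 0],
   [0, 0, 0, -1],
   [1, 0, -1, 0],
   [0, 1, 0, -1]]

/-- Subgroups with linear characters. -/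
def subs : List (List (ℕ × ℕ)) :=
  [[(0, 0)],
   [(0, 0), (301, 6)],
   [(0, 0), (36, 8), (240, 4)],
   [(0, 0), (146, 8), (154, 4)],
   [(0, 0), (106, 4), (182, 8)],
   [(0, 0), (91, 6), (314, 9), (392, 3)],
   [(0, 0), (26, 4), (130, 8), (144, 6), (170, 10), (274, 2)],
   [(0, 0), (38, 10), (106, 8), (144, 6), (182, 4), (250, 2)],
   [(0, 0), (91, 6), (144, 6), (235, 0), (314, 9), (392, 3), (458, 3), (536, 9)],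
   [(0, 0), (95, 6), (139, 6), (157, 0), (301, 6), (432, 6), (527, 0), (571, 0)],
   [(0, 0), (84, 6), (144, 0), (228, 6), (313, 9), (385, 3), (457, 9), (529, 3)],
   [(0, 0), (26, 8), (34, 0), (122, 0), (130, 4), (146, 4), (154, 8), (168, 4), (264, 8)],
   [(0, 0), (1, 9), (24, 2), (25, 11), (120, 10), (121, 7), (144, 6), (145, 3), (168, 8), (169, 5), (264, 4), (265, 1)],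
   [(0, 0), (2, 2), (10, 10), (12, 9), (14, 11), (22, 7), (144, 6), (146, 8), (154, 4), (156, 3), (158, 5), (166, 1)],
   [(0, 0), (7, 9), (84, 9), (91, 6), (144, 6), (151, 3), (228, 3), (235, 0), (314, 9), (320, 0), (386, 0), (392, 3), (458, 3), (464, 6), (530, 6), (536, 9)],
   [(0, 0), (1, 0), (7, 6), (11, 6), (144, 0), (145, 0), (151, 6), (155, 6), (300, 6), (301, 6), (307, 0), (311, 0), (444, 6), (445, 6), (451, 0), (455, 0)],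
   [(0, 0), (12, 0), (84, 6), (132, 6), (144, 0), (156, 0), (228, 6), (276, 6), (289, 6), (301, 6), (373, 0), (421, 0), (433, 6), (445, 6), (517, 0), (565, 0)],
   [(0, 0), (2, 6), (10, 6), (24, 2), (26, 8), (34, 8), (120, 10), (122, 4), (130, 4), (144, 6), (146, 0), (154, 0), (168, 8), (170, 2), (178, 2), (264, 4), (266, 10), (274, 10)],
   [(0, 0), (2, 4), (10, 8), (12, 6), (14, 10), (22, 2), (84, 6), (86, 10), (94, 2), (132, 0), (134, 4), (142, 8), (144, 0), (146, 4), (154, 8), (156, 6), (158, 10), (166, 2), (228, 6), (230, 10), (238, 2), (276, 0), (278, 4), (286, 8)],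
   [(0, 0), (1, 6), (7, 6), (11, 0), (24, 4), (25, 10), (31, 10), (35, 4), (120, 8), (121, 2), (127, 2), (131, 8), (144, 0), (145, 6), (151, 6), (155, 0), (168, 4), (169, 10), (175, 10), (179, 4), (264, 8), (265, 2), (271, 2), (275, 8)],
   [(0, 0), (1, 0), (7, 6), (11, 6), (12, 0), (13, 0), (19, 6), (23, 6), (84, 6), (85, 6), (91, 0), (95, 0), (132, 6), (133, 6), (139, 0), (143, 0), (144, 0), (145, 0), (151, 6), (155, 6), (156, 0), (157, 0), (163, 6), (167, 6), (228, 6), (229, 6), (235, 0), (239, 0), (276, 6), (277, 6), (283, 0), (287, 0), (288, 6), (289, 6), (295, 0), (299, 0), (300, 6), (301, 6), (307, 0), (311, 0), (372, 0), (373, 0), (379, 6), (383, 6), (420, 0), (421, 0), (427, 6), (431, 6),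 (432, 6), (433, 6), (439, 0), (443, 0), (444, 6), (445, 6), (451, 0), (455, 0), (516, 0), (517, 0), (523, 6), (527, 6), (564, 0), (565, 0), (571, 6), (575, 6)]]

/-- The combinations of induced linear characters. -/
def certs : List (List (ℕ × ℤ)) :=
  [[(2, -1), (4, 1), (5, -1), (6, -2), (7, -2), (8, 2), (9, 4), (10, 1), (11, 1), (12, -1), (13, 4), (14, -4), (15, -4), (16, -4), (17, 4), (19, 2), (20, 8)],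
   [(3, -1), (4, 1), (6, 1), (7, 1), (8, 1), (10, -1), (11, 1), (12, 2), (13, -5), (17, -5), (18, 2)],
   [(0, 1), (1, -2), (5, -1), (8, 1), (9, 4), (14, -4), (15, -2), (16, -2), (20, 8)],
   [(0, 1), (1, -1), (2, -1), (5, -2), (9, 8), (10, 1), (12, 2), (14, -8), (15, -7), (16, -7), (19, 4), (20, 16)],
   [(0, 1), (1, -1), (3, -1), (5, -1), (6, 2), (7, 2), (8, -1), (9, 4), (10, -1), (12, 4), (13, -6), (14, -4), (15, -3), (16, -3), (17, -6), (18, 4), (20, 8)],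
   [(0, 1), (1, -1), (2, -1), (3, -1), (5, -1), (6, 1), (7, 3), (8, -2), (9, 4), (11, 1), (12, 5), (13, -5), (14, -4), (15, -3), (16, -3), (17, -5), (18, 2), (19, 2), (20, 8)],
   [(0, 1), (1, -1), (4, -1), (5, -1), (6, 3), (7, 1), (8, -2), (9, 4), (11, -2), (12, 5), (13, -5), (14, -4), (15, -3), (16, -3), (17, -5), (18, 2), (19, 2), (20, 8)],
   [(2, -1), (3, 1), (5, -2), (6, -2), (7, -2), (8, 2), (9, 8), (10, 4), (12, -2), (13, 6), (14, -8), (15, -7), (16, -9), (17, 6), (18, -4), (19, 4), (20, 16)],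
   [(2, -1), (3, 1), (5, -1), (6, -2), (7, -2), (8, 1), (9, 4), (10, 2), (12, -2), (13, 6), (14, -4), (15, -5), (16, -3), (17, 6), (18, -4), (19, 4), (20, 8)],
   [(2, 1), (3, 1), (4, -1), (5, 1), (6, 1), (7, -1), (8, -2), (9, -4), (10, -1), (11, -2), (12, -1), (13, 1), (14, 4), (15, 3), (16, 5), (17, 1), (18, -2), (19, -2), (20, -8)],
   [(2, -2), (3, -1), (4, 2), (5, -1), (8, 2), (9, 4), (10, 1), (11, 2), (12, 6), (13, -4), (14, -4), (15, -4), (16, -4), (17, -4), (19, 4), (20, 8)],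
   [(1, 1), (3, 1), (4, -1), (5, -2), (6, 1), (7, -1), (9, 1), (10, 1), (11, -2), (12, 1), (13, 1), (14, -1), (15, -2), (16, -1), (17, 1), (18, -2), (19, 2), (20, 2)],
   [(0, 1), (1, -1), (2, -2), (4, 1), (5, -3), (6, -1), (7, -1), (8, 1), (9, 10), (10, 2), (11, 1), (12, 3), (13, 1), (14, -10), (15, -9), (16, -8), (17, 1), (18, -2), (19, 6), (20, 20)]]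

/-- Test vectors for the Bessel inequality. -/
def bess : List (List (List ℤ)) :=
  [[[1]],
   [[1, 0],
   [0, 1]],
   [[4, 0, 0],
   [0, 4, 0],
   [0, 0, 3]],
   [[16, 2, 3, -6],
   [2, 16, 3, -6],
   [3, 3, 15, -9],
   [-6, -6, -9, 18]],
   [[20, 4, 6, -6, -6],
   [4, 20, 6, -6, -6],
   [6, 6, 21, -9, -9],
   [-6, -6, -9, 21, -3],
   [-6, -6, -9, -3, 21]],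
   [[20, 4, 6, -6, -6, 0],
   [4, 20, 6, -6, -6, 0],
   [6, 6, 25, -9, -9, -8],
   [-6, -6, -9, 21, -3, 0],
   [-6, -6, -9, -3, 21, 0],
   [0, 0, -8, 0, 0, 16]],
   [[20, 4, 6, -6, -6, 0, 0],
   [4, 20, 6, -6, -6, 0, 0],
   [6, 6, 27, -9, -9, -6, -6],
   [-6, -6, -9, 21, -3, 0, 0],
   [-6, -6, -9, -3, 21, 0, 0],
   [0, 0, -6, 0, 0, 18, -6],
   [0, 0, -6, 0, 0, -6, 18]],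
   [[52, 4, 14, -6, -22, 0, 0, -16],
   [4, 52, 14, -22, -6, 0, 0, 16],
   [14, 14, 63, -21, -21, -14, -14, 0],
   [-6, -22, -21, 61, -19, 0, 0, -24],
   [-22, -6, -21, -19, 61, 0, 0, 24],
   [0, 0, -14, 0, 0, 42, -14, 0],
   [0, 0, -14, 0, 0, -14, 42, 0],
   [-16, 16, 0, -24, 24, 0, 0, 48]],
   [[8, 0, 2, 0, -4, 0, 0, -2, -2],
   [0, 8, 2, -4, 0, 0, 0, 2, 2],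
   [2, 2, 9, -3, -3, -2, -2, 0, 0],
   [0, -4, -3, 10, -4, 0, 0, -3, -3],
   [-4, 0, -3, -4, 10, 0, 0, 3, 3],
   [0, 0, -2, 0, 0, 6, -2, 0, 0],
   [0, 0, -2, 0, 0, -2, 6, 0, 0],
   [-2, 2, 0, -3, 3, 0, 0, 7, -1],
   [-2, 2, 0, -3, 3, 0, 0, -1, 7]],
   [[8, 0, 2, 0, -4, 0, 0, -2, -2, 0],
   [0, 8, 2, -4, 0, 0, 0, 2, 2, 0],
   [2, 2, 9, -3, -3, -2, -2, 0, 0, 0],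
   [0, -4, -3, 10, -4, 0, 0, -3, -3, 0],
   [-4, 0, -3, -4, 10, 0, 0, 3, 3, 0],
   [0, 0, -2, 0, 0, 8, -4, 2, -2, 4],
   [0, 0, -2, 0, 0, -4, 8, -2, 2, -4],
   [-2, 2, 0, -3, 3, 2, -2, 9, -3, 4],
   [-2, 2, 0, -3, 3, -2, 2, -3, 9, -4],
   [0, 0, 0, 0, 0, 4, -4, 4, -4, 8]],
   [[32, 0, 8, 0, -16, 0, 0, -8, -8, 0, 0],
   [0, 32, 8, -16, 0, 0, 0, 8, 8, 0, 0],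
   [8, 8, 37, -14, -10, -8, -10, 1, -1, 2, 4],
   [0, -16, -14, 44, -20, 0, 4, -14, -10, -4, -8],
   [-16, 0, -10, -20, 44, 0, -4, 14, 10, 4, 8],
   [0, 0, -8, 0, 0, 32, -16, 8, -8, 16, 0],
   [0, 0, -10, 4, -4, -16, 36, -10, 10, -20, -8],
   [-8, 8, 1, -14, 14, 8, -10, 37, -13, 18, 4],
   [-8, 8, -1, -10, 10, -8, 10, -13, 37, -18, -4],
   [0, 0, 2, -4, 4, 16, -20, 18, -18, 36, 8],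
   [0, 0, 4, -8, 8, 0, -8, 4, -4, 8, 16]]]

/-- The possible beginnings of a column. -/
def pres : List (List (List ℤ)) :=
  [[[]],
   [[0], [1]],
   [[0, 0], [0, 1], [1, -1], [1, 0], [1, 1]],
   [[0, 0, 0], [0, 0, 1], [0, 0, 2], [0, 1, -1], [0, 1, 0], [0, 1, 1], [1, -1, -1], [1, -1, 0], [1, -1, 1], [1, 0, -1], [1, 0, 0], [1, 0, 1], [1, 1, -1], [1, 1, 0], [1, 1, 1]],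
   [[0, 0, 0, 0], [0, 0, 0, 1], [0, 0, 1, 0], [0, 0, 1, 1], [0, 0, 2, 1], [0, 1, -1, -1], [0, 1, -1, 0], [0, 1, 0, 0], [0, 1, 0, 1], [0, 1, 1, 0], [0, 1, 1, 1], [1, -1, 0, 0], [1, 0, -1, -1], [1, 0, -1, 0], [1, 0, 0, 0], [1, 0, 0, 1], [1, 0, 1, 0], [1, 0, 1, 1], [1, 1, -1, 0], [1, 1, 0, 0], [1, 1, 0, 1], [1, 1, 1, 1]],
   [[0, 0, 0, 0, 0], [0, 0, 0, 0, 1], [0, 0, 0, 1, -1], [0, 0, 0, 1, 0], [0, 0, 0, 1, 1], [0, 0, 1, 0, 0], [0, 0, 1, 0, 1], [0, 0, 1, 1, 0], [0, 0, 1, 1, 1], [0, 0, 2, 1, 1], [0, 1, -1, -1, 0], [0, 1, -1, 0, -1], [0, 1, -1, 0, 0], [0, 1, 0, 0, 0], [0, 1, 0, 0, 1], [0, 1, 0, 1, 0], [0, 1, 0, 1, 1], [0, 1, 1, 0, 1], [0, 1, 1, 1, 0], [0, 1, 1, 1, 1], [1, -1, 0, 0, 0], [1, 0, -1, -1, 0],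 [1, 0, -1, 0, -1], [1, 0, -1, 0, 0], [1, 0, 0, 0, 0], [1, 0, 0, 0, 1], [1, 0, 0, 1, 0], [1, 0, 0, 1, 1], [1, 0, 1, 0, 1], [1, 0, 1, 1, 0], [1, 0, 1, 1, 1], [1, 1, -1, 0, 0], [1, 1, 0, 0, 0], [1, 1, 0, 0, 1], [1, 1, 0, 1, 0], [1, 1, 0, 1, 1], [1, 1, 1, 1, 1]],
   [[0, 0, 0, 0, 0, 0], [0, 0, 0, 0, 0, 1], [0, 0, 0, 0, 1, -1], [0, 0, 0, 0, 1, 0], [0, 0, 0, 0, 1, 1], [0, 0, 0, 1, -1, 0], [0, 0, 0, 1, 0, -1], [0, 0, 0, 1, 0, 0], [0, 0, 0, 1, 0, 1], [0, 0, 0, 1, 1, 0], [0, 0, 1, 0, 0, 0], [0, 0, 1, 0, 0, 1], [0, 0, 1, 0, 1, 0], [0, 0, 1, 0, 1, 1], [0, 0, 1, 1, 0, 0], [0, 0, 1, 1, 0, 1], [0, 0, 1, 1, 1, 0], [0, 0, 1, 1, 1, 1], [0, 0, 2, 1, 1, 1], [0, 1, -1, -1, 0, -1], [0, 1, -1, -1, 0, 0], [0, 1, -1, 0,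 -1, -1], [0, 1, -1, 0, -1, 0], [0, 1, -1, 0, 0, -1], [0, 1, -1, 0, 0, 0], [0, 1, 0, 0, 0, -1], [0, 1, 0, 0, 0, 0], [0, 1, 0, 0, 0, 1], [0, 1, 0, 0, 1, -1], [0, 1, 0, 0, 1, 0], [0, 1, 0, 0, 1, 1], [0, 1, 0, 1, 0, -1], [0, 1, 0, 1, 0, 0], [0, 1, 0, 1, 0, 1], [0, 1, 0, 1, 1, -1], [0, 1, 0, 1, 1, 0], [0, 1, 0, 1, 1, 1], [0, 1, 1, 0, 1, 0], [0, 1, 1, 0, 1, 1], [0, 1, 1, 1, 0, 0], [0, 1, 1, 1, 0, 1], [0, 1, 1, 1, 1, 0], [0, 1, 1, 1, 1, 1], [1, -1, 0, 0, 0, -1], [1, -1, 0, 0, 0, 0], [1, -1, 0, 0, 0, 1], [1, 0, -1, -1, 0, -1], [1, 0, -1, -1, 0, 0], [1, 0, -1, 0, -1, -1], [1, 0, -1, 0, -1, 0], [1, 0, -1, 0, 0, -1], [1, 0, -1, 0, 0, 0], [1, 0, 0, 0, 0, -1], [1, 0, 0, 0, 0, 0], [1, 0, 0, 0, 0, 1], [1, 0, 0,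 0, 1, -1], [1, 0, 0, 0, 1, 0], [1, 0, 0, 0, 1, 1], [1, 0, 0, 1, 0, -1], [1, 0, 0, 1, 0, 0], [1, 0, 0, 1, 0, 1], [1, 0, 0, 1, 1, -1], [1, 0, 0, 1, 1, 0], [1, 0, 0, 1, 1, 1], [1, 0, 1, 0, 1, 0], [1, 0, 1, 0, 1, 1], [1, 0, 1, 1, 0, 0], [1, 0, 1, 1, 0, 1], [1, 0, 1, 1, 1, 0], [1, 0, 1, 1, 1, 1], [1, 1, 0, 0, 0, 0], [1, 1, 0, 0, 1, 0], [1, 1, 0, 1, 0, 0], [1, 1, 0, 1, 1, 0]],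
   [[0, 0, 0, 0, 0, 0, 0], [0, 0, 0, 0, 0, 0, 1], [0, 0, 0, 0, 0, 1, -1], [0, 0, 0, 0, 0, 1, 0], [0, 0, 0, 0, 0, 1, 1], [0, 0, 0, 0, 1, -1, -1], [0, 0, 0, 0, 1, -1, 0], [0, 0, 0, 0, 1, 0, -1], [0, 0, 0, 0, 1, 0, 0], [0, 0, 0, 0, 1, 0, 1], [0, 0, 0, 0, 1, 1, 0], [0, 0, 0, 0, 1, 1, 1], [0, 0, 0, 1, -1, 0, 0], [0, 0, 0, 1, 0, -1, -1], [0, 0, 0, 1, 0, -1, 0], [0, 0, 0, 1, 0, 0, -1], [0, 0, 0, 1, 0, 0, 0], [0, 0, 0, 1, 0, 0, 1], [0, 0, 0, 1, 0, 1, 0], [0, 0, 0, 1, 0, 1, 1], [0, 0, 0, 1, 1, 0, 0], [0, 0, 1, 0, 0, 0, 0], [0, 0, 1, 0, 0, 0, 1], [0, 0, 1, 0, 0, 1, 0], [0, 0, 1, 0, 0, 1, 1], [0, 0, 1, 0, 1, 0, 0], [0, 0, 1, 0, 1, 0, 1], [0, 0, 1, 0, 1, 1, 0], [0, 0, 1, 0, 1, 1, 1], [0, 0, 1, 1, 0, 0, 0], [0,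 0, 1, 1, 0, 0, 1], [0, 0, 1, 1, 0, 1, 0], [0, 0, 1, 1, 0, 1, 1], [0, 0, 1, 1, 1, 0, 0], [0, 0, 1, 1, 1, 0, 1], [0, 0, 1, 1, 1, 1, 0], [0, 0, 1, 1, 1, 1, 1], [0, 0, 2, 1, 1, 1, 1], [0, 1, -1, 0, 0, -1, -1], [0, 1, -1, 0, 0, -1, 0], [0, 1, -1, 0, 0, 0, -1], [0, 1, -1, 0, 0, 0, 0], [0, 1, 0, 0, 0, -1, -1], [0, 1, 0, 0, 0, -1, 0], [0, 1, 0, 0, 0, 0, -1], [0, 1, 0, 0, 0, 0, 0], [0, 1, 0, 0, 0, 0, 1], [0, 1, 0, 0, 0, 1, 0], [0, 1, 0, 0, 0, 1, 1], [0, 1, 0, 0, 1, -1, 0], [0, 1, 0, 0, 1, 0, -1], [0, 1, 0, 0, 1, 0, 0], [0, 1, 0, 0, 1, 0, 1], [0, 1, 0, 0, 1, 1, 0], [0, 1, 0, 1, 0, -1, 0], [0, 1, 0, 1, 0, 0, -1], [0, 1, 0, 1, 0, 0, 0], [0, 1, 0, 1, 0, 0, 1], [0, 1, 0, 1, 0, 1, 0], [0, 1, 0, 1, 1, 0, 0], [0,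 1, 1, 1, 1, 0, 0], [0, 1, 1, 1, 1, 0, 1], [0, 1, 1, 1, 1, 1, 0], [0, 1, 1, 1, 1, 1, 1], [1, -1, 0, 0, 0, 0, 0], [1, 0, -1, 0, 0, -1, -1], [1, 0, -1, 0, 0, -1, 0], [1, 0, -1, 0, 0, 0, -1], [1, 0, -1, 0, 0, 0, 0], [1, 0, 0, 0, 0, -1, -1], [1, 0, 0, 0, 0, -1, 0], [1, 0, 0, 0, 0, 0, -1], [1, 0, 0, 0, 0, 0, 0], [1, 0, 0, 0, 0, 0, 1], [1, 0, 0, 0, 0, 1, 0], [1, 0, 0, 0, 0, 1, 1], [1, 0, 0, 0, 1, -1, 0], [1, 0, 0, 0, 1, 0, -1], [1, 0, 0, 0, 1, 0, 0], [1, 0, 0, 0, 1, 0, 1], [1, 0, 0, 0, 1, 1, 0], [1, 0, 0, 1, 0, -1, 0], [1, 0, 0, 1, 0, 0, -1], [1, 0, 0, 1, 0, 0, 0], [1, 0, 0, 1, 0, 0, 1], [1, 0, 0, 1, 0, 1, 0], [1, 0, 0, 1, 1, 0, 0], [1, 0, 1, 1, 1, 0, 0], [1, 0, 1, 1, 1, 0, 1], [1, 0, 1, 1, 1, 1, 0], [1,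 0, 1, 1, 1, 1, 1], [1, 1, 0, 0, 0, 0, 0], [1, 1, 0, 0, 1, 0, 0], [1, 1, 0, 1, 0, 0, 0], [1, 1, 0, 1, 1, 0, 0]],
   [[0, 0, 0, 0, 0, 0, 0, 0], [0, 0, 0, 0, 0, 0, 0, 1], [0, 0, 0, 0, 0, 0, 1, -1], [0, 0, 0, 0, 0, 0, 1, 0], [0, 0, 0, 0, 0, 0, 1, 1], [0, 0, 0, 0, 0, 1, -1, 0], [0, 0, 0, 0, 0, 1, 0, -1], [0, 0, 0, 0, 0, 1, 0, 0], [0, 0, 0, 0, 0, 1, 0, 1], [0, 0, 0, 0, 0, 1, 1, -1], [0, 0, 0, 0, 0, 1, 1, 0], [0, 0, 0, 0, 0, 1, 1, 1], [0, 0, 0, 0, 1, -1, 0, -1], [0, 0, 0, 0, 1, -1, 0, 0], [0, 0, 0, 0, 1, 0, -1, -1], [0, 0, 0, 0, 1, 0, -1, 0], [0, 0, 0, 0, 1, 0, 0, -1], [0, 0, 0, 0, 1, 0, 0, 0], [0, 0, 0, 0, 1, 0, 1, -1], [0, 0, 0, 0, 1, 0, 1, 0], [0, 0, 0, 0, 1, 1, 0, -1], [0, 0, 0, 0, 1, 1, 0, 0], [0,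 0, 0, 1, -1, 0, 0, 1], [0, 0, 0, 1, 0, -1, 0, 0], [0, 0, 0, 1, 0, -1, 0, 1], [0, 0, 0, 1, 0, 0, -1, 0], [0, 0, 0, 1, 0, 0, -1, 1], [0, 0, 0, 1, 0, 0, 0, 0], [0, 0, 0, 1, 0, 0, 0, 1], [0, 0, 0, 1, 0, 0, 1, 0], [0, 0, 0, 1, 0, 0, 1, 1], [0, 0, 0, 1, 0, 1, 0, 0], [0, 0, 0, 1, 0, 1, 0, 1], [0, 0, 0, 1, 1, 0, 0, 0], [0, 0, 1, 0, 0, 0, 0, -1], [0, 0, 1, 0, 0, 0, 0, 0], [0, 0, 1, 0, 0, 0, 0, 1], [0, 0, 1, 0, 0, 0, 1, 0], [0, 0, 1, 0, 0, 1, 0, 0], [0, 0, 1, 0, 0, 1, 1, -1], [0, 0, 1, 0, 0, 1, 1, 0], [0, 0, 1, 0, 0, 1, 1, 1], [0, 0, 1, 0, 1, 0, 0, -1], [0, 0, 1, 0, 1, 0, 0, 0], [0, 0, 1, 0, 1, 0, 1, -1], [0, 0, 1, 0, 1, 0, 1, 0], [0, 0, 1, 0, 1, 1, 0, -1], [0, 0, 1, 0, 1, 1, 0, 0], [0, 0, 1, 0, 1, 1, 1, -1],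 [0, 0, 1, 0, 1, 1, 1, 0], [0, 0, 1, 1, 0, 0, 0, 0], [0, 0, 1, 1, 0, 0, 0, 1], [0, 0, 1, 1, 0, 0, 1, 0], [0, 0, 1, 1, 0, 0, 1, 1], [0, 0, 1, 1, 0, 1, 0, 0], [0, 0, 1, 1, 0, 1, 0, 1], [0, 0, 1, 1, 0, 1, 1, 0], [0, 0, 1, 1, 0, 1, 1, 1], [0, 0, 1, 1, 1, 0, 0, -1], [0, 0, 1, 1, 1, 0, 0, 0], [0, 0, 1, 1, 1, 0, 0, 1], [0, 0, 1, 1, 1, 0, 1, 0], [0, 0, 1, 1, 1, 1, 0, 0], [0, 0, 1, 1, 1, 1, 1, -1], [0, 0, 1, 1, 1, 1, 1, 0], [0, 0, 1, 1, 1, 1, 1, 1], [0, 0, 2, 1, 1, 1, 1, 0], [0, 1, -1, 0, 0, -1, -1, -1], [0, 1, -1, 0, 0, -1, -1, 0], [0, 1, -1, 0, 0, -1, 0, 0], [0, 1, -1, 0, 0, 0, -1, 0], [0, 1, -1, 0, 0, 0, 0, -1], [0, 1, -1, 0, 0, 0, 0, 0], [0, 1, 0, 0, 0, -1, -1, 0], [0, 1, 0, 0, 0, -1, 0, -1], [0, 1, 0,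 0, 0, -1, 0, 0], [0, 1, 0, 0, 0, 0, -1, -1], [0, 1, 0, 0, 0, 0, -1, 0], [0, 1, 0, 0, 0, 0, 0, -1], [0, 1, 0, 0, 0, 0, 0, 0], [0, 1, 0, 0, 0, 0, 1, -1], [0, 1, 0, 0, 0, 0, 1, 0], [0, 1, 0, 0, 0, 1, 0, -1], [0, 1, 0, 0, 0, 1, 0, 0], [0, 1, 0, 0, 0, 1, 1, 0], [0, 1, 0, 0, 1, -1, 0, -1], [0, 1, 0, 0, 1, 0, -1, -1], [0, 1, 0, 0, 1, 0, 0, -1], [0, 1, 0, 0, 1, 0, 0, 0], [0, 1, 0, 0, 1, 0, 1, -1], [0, 1, 0, 0, 1, 1, 0, -1], [0, 1, 0, 1, 0, -1, 0, 0], [0, 1, 0, 1, 0, 0, -1, 0], [0, 1, 0, 1, 0, 0, 0, 0], [0, 1, 0, 1, 0, 0, 0, 1], [0, 1, 0, 1, 0, 0, 1, 0], [0, 1, 0, 1, 0, 1, 0, 0], [0, 1, 0, 1, 1, 0, 0, -1], [0, 1, 0, 1, 1, 0, 0, 0], [0, 1, 1, 1, 1, 0, 0, -1], [0, 1, 1, 1, 1, 0, 0, 0], [0, 1, 1, 1, 1, 0, 1,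 0], [0, 1, 1, 1, 1, 1, 0, 0], [0, 1, 1, 1, 1, 1, 1, -1], [0, 1, 1, 1, 1, 1, 1, 0], [1, -1, 0, 0, 0, 0, 0, 0], [1, -1, 0, 0, 0, 0, 0, 1], [1, 0, -1, 0, 0, -1, -1, 0], [1, 0, -1, 0, 0, -1, -1, 1], [1, 0, -1, 0, 0, -1, 0, 0], [1, 0, -1, 0, 0, 0, -1, 0], [1, 0, -1, 0, 0, 0, 0, 0], [1, 0, -1, 0, 0, 0, 0, 1], [1, 0, 0, 0, 0, -1, -1, 0], [1, 0, 0, 0, 0, -1, 0, 0], [1, 0, 0, 0, 0, -1, 0, 1], [1, 0, 0, 0, 0, 0, -1, 0], [1, 0, 0, 0, 0, 0, -1, 1], [1, 0, 0, 0, 0, 0, 0, 0], [1, 0, 0, 0, 0, 0, 0, 1], [1, 0, 0, 0, 0, 0, 1, 0], [1, 0, 0, 0, 0, 0, 1, 1], [1, 0, 0, 0, 0, 1, 0, 0], [1, 0, 0, 0, 0, 1, 0, 1], [1, 0, 0, 0, 0, 1, 1, 0], [1, 0, 0, 0, 1, -1, 0, 0], [1, 0, 0, 0, 1, 0, -1, 0], [1, 0, 0, 0, 1, 0, 0, -1], [1,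 0, 0, 0, 1, 0, 0, 0], [1, 0, 0, 0, 1, 0, 1, 0], [1, 0, 0, 0, 1, 1, 0, 0], [1, 0, 0, 1, 0, -1, 0, 1], [1, 0, 0, 1, 0, 0, -1, 1], [1, 0, 0, 1, 0, 0, 0, 0], [1, 0, 0, 1, 0, 0, 0, 1], [1, 0, 0, 1, 0, 0, 1, 1], [1, 0, 0, 1, 0, 1, 0, 1], [1, 0, 0, 1, 1, 0, 0, 0], [1, 0, 0, 1, 1, 0, 0, 1], [1, 0, 1, 1, 1, 0, 0, 0], [1, 0, 1, 1, 1, 0, 0, 1], [1, 0, 1, 1, 1, 0, 1, 0], [1, 0, 1, 1, 1, 1, 0, 0], [1, 0, 1, 1, 1, 1, 1, 0], [1, 0, 1, 1, 1, 1, 1, 1], [1, 1, 0, 0, 0, 0, 0, 0], [1, 1, 0, 1, 1, 0, 0, 0]],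
   [[0, 0, 0, 0, 0, 0, 0, 0, 0], [0, 0, 0, 0, 0, 0, 0, 0, 1], [0, 0, 0, 0, 0, 0, 0, 1, -1], [0, 0, 0, 0, 0, 0, 0, 1, 0], [0, 0, 0, 0, 0, 0, 0, 1, 1], [0, 0, 0, 0, 0, 0, 1, -1, 0], [0, 0, 0, 0, 0, 0, 1, 0, -1], [0, 0, 0, 0, 0, 0, 1, 0, 0], [0, 0, 0, 0, 0, 0, 1, 0, 1], [0, 0, 0, 0, 0, 0, 1, 1, 0], [0, 0, 0, 0, 0, 1, -1, 0, 0], [0, 0, 0, 0, 0, 1, 0, -1, 0], [0, 0, 0, 0, 0, 1, 0, 0, -1], [0, 0, 0, 0, 0, 1, 0, 0, 0], [0, 0, 0, 0, 0, 1, 0, 0, 1], [0, 0, 0, 0, 0, 1, 0, 1, 0], [0, 0, 0, 0, 0, 1, 1, -1, 0], [0, 0, 0, 0, 0, 1, 1, 0, -1], [0, 0, 0, 0, 0, 1, 1, 0, 0], [0, 0, 0, 0, 0, 1, 1, 0, 1], [0, 0, 0, 0, 0, 1, 1, 1, 0], [0, 0, 0, 0, 1, -1, 0, -1, -1], [0, 0, 0, 0, 1, -1, 0, 0, 0], [0, 0, 0, 0, 1, 0, -1,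 -1, -1], [0, 0, 0, 0, 1, 0, -1, 0, 0], [0, 0, 0, 0, 1, 0, 0, -1, -1], [0, 0, 0, 0, 1, 0, 0, -1, 0], [0, 0, 0, 0, 1, 0, 0, 0, -1], [0, 0, 0, 0, 1, 0, 0, 0, 0], [0, 0, 0, 0, 1, 0, 1, -1, -1], [0, 0, 0, 0, 1, 0, 1, 0, 0], [0, 0, 0, 0, 1, 1, 0, -1, -1], [0, 0, 0, 0, 1, 1, 0, 0, 0], [0, 0, 0, 1, -1, 0, 0, 1, 1], [0, 0, 0, 1, 0, -1, 0, 0, 0], [0, 0, 0, 1, 0, -1, 0, 1, 1], [0, 0, 0, 1, 0, 0, -1, 0, 0], [0, 0, 0, 1, 0, 0, -1, 1, 1], [0, 0, 0, 1, 0, 0, 0, 0, 0], [0, 0, 0, 1, 0, 0, 0, 0, 1], [0, 0, 0, 1, 0, 0, 0, 1, 0], [0, 0, 0, 1, 0, 0, 0, 1, 1], [0, 0, 0, 1, 0, 0, 1, 0, 0], [0, 0, 0, 1, 0, 0, 1, 1, 1], [0, 0, 0, 1, 0, 1, 0, 0, 0], [0, 0, 0, 1, 0, 1, 0, 1, 1], [0, 0, 0, 1, 1, 0, 0, 0, 0], [0, 0, 1, 0, 0,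 0, 0, -1, 0], [0, 0, 1, 0, 0, 0, 0, 0, -1], [0, 0, 1, 0, 0, 0, 0, 0, 0], [0, 0, 1, 0, 0, 0, 0, 0, 1], [0, 0, 1, 0, 0, 0, 0, 1, 0], [0, 0, 1, 0, 0, 0, 1, 0, 0], [0, 0, 1, 0, 0, 1, 0, 0, 0], [0, 0, 1, 0, 0, 1, 1, -1, 0], [0, 0, 1, 0, 0, 1, 1, 0, -1], [0, 0, 1, 0, 0, 1, 1, 0, 0], [0, 0, 1, 0, 0, 1, 1, 0, 1], [0, 0, 1, 0, 0, 1, 1, 1, 0], [0, 0, 1, 0, 1, 0, 0, -1, -1], [0, 0, 1, 0, 1, 0, 0, -1, 0], [0, 0, 1, 0, 1, 0, 0, 0, -1], [0, 0, 1, 0, 1, 0, 0, 0, 0], [0, 0, 1, 0, 1, 0, 1, -1, -1], [0, 0, 1, 0, 1, 0, 1, -1, 0], [0, 0, 1, 0, 1, 0, 1, 0, -1], [0, 0, 1, 0, 1, 0, 1, 0, 0], [0, 0, 1, 0, 1, 1, 0, -1, -1], [0, 0, 1, 0, 1, 1, 0, -1, 0], [0, 0, 1, 0, 1, 1, 0, 0, -1], [0, 0, 1, 0, 1, 1, 0, 0, 0], [0, 0, 1,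 0, 1, 1, 1, -1, -1], [0, 0, 1, 0, 1, 1, 1, -1, 0], [0, 0, 1, 0, 1, 1, 1, 0, -1], [0, 0, 1, 0, 1, 1, 1, 0, 0], [0, 0, 1, 1, 0, 0, 0, 0, 0], [0, 0, 1, 1, 0, 0, 0, 0, 1], [0, 0, 1, 1, 0, 0, 0, 1, 0], [0, 0, 1, 1, 0, 0, 0, 1, 1], [0, 0, 1, 1, 0, 0, 1, 0, 0], [0, 0, 1, 1, 0, 0, 1, 0, 1], [0, 0, 1, 1, 0, 0, 1, 1, 0], [0, 0, 1, 1, 0, 0, 1, 1, 1], [0, 0, 1, 1, 0, 1, 0, 0, 0], [0, 0, 1, 1, 0, 1, 0, 0, 1], [0, 0, 1, 1, 0, 1, 0, 1, 0], [0, 0, 1, 1, 0, 1, 0, 1, 1], [0, 0, 1, 1, 0, 1, 1, 0, 0], [0, 0, 1, 1, 0, 1, 1, 0, 1], [0, 0, 1, 1, 0, 1, 1, 1, 0], [0, 0, 1, 1, 0, 1, 1, 1, 1], [0, 0, 1, 1, 1, 0, 0, -1, 0], [0, 0, 1, 1, 1, 0, 0, 0, -1], [0, 0, 1, 1, 1, 0, 0, 0, 0], [0, 0, 1, 1, 1, 0, 0, 0, 1], [0, 0, 1, 1,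 1, 0, 0, 1, 0], [0, 0, 1, 1, 1, 0, 1, 0, 0], [0, 0, 1, 1, 1, 1, 0, 0, 0], [0, 0, 1, 1, 1, 1, 1, -1, 0], [0, 0, 1, 1, 1, 1, 1, 0, -1], [0, 0, 1, 1, 1, 1, 1, 0, 0], [0, 0, 1, 1, 1, 1, 1, 0, 1], [0, 0, 1, 1, 1, 1, 1, 1, 0], [0, 0, 2, 1, 1, 1, 1, 0, 0], [0, 1, -1, 0, 0, -1, -1, -1, 0], [0, 1, -1, 0, 0, -1, -1, 0, -1], [0, 1, -1, 0, 0, -1, -1, 0, 0], [0, 1, -1, 0, 0, -1, 0, 0, 0], [0, 1, -1, 0, 0, 0, -1, 0, 0], [0, 1, -1, 0, 0, 0, 0, -1, 0], [0, 1, -1, 0, 0, 0, 0, 0, -1], [0, 1, -1, 0, 0, 0, 0, 0, 0], [0, 1, 0, 0, 0, -1, -1, 0, 0], [0, 1, 0, 0, 0, -1, 0, 0, 0], [0, 1, 0, 0, 0, 0, -1, 0, 0], [0, 1, 0, 0, 0, 0, 0, -1, -1], [0, 1, 0, 0, 0, 0, 0, -1, 0], [0, 1, 0, 0, 0, 0, 0, 0, -1], [0, 1, 0, 0, 0, 0, 0,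 0, 0], [0, 1, 0, 0, 0, 0, 1, 0, 0], [0, 1, 0, 0, 0, 1, 0, 0, 0], [0, 1, 0, 0, 0, 1, 1, 0, 0], [0, 1, 0, 0, 1, -1, 0, -1, -1], [0, 1, 0, 0, 1, 0, -1, -1, -1], [0, 1, 0, 0, 1, 0, 0, -1, -1], [0, 1, 0, 0, 1, 0, 0, -1, 0], [0, 1, 0, 0, 1, 0, 0, 0, -1], [0, 1, 0, 0, 1, 0, 1, -1, -1], [0, 1, 0, 0, 1, 1, 0, -1, -1], [0, 1, 0, 1, 0, -1, 0, 0, 0], [0, 1, 0, 1, 0, 0, -1, 0, 0], [0, 1, 0, 1, 0, 0, 0, 0, 0], [0, 1, 0, 1, 0, 0, 0, 0, 1], [0, 1, 0, 1, 0, 0, 0, 1, 0], [0, 1, 0, 1, 0, 0, 1, 0, 0], [0, 1, 0, 1, 0, 1, 0, 0, 0], [0, 1, 0, 1, 1, 0, 0, -1, -1], [0, 1, 0, 1, 1, 0, 0, -1, 0], [0, 1, 0, 1, 1, 0, 0, 0, -1], [0, 1, 0, 1, 1, 0, 0, 0, 0], [0, 1, 1, 1, 1, 0, 0, -1, 0], [0, 1, 1, 1, 1, 0, 0, 0, -1], [0, 1, 1,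 1, 1, 0, 0, 0, 0], [0, 1, 1, 1, 1, 0, 1, 0, 0], [0, 1, 1, 1, 1, 1, 0, 0, 0], [0, 1, 1, 1, 1, 1, 1, -1, 0], [0, 1, 1, 1, 1, 1, 1, 0, -1], [0, 1, 1, 1, 1, 1, 1, 0, 0], [1, -1, 0, 0, 0, 0, 0, 0, 0], [1, -1, 0, 0, 0, 0, 0, 0, 1], [1, -1, 0, 0, 0, 0, 0, 1, 0], [1, -1, 0, 0, 0, 0, 0, 1, 1], [1, 0, -1, 0, 0, -1, -1, 0, 0], [1, 0, -1, 0, 0, -1, -1, 0, 1], [1, 0, -1, 0, 0, -1, -1, 1, 0], [1, 0, -1, 0, 0, -1, 0, 0, 0], [1, 0, -1, 0, 0, 0, -1, 0, 0], [1, 0, -1, 0, 0, 0, 0, 0, 0], [1, 0, -1, 0, 0, 0, 0, 0, 1], [1, 0, -1, 0, 0, 0, 0, 1, 0], [1, 0, 0, 0, 0, -1, -1, 0, 0], [1, 0, 0, 0, 0, -1, 0, 0, 0], [1, 0, 0, 0, 0, 0, -1, 0, 0], [1, 0, 0, 0, 0, 0, 0, 0, 0], [1, 0, 0, 0, 0, 0, 0, 0, 1], [1, 0, 0, 0, 0, 0, 0,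 1, 0], [1, 0, 0, 0, 0, 0, 0, 1, 1], [1, 0, 0, 0, 0, 0, 1, 0, 0], [1, 0, 0, 0, 0, 1, 0, 0, 0], [1, 0, 0, 0, 0, 1, 1, 0, 0], [1, 0, 0, 0, 1, -1, 0, 0, 0], [1, 0, 0, 0, 1, 0, -1, 0, 0], [1, 0, 0, 0, 1, 0, 0, -1, 0], [1, 0, 0, 0, 1, 0, 0, 0, -1], [1, 0, 0, 0, 1, 0, 0, 0, 0], [1, 0, 0, 0, 1, 0, 1, 0, 0], [1, 0, 0, 0, 1, 1, 0, 0, 0], [1, 0, 0, 1, 0, -1, 0, 1, 1], [1, 0, 0, 1, 0, 0, -1, 1, 1], [1, 0, 0, 1, 0, 0, 0, 0, 1], [1, 0, 0, 1, 0, 0, 0, 1, 0], [1, 0, 0, 1, 0, 0, 0, 1, 1], [1, 0, 0, 1, 0, 0, 1, 1, 1], [1, 0, 0, 1, 0, 1, 0, 1, 1], [1, 0, 0, 1, 1, 0, 0, 0, 0], [1, 0, 0, 1, 1, 0, 0, 0, 1], [1, 0, 0, 1, 1, 0, 0, 1, 0], [1, 0, 0, 1, 1, 0, 0, 1, 1], [1, 0, 1, 1, 1, 0, 0, 0, 0], [1, 0, 1, 1, 1, 0, 0, 0,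 1], [1, 0, 1, 1, 1, 0, 0, 1, 0], [1, 0, 1, 1, 1, 0, 1, 0, 0], [1, 0, 1, 1, 1, 1, 0, 0, 0], [1, 0, 1, 1, 1, 1, 1, 0, 0], [1, 0, 1, 1, 1, 1, 1, 0, 1], [1, 0, 1, 1, 1, 1, 1, 1, 0], [1, 1, 0, 0, 0, 0, 0, 0, 0], [1, 1, 0, 1, 1, 0, 0, 0, 0]],
   [[0, 0, 0, 0, 0, 0, 0, 0, 0, 0], [0, 0, 0, 0, 0, 0, 0, 0, 0, 1], [0, 0, 0, 0, 0, 0, 0, 0, 1, 0], [0, 0, 0, 0, 0, 0, 0, 0, 1, 1], [0, 0, 0, 0, 0, 0, 0, 1, -1, -1], [0, 0, 0, 0, 0, 0, 0, 1, 0, -1], [0, 0, 0, 0, 0, 0, 0, 1, 0, 0], [0, 0, 0, 0, 0, 0, 0, 1, 1, 0], [0, 0, 0, 0, 0, 0, 1, -1, 0, 1], [0, 0, 0, 0, 0, 0, 1, 0, -1, 0], [0, 0, 0, 0, 0, 0, 1, 0, 0, 0], [0, 0, 0, 0, 0, 0, 1, 0, 0, 1], [0, 0, 0, 0, 0, 0, 1, 0, 1, 1], [0, 0, 0, 0, 0, 0, 1, 1, 0, 0], [0, 0, 0, 0,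 0, 1, -1, 0, 0, -1], [0, 0, 0, 0, 0, 1, 0, -1, 0, 0], [0, 0, 0, 0, 0, 1, 0, 0, -1, -1], [0, 0, 0, 0, 0, 1, 0, 0, 0, -1], [0, 0, 0, 0, 0, 1, 0, 0, 0, 0], [0, 0, 0, 0, 0, 1, 0, 0, 1, 0], [0, 0, 0, 0, 0, 1, 0, 1, 0, -1], [0, 0, 0, 0, 0, 1, 1, 0, 0, -1], [0, 0, 0, 0, 0, 1, 1, 0, 0, 0], [0, 0, 0, 0, 0, 1, 1, 0, 0, 1], [0, 0, 0, 0, 1, 0, 0, -1, -1, 0], [0, 0, 0, 0, 1, 0, 0, -1, 0, 0], [0, 0, 0, 0, 1, 0, 0, -1, 0, 1], [0, 0, 0, 0, 1, 0, 0, 0, -1, -1], [0, 0, 0, 0, 1, 0, 0, 0, -1, 0], [0, 0, 0, 0, 1, 0, 0, 0, 0, 0], [0, 0, 0, 1, -1, 0, 0, 1, 1, 0], [0, 0, 0, 1, 0, 0, 0, 0, 0, 0], [0, 0, 0, 1, 0, 0, 0, 0, 1, 0], [0, 0, 0, 1, 0, 0, 0, 0, 1, 1], [0, 0, 0, 1, 0, 0, 0, 1, 0, -1], [0, 0, 0, 1, 0, 0, 0, 1, 0, 0],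 [0, 0, 0, 1, 0, 0, 0, 1, 1, 0], [0, 0, 0, 1, 1, 0, 0, 0, 0, 0], [0, 0, 1, 0, 0, 0, 0, 0, 0, 0], [0, 0, 1, 0, 0, 0, 1, 0, 0, 0], [0, 0, 1, 0, 0, 0, 1, 0, 0, 1], [0, 0, 1, 0, 0, 1, 0, 0, 0, -1], [0, 0, 1, 0, 0, 1, 0, 0, 0, 0], [0, 0, 1, 0, 0, 1, 1, 0, 0, 0], [0, 0, 1, 0, 1, 0, 0, -1, -1, 0], [0, 0, 1, 0, 1, 0, 0, -1, 0, 0], [0, 0, 1, 0, 1, 0, 0, -1, 0, 1], [0, 0, 1, 0, 1, 0, 0, 0, -1, -1], [0, 0, 1, 0, 1, 0, 0, 0, -1, 0], [0, 0, 1, 0, 1, 0, 0, 0, 0, 0], [0, 0, 1, 0, 1, 0, 1, -1, 0, 1], [0, 0, 1, 0, 1, 0, 1, 0, -1, 0], [0, 0, 1, 0, 1, 1, 0, -1, 0, 0], [0, 0, 1, 0, 1, 1, 0, 0, -1, -1], [0, 0, 1, 0, 1, 1, 1, -1, -1, 0], [0, 0, 1, 0, 1, 1, 1, -1, 0, 0], [0, 0, 1, 0, 1, 1, 1, -1, 0, 1], [0, 0, 1, 0, 1,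 1, 1, 0, -1, -1], [0, 0, 1, 0, 1, 1, 1, 0, -1, 0], [0, 0, 1, 0, 1, 1, 1, 0, 0, 0], [0, 0, 1, 1, 0, 0, 0, 0, 0, 0], [0, 0, 1, 1, 0, 0, 0, 0, 1, 0], [0, 0, 1, 1, 0, 0, 0, 0, 1, 1], [0, 0, 1, 1, 0, 0, 0, 1, 0, -1], [0, 0, 1, 1, 0, 0, 0, 1, 0, 0], [0, 0, 1, 1, 0, 0, 0, 1, 1, 0], [0, 0, 1, 1, 0, 0, 1, 0, 1, 1], [0, 0, 1, 1, 0, 0, 1, 1, 0, 0], [0, 0, 1, 1, 0, 1, 0, 0, 1, 0], [0, 0, 1, 1, 0, 1, 0, 1, 0, -1], [0, 0, 1, 1, 0, 1, 1, 0, 0, 0], [0, 0, 1, 1, 0, 1, 1, 0, 1, 0], [0, 0, 1, 1, 0, 1, 1, 0, 1, 1], [0, 0, 1, 1, 0, 1, 1, 1, 0, -1], [0, 0, 1, 1, 0, 1, 1, 1, 0, 0], [0, 0, 1, 1, 0, 1, 1, 1, 1, 0], [0, 0, 1, 1, 1, 0, 0, 0, 0, 0], [0, 0, 1, 1, 1, 0, 1, 0, 0, 0], [0, 0, 1, 1, 1, 0, 1, 0, 0, 1], [0, 0, 1, 1,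 1, 1, 0, 0, 0, -1], [0, 0, 1, 1, 1, 1, 0, 0, 0, 0], [0, 0, 1, 1, 1, 1, 1, 0, 0, 0], [0, 0, 2, 1, 1, 1, 1, 0, 0, 0], [0, 1, -1, 0, 0, -1, -1, 0, 0, 0], [0, 1, -1, 0, 0, 0, 0, 0, 0, 0], [0, 1, 0, 0, 0, -1, -1, 0, 0, 0], [0, 1, 0, 0, 0, -1, 0, 0, 0, 0], [0, 1, 0, 0, 0, -1, 0, 0, 0, 1], [0, 1, 0, 0, 0, 0, -1, 0, 0, -1], [0, 1, 0, 0, 0, 0, -1, 0, 0, 0], [0, 1, 0, 0, 0, 0, 0, -1, -1, 0], [0, 1, 0, 0, 0, 0, 0, -1, 0, 0], [0, 1, 0, 0, 0, 0, 0, -1, 0, 1], [0, 1, 0, 0, 0, 0, 0, 0, -1, -1], [0, 1, 0, 0, 0, 0, 0, 0, -1, 0], [0, 1, 0, 0, 0, 0, 0, 0, 0, -1], [0, 1, 0, 0, 0, 0, 0, 0, 0, 0], [0, 1, 0, 0, 0, 0, 0, 0, 0, 1], [0, 1, 0, 0, 0, 0, 1, 0, 0, 0], [0, 1, 0, 0, 0, 0, 1, 0, 0, 1], [0, 1, 0, 0, 0, 1, 0, 0, 0,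 -1], [0, 1, 0, 0, 0, 1, 0, 0, 0, 0], [0, 1, 0, 0, 0, 1, 1, 0, 0, 0], [0, 1, 0, 0, 1, 0, 0, -1, -1, 0], [0, 1, 0, 1, 0, 0, 0, 0, 0, 0], [0, 1, 0, 1, 1, 0, 0, -1, -1, 0], [0, 1, 0, 1, 1, 0, 0, 0, 0, 0], [0, 1, 1, 1, 1, 0, 0, 0, 0, 0], [0, 1, 1, 1, 1, 1, 1, 0, 0, 0], [1, -1, 0, 0, 0, 0, 0, 0, 0, 0], [1, -1, 0, 0, 0, 0, 0, 1, 1, 0], [1, 0, -1, 0, 0, -1, -1, 0, 0, 0], [1, 0, -1, 0, 0, 0, 0, 0, 0, 0], [1, 0, 0, 0, 0, -1, -1, 0, 0, 0], [1, 0, 0, 0, 0, -1, 0, 0, 0, 0], [1, 0, 0, 0, 0, -1, 0, 0, 0, 1], [1, 0, 0, 0, 0, 0, -1, 0, 0, -1], [1, 0, 0, 0, 0, 0, -1, 0, 0, 0], [1, 0, 0, 0, 0, 0, 0, 0, 0, -1], [1, 0, 0, 0, 0, 0, 0, 0, 0, 0], [1, 0, 0, 0, 0, 0, 0, 0, 0, 1], [1, 0, 0, 0, 0, 0, 0, 0, 1, 0], [1, 0, 0,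 0, 0, 0, 0, 0, 1, 1], [1, 0, 0, 0, 0, 0, 0, 1, 0, -1], [1, 0, 0, 0, 0, 0, 0, 1, 0, 0], [1, 0, 0, 0, 0, 0, 0, 1, 1, 0], [1, 0, 0, 0, 0, 0, 1, 0, 0, 0], [1, 0, 0, 0, 0, 0, 1, 0, 0, 1], [1, 0, 0, 0, 0, 1, 0, 0, 0, -1], [1, 0, 0, 0, 0, 1, 0, 0, 0, 0], [1, 0, 0, 0, 0, 1, 1, 0, 0, 0], [1, 0, 0, 0, 1, 0, 0, 0, 0, 0], [1, 0, 0, 1, 0, 0, 0, 1, 1, 0], [1, 0, 0, 1, 1, 0, 0, 0, 0, 0], [1, 0, 0, 1, 1, 0, 0, 1, 1, 0], [1, 0, 1, 1, 1, 0, 0, 0, 0, 0], [1, 0, 1, 1, 1, 1, 1, 0, 0, 0], [1, 1, 0, 0, 0, 0, 0, 0, 0, 0], [1, 1, 0, 1, 1, 0, 0, 0, 0, 0]],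
   [[0, 0, 0, 0, 0, 0, 0, 0, 0, 0, 0], [0, 0, 0, 0, 0, 0, 0, 0, 0, 0, 2], [0, 0, 0, 0, 0, 0, 0, 0, 0, 1, 0], [0, 0, 0, 0, 0, 0, 0, 0, 1, 0, -1], [0, 0, 0, 0, 0, 0, 0, 0, 1, 0, 1], [0, 0, 0, 0, 0, 0, 0, 0, 1, 1, -1], [0, 0, 0, 0, 0, 0, 0, 0, 1, 1, 1], [0, 0, 0, 0, 0, 0, 0, 1, 0, -1, 0], [0, 0, 0, 0, 0, 0, 0, 1, 0, 0, 0], [0, 0, 0, 0, 0, 0, 0, 1, 1, 0, -1], [0, 0, 0, 0, 0, 0, 0, 1, 1, 0, 1], [0, 0, 0, 0, 0, 0, 1, -1, 0, 1, 0], [0, 0, 0, 0, 0, 0, 1, 0, -1, 0, 1], [0, 0, 0, 0, 0, 0, 1, 0, 0, 0, 0], [0, 0, 0, 0, 0, 0, 1, 0, 0, 1, 0], [0, 0, 0, 0, 0, 0, 1, 0, 1, 1, 1], [0, 0, 0, 0, 0, 0, 1, 1, 0, 0, 0], [0, 0, 0, 0, 0, 1, -1, 0, 0, -1, 0], [0, 0, 0, 0, 0, 1, 0, -1, 0, 0, 0], [0, 0, 0, 0, 0, 1, 0, 0, -1,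 -1, 1], [0, 0, 0, 0, 0, 1, 0, 0, 0, -1, 0], [0, 0, 0, 0, 0, 1, 0, 0, 0, 0, 0], [0, 0, 0, 0, 0, 1, 0, 0, 1, 0, 1], [0, 0, 0, 0, 0, 1, 0, 1, 0, -1, 0], [0, 0, 0, 0, 0, 1, 1, 0, 0, 0, 0], [0, 0, 0, 0, 0, 1, 1, 0, 0, 1, 0], [0, 0, 0, 0, 1, 0, 0, -1, -1, 0, -1], [0, 0, 0, 0, 1, 0, 0, -1, 0, 0, 0], [0, 0, 0, 0, 1, 0, 0, -1, 0, 1, 0], [0, 0, 0, 0, 1, 0, 0, 0, -1, -1, -1], [0, 0, 0, 0, 1, 0, 0, 0, -1, 0, -1], [0, 0, 0, 0, 1, 0, 0, 0, 0, 0, 0], [0, 0, 0, 1, 0, 0, 0, 0, 0, 0, 1], [0, 0, 0, 1, 0, 0, 0, 0, 1, 0, 0], [0, 0, 0, 1, 0, 0, 0, 0, 1, 1, 0], [0, 0, 0, 1, 0, 0, 0, 1, 0, -1, 1], [0, 0, 0, 1, 0, 0, 0, 1, 0, 0, 1], [0, 0, 0, 1, 0, 0, 0, 1, 1, 0, 0], [0, 0, 0, 1, 1, 0, 0, 0, 0, 0, -1], [0, 0, 0, 1, 1, 0,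 0, 0, 0, 0, 1], [0, 0, 1, 0, 0, 0, 0, 0, 0, 0, -1], [0, 0, 1, 0, 0, 0, 0, 0, 0, 0, 1], [0, 0, 1, 0, 0, 0, 1, 0, 0, 0, 1], [0, 0, 1, 0, 0, 0, 1, 0, 0, 1, -1], [0, 0, 1, 0, 0, 1, 0, 0, 0, -1, 1], [0, 0, 1, 0, 0, 1, 0, 0, 0, 0, -1], [0, 0, 1, 0, 0, 1, 1, 0, 0, 0, -1], [0, 0, 1, 0, 0, 1, 1, 0, 0, 0, 1], [0, 0, 1, 0, 1, 0, 0, -1, -1, 0, 0], [0, 0, 1, 0, 1, 0, 0, -1, 0, 1, -1], [0, 0, 1, 0, 1, 0, 0, 0, 0, 0, -1], [0, 0, 1, 0, 1, 1, 1, -1, -1, 0, 0], [0, 0, 1, 0, 1, 1, 1, 0, -1, -1, 0], [0, 0, 1, 0, 1, 1, 1, 0, 0, 0, -1], [0, 0, 1, 1, 0, 0, 0, 0, 0, 0, 0], [0, 0, 1, 1, 0, 0, 0, 1, 0, 0, 0], [0, 0, 1, 1, 0, 0, 0, 1, 1, 0, 1], [0, 0, 1, 1, 0, 1, 1, 0, 0, 0, 0], [0, 0, 1, 1, 0, 1, 1, 0, 1, 0, 1], [0, 0, 1,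 1, 0, 1, 1, 1, 1, 0, 1], [0, 0, 1, 1, 1, 0, 0, 0, 0, 0, 0], [0, 0, 1, 1, 1, 0, 1, 0, 0, 0, 0], [0, 0, 1, 1, 1, 0, 1, 0, 0, 1, 0], [0, 0, 1, 1, 1, 1, 0, 0, 0, -1, 0], [0, 0, 1, 1, 1, 1, 0, 0, 0, 0, 0], [0, 0, 1, 1, 1, 1, 1, 0, 0, 0, 0], [0, 1, -1, 0, 0, -1, -1, 0, 0, 0, -1], [0, 1, -1, 0, 0, 0, 0, 0, 0, 0, 1], [0, 1, 0, 0, 0, -1, 0, 0, 0, 0, 0], [0, 1, 0, 0, 0, 0, -1, 0, 0, -1, 0], [0, 1, 0, 0, 0, 0, 0, -1, -1, 0, -1], [0, 1, 0, 0, 0, 0, 0, -1, -1, 0, 1], [0, 1, 0, 0, 0, 0, 0, -1, 0, 0, 0], [0, 1, 0, 0, 0, 0, 0, -1, 0, 1, 0], [0, 1, 0, 0, 0, 0, 0, 0, -1, -1, 1], [0, 1, 0, 0, 0, 0, 0, 0, -1, 0, -1], [0, 1, 0, 0, 0, 0, 0, 0, 0, 0, 0], [0, 1, 0, 0, 0, 0, 1, 0, 0, 1, 0], [0, 1, 0, 0, 0, 1, 0, 0, 0, 0,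 0], [0, 1, 0, 0, 1, 0, 0, -1, -1, 0, -1], [0, 1, 0, 1, 0, 0, 0, 0, 0, 0, 1], [0, 1, 0, 1, 1, 0, 0, -1, -1, 0, 0], [0, 1, 0, 1, 1, 0, 0, 0, 0, 0, -1], [0, 1, 0, 1, 1, 0, 0, 0, 0, 0, 1], [0, 1, 1, 1, 1, 0, 0, 0, 0, 0, 0], [0, 1, 1, 1, 1, 1, 1, 0, 0, 0, 0], [1, -1, 0, 0, 0, 0, 0, 0, 0, 0, 0], [1, -1, 0, 0, 0, 0, 0, 1, 1, 0, -1], [1, -1, 0, 0, 0, 0, 0, 1, 1, 0, 1], [1, 0, -1, 0, 0, -1, -1, 0, 0, 0, -1], [1, 0, -1, 0, 0, 0, 0, 0, 0, 0, 1], [1, 0, 0, 0, 0, -1, 0, 0, 0, 0, 0], [1, 0, 0, 0, 0, 0, -1, 0, 0, -1, 0], [1, 0, 0, 0, 0, 0, 0, 0, 0, 0, 0], [1, 0, 0, 0, 0, 0, 0, 0, 1, 0, 1], [1, 0, 0, 0, 0, 0, 0, 0, 1, 1, -1], [1, 0, 0, 0, 0, 0, 0, 1, 0, -1, 0], [1, 0, 0, 0, 0, 0, 0, 1, 0, 0, 0], [1, 0, 0, 0, 0,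 0, 0, 1, 1, 0, -1], [1, 0, 0, 0, 0, 0, 0, 1, 1, 0, 1], [1, 0, 0, 0, 0, 0, 1, 0, 0, 1, 0], [1, 0, 0, 0, 0, 1, 0, 0, 0, 0, 0], [1, 0, 0, 0, 1, 0, 0, 0, 0, 0, 0], [1, 0, 0, 1, 0, 0, 0, 1, 1, 0, 0], [1, 0, 0, 1, 1, 0, 0, 0, 0, 0, -1], [1, 0, 0, 1, 1, 0, 0, 0, 0, 0, 1], [1, 0, 0, 1, 1, 0, 0, 1, 1, 0, 0], [1, 0, 1, 1, 1, 0, 0, 0, 0, 0, 0], [1, 0, 1, 1, 1, 1, 1, 0, 0, 0, 0], [1, 1, 0, 0, 0, 0, 0, 0, 0, 0, 0], [1, 1, 0, 1, 1, 0, 0, 0, 0, 0, -1], [1, 1, 0, 1, 1, 0, 0, 0, 0, 0, 1]]]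

/-- The beginnings of the possible columns. -/
def prefs : List (List (List ℤ)) :=
  [[[]],
   [[0], [1]],
   [[0, 0], [0, 1], [1, -1], [1, 0], [1, 1]],
   [[0, 0, 0], [0, 0, 1], [0, 1, -1], [0, 1, 0], [0, 1, 1], [1, -1, 0], [1, 0, -1], [1, 0, 0], [1, 0, 1], [1, 1, 0]],
   [[0, 0, 0, 0], [0, 0, 0, 1], [0, 0, 1, 0], [0, 0, 1, 1], [0, 1, -1, 0], [0, 1, 0, 0], [0, 1, 0, 1], [0, 1, 1, 1], [1, -1, 0, 0], [1, 0, -1, 0], [1, 0, 0, 0], [1, 0, 0, 1], [1, 0, 1, 1], [1, 1, 0, 0], [1, 1, 0, 1]],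
   [[0, 0, 0, 0, 0], [0, 0, 0, 0, 1], [0, 0, 0, 1, 0], [0, 0, 0, 1, 1], [0, 0, 1, 0, 0], [0, 0, 1, 0, 1], [0, 0, 1, 1, 0], [0, 0, 1, 1, 1], [0, 1, -1, 0, 0], [0, 1, 0, 0, 0], [0, 1, 0, 0, 1], [0, 1, 0, 1, 0], [0, 1, 0, 1, 1], [0, 1, 1, 1, 1], [1, -1, 0, 0, 0], [1, 0, -1, 0, 0], [1, 0, 0, 0, 0], [1, 0, 0, 0, 1], [1, 0, 0, 1, 0], [1, 0, 0, 1, 1], [1, 0, 1, 1, 1], [1, 1, 0, 0, 0], [1, 1, 0, 1, 1]],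
   [[0, 0, 0, 0, 0, 0], [0, 0, 0, 0, 0, 1], [0, 0, 0, 0, 1, 0], [0, 0, 0, 1, 0, 0], [0, 0, 0, 1, 1, 0], [0, 0, 1, 0, 0, 0], [0, 0, 1, 0, 0, 1], [0, 0, 1, 0, 1, 0], [0, 0, 1, 0, 1, 1], [0, 0, 1, 1, 0, 0], [0, 0, 1, 1, 0, 1], [0, 0, 1, 1, 1, 0], [0, 0, 1, 1, 1, 1], [0, 1, -1, 0, 0, -1], [0, 1, -1, 0, 0, 0], [0, 1, 0, 0, 0, -1], [0, 1, 0, 0, 0, 0], [0, 1, 0, 0, 0, 1], [0, 1, 0, 0, 1, 0], [0, 1, 0, 1, 0, 0], [0, 1, 0, 1, 1, 0], [0, 1, 1, 1, 1, 0], [0, 1, 1, 1, 1, 1], [1, -1, 0, 0, 0, 0], [1, 0, -1, 0, 0, -1], [1, 0, -1, 0, 0, 0], [1, 0, 0, 0, 0, -1], [1, 0, 0, 0, 0, 0], [1, 0, 0, 0, 0, 1], [1, 0, 0, 0, 1, 0], [1, 0, 0, 1, 0, 0], [1, 0, 0, 1, 1, 0], [1, 0, 1, 1, 1, 0], [1, 0, 1, 1, 1, 1], [1, 1, 0, 0,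 0, 0], [1, 1, 0, 1, 1, 0]],
   [[0, 0, 0, 0, 0, 0, 0], [0, 0, 0, 0, 0, 0, 1], [0, 0, 0, 0, 0, 1, -1], [0, 0, 0, 0, 0, 1, 0], [0, 0, 0, 0, 0, 1, 1], [0, 0, 0, 0, 1, 0, 0], [0, 0, 0, 1, 0, 0, 0], [0, 0, 0, 1, 1, 0, 0], [0, 0, 1, 0, 0, 0, 0], [0, 0, 1, 0, 0, 0, 1], [0, 0, 1, 0, 0, 1, 0], [0, 0, 1, 0, 0, 1, 1], [0, 0, 1, 0, 1, 0, 0], [0, 0, 1, 0, 1, 1, 1], [0, 0, 1, 1, 0, 0, 0], [0, 0, 1, 1, 0, 1, 1], [0, 0, 1, 1, 1, 0, 0], [0, 0, 1, 1, 1, 0, 1], [0, 0, 1, 1, 1, 1, 0], [0, 0, 1, 1, 1, 1, 1], [0, 1, -1, 0, 0, -1, -1], [0, 1, -1, 0, 0, 0, 0], [0, 1, 0, 0, 0, -1, 0], [0, 1, 0, 0, 0, 0, -1], [0, 1, 0, 0, 0, 0, 0], [0, 1, 0, 0, 0, 0, 1], [0, 1, 0, 0, 0, 1, 0], [0, 1, 0, 0, 1, 0, 0], [0, 1, 0, 1, 0, 0, 0],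 [0, 1, 0, 1, 1, 0, 0], [0, 1, 1, 1, 1, 0, 0], [0, 1, 1, 1, 1, 1, 1], [1, -1, 0, 0, 0, 0, 0], [1, 0, -1, 0, 0, -1, -1], [1, 0, -1, 0, 0, 0, 0], [1, 0, 0, 0, 0, -1, 0], [1, 0, 0, 0, 0, 0, -1], [1, 0, 0, 0, 0, 0, 0], [1, 0, 0, 0, 0, 0, 1], [1, 0, 0, 0, 0, 1, 0], [1, 0, 0, 0, 1, 0, 0], [1, 0, 0, 1, 0, 0, 0], [1, 0, 0, 1, 1, 0, 0], [1, 0, 1, 1, 1, 0, 0], [1, 0, 1, 1, 1, 1, 1], [1, 1, 0, 0, 0, 0, 0], [1, 1, 0, 1, 1, 0, 0]],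
   [[0, 0, 0, 0, 0, 0, 0, 0], [0, 0, 0, 0, 0, 0, 0, 1], [0, 0, 0, 0, 0, 0, 1, -1], [0, 0, 0, 0, 0, 0, 1, 0], [0, 0, 0, 0, 0, 0, 1, 1], [0, 0, 0, 0, 0, 1, -1, 0], [0, 0, 0, 0, 0, 1, 0, -1], [0, 0, 0, 0, 0, 1, 0, 0], [0, 0, 0, 0, 0, 1, 0, 1], [0, 0, 0, 0, 0, 1, 1, 0], [0, 0, 0, 0, 1, 0, 0, -1], [0, 0, 0, 0, 1, 0, 0, 0], [0, 0, 0, 1, 0, 0, 0, 0], [0, 0, 0, 1, 0, 0, 0, 1], [0, 0, 0, 1, 1, 0, 0, 0], [0, 0, 1, 0, 0, 0, 0, 0], [0, 0, 1, 0, 0, 0, 1, 0], [0, 0, 1, 0, 0, 1, 0, 0], [0, 0, 1, 0, 0, 1, 1, 0], [0, 0, 1, 0, 1, 0, 0, -1], [0, 0, 1, 0, 1, 0, 0, 0], [0, 0, 1, 0, 1, 1, 1, -1], [0, 0, 1, 0, 1, 1, 1, 0], [0, 0, 1, 1, 0, 0, 0, 0], [0, 0, 1, 1, 0, 0, 0, 1], [0, 0, 1, 1, 0, 1, 1, 0], [0, 0, 1, 1, 0, 1,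 1, 1], [0, 0, 1, 1, 1, 0, 0, 0], [0, 0, 1, 1, 1, 0, 1, 0], [0, 0, 1, 1, 1, 1, 0, 0], [0, 0, 1, 1, 1, 1, 1, 0], [0, 1, -1, 0, 0, -1, -1, 0], [0, 1, -1, 0, 0, 0, 0, 0], [0, 1, 0, 0, 0, -1, 0, 0], [0, 1, 0, 0, 0, 0, -1, 0], [0, 1, 0, 0, 0, 0, 0, -1], [0, 1, 0, 0, 0, 0, 0, 0], [0, 1, 0, 0, 0, 0, 1, 0], [0, 1, 0, 0, 0, 1, 0, 0], [0, 1, 0, 0, 1, 0, 0, -1], [0, 1, 0, 1, 0, 0, 0, 0], [0, 1, 0, 1, 1, 0, 0, -1], [0, 1, 0, 1, 1, 0, 0, 0], [0, 1, 1, 1, 1, 0, 0, 0], [0, 1, 1, 1, 1, 1, 1, 0], [1, -1, 0, 0, 0, 0, 0, 0], [1, -1, 0, 0, 0, 0, 0, 1], [1, 0, -1, 0, 0, -1, -1, 0], [1, 0, -1, 0, 0, 0, 0, 0], [1, 0, 0, 0, 0, -1, 0, 0], [1, 0, 0, 0, 0, 0, -1, 0], [1, 0, 0, 0, 0, 0, 0, 0], [1, 0, 0, 0, 0, 0, 0, 1], [1, 0,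 0, 0, 0, 0, 1, 0], [1, 0, 0, 0, 0, 1, 0, 0], [1, 0, 0, 0, 1, 0, 0, 0], [1, 0, 0, 1, 0, 0, 0, 1], [1, 0, 0, 1, 1, 0, 0, 0], [1, 0, 0, 1, 1, 0, 0, 1], [1, 0, 1, 1, 1, 0, 0, 0], [1, 0, 1, 1, 1, 1, 1, 0], [1, 1, 0, 0, 0, 0, 0, 0], [1, 1, 0, 1, 1, 0, 0, 0]],
   [[0, 0, 0, 0, 0, 0, 0, 0, 0], [0, 0, 0, 0, 0, 0, 0, 0, 1], [0, 0, 0, 0, 0, 0, 0, 1, 0], [0, 0, 0, 0, 0, 0, 0, 1, 1], [0, 0, 0, 0, 0, 0, 1, -1, 0], [0, 0, 0, 0, 0, 0, 1, 0, -1], [0, 0, 0, 0, 0, 0, 1, 0, 0], [0, 0, 0, 0, 0, 0, 1, 0, 1], [0, 0, 0, 0, 0, 0, 1, 1, 0], [0, 0, 0, 0, 0, 1, -1, 0, 0], [0, 0, 0, 0, 0, 1, 0, -1, 0], [0, 0, 0, 0, 0, 1, 0, 0, -1], [0, 0, 0, 0, 0, 1, 0, 0, 0], [0, 0, 0, 0, 0, 1, 0, 0, 1], [0, 0, 0, 0, 0, 1, 0, 1, 0], [0, 0,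 0, 0, 0, 1, 1, 0, 0], [0, 0, 0, 0, 1, 0, 0, -1, -1], [0, 0, 0, 0, 1, 0, 0, -1, 0], [0, 0, 0, 0, 1, 0, 0, 0, -1], [0, 0, 0, 0, 1, 0, 0, 0, 0], [0, 0, 0, 1, 0, 0, 0, 0, 0], [0, 0, 0, 1, 0, 0, 0, 0, 1], [0, 0, 0, 1, 0, 0, 0, 1, 0], [0, 0, 0, 1, 0, 0, 0, 1, 1], [0, 0, 0, 1, 1, 0, 0, 0, 0], [0, 0, 1, 0, 0, 0, 0, 0, 0], [0, 0, 1, 0, 0, 0, 1, 0, 0], [0, 0, 1, 0, 0, 1, 0, 0, 0], [0, 0, 1, 0, 0, 1, 1, 0, 0], [0, 0, 1, 0, 1, 0, 0, -1, -1], [0, 0, 1, 0, 1, 0, 0, -1, 0], [0, 0, 1, 0, 1, 0, 0, 0, 0], [0, 0, 1, 0, 1, 1, 1, -1, -1], [0, 0, 1, 0, 1, 1, 1, 0, -1], [0, 0, 1, 0, 1, 1, 1, 0, 0], [0, 0, 1, 1, 0, 0, 0, 0, 0], [0, 0, 1, 1, 0, 0, 0, 1, 0], [0, 0, 1, 1, 0, 0, 0, 1, 1], [0, 0, 1, 1, 0, 1, 1, 0, 0], [0, 0,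 1, 1, 0, 1, 1, 0, 1], [0, 0, 1, 1, 0, 1, 1, 1, 1], [0, 0, 1, 1, 1, 0, 0, 0, 0], [0, 0, 1, 1, 1, 0, 1, 0, 0], [0, 0, 1, 1, 1, 1, 0, 0, 0], [0, 0, 1, 1, 1, 1, 1, 0, 0], [0, 1, -1, 0, 0, -1, -1, 0, 0], [0, 1, -1, 0, 0, 0, 0, 0, 0], [0, 1, 0, 0, 0, -1, 0, 0, 0], [0, 1, 0, 0, 0, 0, -1, 0, 0], [0, 1, 0, 0, 0, 0, 0, -1, -1], [0, 1, 0, 0, 0, 0, 0, -1, 0], [0, 1, 0, 0, 0, 0, 0, 0, -1], [0, 1, 0, 0, 0, 0, 0, 0, 0], [0, 1, 0, 0, 0, 0, 1, 0, 0], [0, 1, 0, 0, 0, 1, 0, 0, 0], [0, 1, 0, 0, 1, 0, 0, -1, -1], [0, 1, 0, 1, 0, 0, 0, 0, 0], [0, 1, 0, 1, 1, 0, 0, -1, -1], [0, 1, 0, 1, 1, 0, 0, 0, 0], [0, 1, 1, 1, 1, 0, 0, 0, 0], [0, 1, 1, 1, 1, 1, 1, 0, 0], [1, -1, 0, 0, 0, 0, 0, 0, 0], [1, -1, 0, 0, 0, 0, 0, 1, 1],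 [1, 0, -1, 0, 0, -1, -1, 0, 0], [1, 0, -1, 0, 0, 0, 0, 0, 0], [1, 0, 0, 0, 0, -1, 0, 0, 0], [1, 0, 0, 0, 0, 0, -1, 0, 0], [1, 0, 0, 0, 0, 0, 0, 0, 0], [1, 0, 0, 0, 0, 0, 0, 0, 1], [1, 0, 0, 0, 0, 0, 0, 1, 0], [1, 0, 0, 0, 0, 0, 0, 1, 1], [1, 0, 0, 0, 0, 0, 1, 0, 0], [1, 0, 0, 0, 0, 1, 0, 0, 0], [1, 0, 0, 0, 1, 0, 0, 0, 0], [1, 0, 0, 1, 0, 0, 0, 1, 1], [1, 0, 0, 1, 1, 0, 0, 0, 0], [1, 0, 0, 1, 1, 0, 0, 1, 1], [1, 0, 1, 1, 1, 0, 0, 0, 0], [1, 0, 1, 1, 1, 1, 1, 0, 0], [1, 1, 0, 0, 0, 0, 0, 0, 0], [1, 1, 0, 1, 1, 0, 0, 0, 0]],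
   [[0, 0, 0, 0, 0, 0, 0, 0, 0, 0], [0, 0, 0, 0, 0, 0, 0, 0, 0, 1], [0, 0, 0, 0, 0, 0, 0, 0, 1, 0], [0, 0, 0, 0, 0, 0, 0, 0, 1, 1], [0, 0, 0, 0, 0, 0, 0, 1, 0, -1], [0, 0, 0, 0, 0, 0, 0, 1, 0, 0], [0, 0, 0, 0, 0, 0, 0, 1, 1, 0], [0, 0, 0, 0, 0, 0, 1, -1, 0, 1], [0, 0, 0, 0, 0, 0, 1, 0, -1, 0], [0, 0, 0, 0, 0, 0, 1, 0, 0, 0], [0, 0, 0, 0, 0, 0, 1, 0, 0, 1], [0, 0, 0, 0, 0, 0, 1, 0, 1, 1], [0, 0, 0, 0, 0, 0, 1, 1, 0, 0], [0, 0, 0, 0, 0, 1, -1, 0, 0, -1], [0, 0, 0, 0, 0, 1, 0, -1, 0, 0], [0, 0, 0, 0, 0, 1, 0, 0, -1, -1], [0, 0, 0, 0, 0, 1, 0, 0, 0, -1], [0, 0, 0, 0, 0, 1, 0, 0, 0, 0], [0, 0, 0, 0, 0, 1, 0, 0, 1, 0], [0, 0, 0, 0, 0, 1, 0, 1, 0, -1], [0, 0, 0, 0, 0, 1, 1, 0, 0, 0], [0, 0, 0, 0, 0, 1,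 1, 0, 0, 1], [0, 0, 0, 0, 1, 0, 0, -1, -1, 0], [0, 0, 0, 0, 1, 0, 0, -1, 0, 0], [0, 0, 0, 0, 1, 0, 0, -1, 0, 1], [0, 0, 0, 0, 1, 0, 0, 0, -1, -1], [0, 0, 0, 0, 1, 0, 0, 0, -1, 0], [0, 0, 0, 0, 1, 0, 0, 0, 0, 0], [0, 0, 0, 1, 0, 0, 0, 0, 0, 0], [0, 0, 0, 1, 0, 0, 0, 0, 1, 0], [0, 0, 0, 1, 0, 0, 0, 0, 1, 1], [0, 0, 0, 1, 0, 0, 0, 1, 0, -1], [0, 0, 0, 1, 0, 0, 0, 1, 0, 0], [0, 0, 0, 1, 0, 0, 0, 1, 1, 0], [0, 0, 0, 1, 1, 0, 0, 0, 0, 0], [0, 0, 1, 0, 0, 0, 0, 0, 0, 0], [0, 0, 1, 0, 0, 0, 1, 0, 0, 0], [0, 0, 1, 0, 0, 0, 1, 0, 0, 1], [0, 0, 1, 0, 0, 1, 0, 0, 0, -1], [0, 0, 1, 0, 0, 1, 0, 0, 0, 0], [0, 0, 1, 0, 0, 1, 1, 0, 0, 0], [0, 0, 1, 0, 1, 0, 0, -1, -1, 0], [0, 0, 1, 0, 1, 0, 0, -1, 0, 1], [0, 0, 1,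 0, 1, 0, 0, 0, 0, 0], [0, 0, 1, 0, 1, 1, 1, -1, -1, 0], [0, 0, 1, 0, 1, 1, 1, 0, -1, -1], [0, 0, 1, 0, 1, 1, 1, 0, 0, 0], [0, 0, 1, 1, 0, 0, 0, 0, 0, 0], [0, 0, 1, 1, 0, 0, 0, 1, 0, 0], [0, 0, 1, 1, 0, 0, 0, 1, 1, 0], [0, 0, 1, 1, 0, 1, 1, 0, 0, 0], [0, 0, 1, 1, 0, 1, 1, 0, 1, 0], [0, 0, 1, 1, 0, 1, 1, 1, 1, 0], [0, 0, 1, 1, 1, 0, 0, 0, 0, 0], [0, 0, 1, 1, 1, 0, 1, 0, 0, 0], [0, 0, 1, 1, 1, 0, 1, 0, 0, 1], [0, 0, 1, 1, 1, 1, 0, 0, 0, -1], [0, 0, 1, 1, 1, 1, 0, 0, 0, 0], [0, 0, 1, 1, 1, 1, 1, 0, 0, 0], [0, 1, -1, 0, 0, -1, -1, 0, 0, 0], [0, 1, -1, 0, 0, 0, 0, 0, 0, 0], [0, 1, 0, 0, 0, -1, 0, 0, 0, 0], [0, 1, 0, 0, 0, 0, -1, 0, 0, -1], [0, 1, 0, 0, 0, 0, 0, -1, -1, 0], [0, 1, 0, 0, 0, 0, 0, -1, 0,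 0], [0, 1, 0, 0, 0, 0, 0, -1, 0, 1], [0, 1, 0, 0, 0, 0, 0, 0, -1, -1], [0, 1, 0, 0, 0, 0, 0, 0, -1, 0], [0, 1, 0, 0, 0, 0, 0, 0, 0, 0], [0, 1, 0, 0, 0, 0, 1, 0, 0, 1], [0, 1, 0, 0, 0, 1, 0, 0, 0, 0], [0, 1, 0, 0, 1, 0, 0, -1, -1, 0], [0, 1, 0, 1, 0, 0, 0, 0, 0, 0], [0, 1, 0, 1, 1, 0, 0, -1, -1, 0], [0, 1, 0, 1, 1, 0, 0, 0, 0, 0], [0, 1, 1, 1, 1, 0, 0, 0, 0, 0], [0, 1, 1, 1, 1, 1, 1, 0, 0, 0], [1, -1, 0, 0, 0, 0, 0, 0, 0, 0], [1, -1, 0, 0, 0, 0, 0, 1, 1, 0], [1, 0, -1, 0, 0, -1, -1, 0, 0, 0], [1, 0, -1, 0, 0, 0, 0, 0, 0, 0], [1, 0, 0, 0, 0, -1, 0, 0, 0, 0], [1, 0, 0, 0, 0, 0, -1, 0, 0, -1], [1, 0, 0, 0, 0, 0, 0, 0, 0, 0], [1, 0, 0, 0, 0, 0, 0, 0, 1, 0], [1, 0, 0, 0, 0, 0, 0, 0, 1, 1], [1, 0, 0, 0,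 0, 0, 0, 1, 0, -1], [1, 0, 0, 0, 0, 0, 0, 1, 0, 0], [1, 0, 0, 0, 0, 0, 0, 1, 1, 0], [1, 0, 0, 0, 0, 0, 1, 0, 0, 1], [1, 0, 0, 0, 0, 1, 0, 0, 0, 0], [1, 0, 0, 0, 1, 0, 0, 0, 0, 0], [1, 0, 0, 1, 0, 0, 0, 1, 1, 0], [1, 0, 0, 1, 1, 0, 0, 0, 0, 0], [1, 0, 0, 1, 1, 0, 0, 1, 1, 0], [1, 0, 1, 1, 1, 0, 0, 0, 0, 0], [1, 0, 1, 1, 1, 1, 1, 0, 0, 0], [1, 1, 0, 0, 0, 0, 0, 0, 0, 0], [1, 1, 0, 1, 1, 0, 0, 0, 0, 0]],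
   [[0, 0, 0, 0, 0, 0, 0, 0, 0, 0, 0], [0, 0, 0, 0, 0, 0, 0, 0, 0, 0, 2], [0, 0, 0, 0, 0, 0, 0, 0, 0, 1, 0], [0, 0, 0, 0, 0, 0, 0, 0, 1, 0, -1], [0, 0, 0, 0, 0, 0, 0, 0, 1, 0, 1], [0, 0, 0, 0, 0, 0, 0, 0, 1, 1, -1], [0, 0, 0, 0, 0, 0, 0, 0, 1, 1, 1], [0, 0, 0, 0, 0, 0, 0, 1, 0, -1, 0], [0, 0, 0, 0, 0, 0, 0, 1, 0, 0, 0], [0, 0, 0, 0, 0, 0, 0, 1, 1, 0, -1], [0, 0, 0, 0, 0, 0, 0, 1, 1, 0, 1], [0, 0, 0, 0, 0, 0, 1, -1, 0, 1, 0], [0, 0, 0, 0, 0, 0, 1, 0, -1, 0, 1], [0, 0, 0, 0, 0, 0, 1, 0, 0, 0, 0], [0, 0, 0, 0, 0, 0, 1, 0, 0, 1, 0], [0, 0, 0, 0, 0, 0, 1, 0, 1, 1, 1], [0, 0, 0, 0, 0, 0, 1, 1, 0, 0, 0], [0, 0, 0, 0, 0, 1, -1, 0, 0, -1, 0], [0, 0, 0, 0, 0, 1, 0, -1, 0, 0, 0], [0, 0, 0, 0, 0, 1, 0, 0, -1,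 -1, 1], [0, 0, 0, 0, 0, 1, 0, 0, 0, -1, 0], [0, 0, 0, 0, 0, 1, 0, 0, 0, 0, 0], [0, 0, 0, 0, 0, 1, 0, 0, 1, 0, 1], [0, 0, 0, 0, 0, 1, 0, 1, 0, -1, 0], [0, 0, 0, 0, 0, 1, 1, 0, 0, 0, 0], [0, 0, 0, 0, 0, 1, 1, 0, 0, 1, 0], [0, 0, 0, 0, 1, 0, 0, -1, -1, 0, -1], [0, 0, 0, 0, 1, 0, 0, -1, 0, 0, 0], [0, 0, 0, 0, 1, 0, 0, -1, 0, 1, 0], [0, 0, 0, 0, 1, 0, 0, 0, -1, -1, -1], [0, 0, 0, 0, 1, 0, 0, 0, -1, 0, -1], [0, 0, 0, 0, 1, 0, 0, 0, 0, 0, 0], [0, 0, 0, 1, 0, 0, 0, 0, 0, 0, 1], [0, 0, 0, 1, 0, 0, 0, 0, 1, 0, 0], [0, 0, 0, 1, 0, 0, 0, 0, 1, 1, 0], [0, 0, 0, 1, 0, 0, 0, 1, 0, -1, 1], [0, 0, 0, 1, 0, 0, 0, 1, 0, 0, 1], [0, 0, 0, 1, 0, 0, 0, 1, 1, 0, 0], [0, 0, 0, 1, 1, 0, 0, 0, 0, 0, -1], [0, 0, 0, 1, 1, 0,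 0, 0, 0, 0, 1], [0, 0, 1, 0, 0, 0, 0, 0, 0, 0, -1], [0, 0, 1, 0, 0, 0, 0, 0, 0, 0, 1], [0, 0, 1, 0, 0, 0, 1, 0, 0, 0, 1], [0, 0, 1, 0, 0, 0, 1, 0, 0, 1, -1], [0, 0, 1, 0, 0, 1, 0, 0, 0, -1, 1], [0, 0, 1, 0, 0, 1, 0, 0, 0, 0, -1], [0, 0, 1, 0, 0, 1, 1, 0, 0, 0, -1], [0, 0, 1, 0, 0, 1, 1, 0, 0, 0, 1], [0, 0, 1, 0, 1, 0, 0, -1, -1, 0, 0], [0, 0, 1, 0, 1, 0, 0, -1, 0, 1, -1], [0, 0, 1, 0, 1, 0, 0, 0, 0, 0, -1], [0, 0, 1, 0, 1, 1, 1, -1, -1, 0, 0], [0, 0, 1, 0, 1, 1, 1, 0, -1, -1, 0], [0, 0, 1, 0, 1, 1, 1, 0, 0, 0, -1], [0, 0, 1, 1, 0, 0, 0, 0, 0, 0, 0], [0, 0, 1, 1, 0, 0, 0, 1, 0, 0, 0], [0, 0, 1, 1, 0, 0, 0, 1, 1, 0, 1], [0, 0, 1, 1, 0, 1, 1, 0, 0, 0, 0], [0, 0, 1, 1, 0, 1, 1, 0, 1, 0, 1], [0, 0, 1,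 1, 0, 1, 1, 1, 1, 0, 1], [0, 0, 1, 1, 1, 0, 0, 0, 0, 0, 0], [0, 0, 1, 1, 1, 0, 1, 0, 0, 0, 0], [0, 0, 1, 1, 1, 0, 1, 0, 0, 1, 0], [0, 0, 1, 1, 1, 1, 0, 0, 0, -1, 0], [0, 0, 1, 1, 1, 1, 0, 0, 0, 0, 0], [0, 0, 1, 1, 1, 1, 1, 0, 0, 0, 0], [0, 1, -1, 0, 0, -1, -1, 0, 0, 0, -1], [0, 1, -1, 0, 0, 0, 0, 0, 0, 0, 1], [0, 1, 0, 0, 0, -1, 0, 0, 0, 0, 0], [0, 1, 0, 0, 0, 0, -1, 0, 0, -1, 0], [0, 1, 0, 0, 0, 0, 0, -1, -1, 0, -1], [0, 1, 0, 0, 0, 0, 0, -1, -1, 0, 1], [0, 1, 0, 0, 0, 0, 0, -1, 0, 0, 0], [0, 1, 0, 0, 0, 0, 0, -1, 0, 1, 0], [0, 1, 0, 0, 0, 0, 0, 0, -1, -1, 1], [0, 1, 0, 0, 0, 0, 0, 0, -1, 0, -1], [0, 1, 0, 0, 0, 0, 0, 0, 0, 0, 0], [0, 1, 0, 0, 0, 0, 1, 0, 0, 1, 0], [0, 1, 0, 0, 0, 1, 0, 0, 0, 0,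 0], [0, 1, 0, 0, 1, 0, 0, -1, -1, 0, -1], [0, 1, 0, 1, 0, 0, 0, 0, 0, 0, 1], [0, 1, 0, 1, 1, 0, 0, -1, -1, 0, 0], [0, 1, 0, 1, 1, 0, 0, 0, 0, 0, -1], [0, 1, 0, 1, 1, 0, 0, 0, 0, 0, 1], [0, 1, 1, 1, 1, 0, 0, 0, 0, 0, 0], [0, 1, 1, 1, 1, 1, 1, 0, 0, 0, 0], [1, -1, 0, 0, 0, 0, 0, 0, 0, 0, 0], [1, -1, 0, 0, 0, 0, 0, 1, 1, 0, -1], [1, -1, 0, 0, 0, 0, 0, 1, 1, 0, 1], [1, 0, -1, 0, 0, -1, -1, 0, 0, 0, -1], [1, 0, -1, 0, 0, 0, 0, 0, 0, 0, 1], [1, 0, 0, 0, 0, -1, 0, 0, 0, 0, 0], [1, 0, 0, 0, 0, 0, -1, 0, 0, -1, 0], [1, 0, 0, 0, 0, 0, 0, 0, 0, 0, 0], [1, 0, 0, 0, 0, 0, 0, 0, 1, 0, 1], [1, 0, 0, 0, 0, 0, 0, 0, 1, 1, -1], [1, 0, 0, 0, 0, 0, 0, 1, 0, -1, 0], [1, 0, 0, 0, 0, 0, 0, 1, 0, 0, 0], [1, 0, 0, 0, 0,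 0, 0, 1, 1, 0, -1], [1, 0, 0, 0, 0, 0, 0, 1, 1, 0, 1], [1, 0, 0, 0, 0, 0, 1, 0, 0, 1, 0], [1, 0, 0, 0, 0, 1, 0, 0, 0, 0, 0], [1, 0, 0, 0, 1, 0, 0, 0, 0, 0, 0], [1, 0, 0, 1, 0, 0, 0, 1, 1, 0, 0], [1, 0, 0, 1, 1, 0, 0, 0, 0, 0, -1], [1, 0, 0, 1, 1, 0, 0, 0, 0, 0, 1], [1, 0, 0, 1, 1, 0, 0, 1, 1, 0, 0], [1, 0, 1, 1, 1, 0, 0, 0, 0, 0, 0], [1, 0, 1, 1, 1, 1, 1, 0, 0, 0, 0], [1, 1, 0, 0, 0, 0, 0, 0, 0, 0, 0], [1, 1, 0, 1, 1, 0, 0, 0, 0, 0, -1], [1, 1, 0, 1, 1, 0, 0, 0, 0, 0, 1]]]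

/-- The possible configurations of beginnings. -/
def states : List (List (List (List ℤ))) :=
  [[[]],
   [[[1], [1], [1]]],
   [[[0, 1], [0, 1], [0, 1], [1, 0], [1, 0], [1, 0]],
    [[0, 1], [1, -1], [1, 0], [1, 1]]],
   [[[0, 0, 1], [0, 0, 1], [0, 0, 1], [0, 1, 0], [0, 1, 0], [0, 1, 0], [1, 0, 0], [1, 0, 0], [1, 0, 0]],
    [[0, 0, 1], [0, 0, 1], [0, 0, 1], [0, 1, 0], [1, -1, 0], [1, 0, 0], [1, 1, 0]],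
    [[0, 0, 1], [0, 1, -1], [0, 1, 0], [0, 1, 1], [1, 0, 0], [1, 0, 0], [1, 0, 0]],
    [[0, 0, 1], [0, 1, 0], [0, 1, 0], [0, 1, 0], [1, 0, -1], [1, 0, 0], [1, 0, 1]]],
   [[[0, 0, 0, 1], [0, 0, 1, 0], [0, 0, 1, 0], [0, 0, 1, 1], [0, 1, 0, 0], [1, -1, 0, 0], [1, 0, 0, 0], [1, 1, 0, 1]],
    [[0, 0, 0, 1], [0, 0, 1, 0], [0, 1, -1, 0], [0, 1, 0, 0], [0, 1, 1, 1], [1, 0, 0, 0], [1, 0, 0, 0], [1, 0, 0, 1]],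
    [[0, 0, 0, 1], [0, 0, 1, 0], [0, 1, 0, 0], [0, 1, 0, 0], [0, 1, 0, 1], [1, 0, -1, 0], [1, 0, 0, 0], [1, 0, 1, 1]],
    [[0, 0, 1, 0], [0, 0, 1, 0], [0, 0, 1, 1], [0, 1, 0, 0], [0, 1, 0, 0], [0, 1, 0, 1], [1, 0, 0, 0], [1, 0, 0, 0], [1, 0, 0, 1]],
    [[0, 0, 1, 0], [0, 0, 1, 0], [0, 0, 1, 1], [0, 1, 0, 1], [1, -1, 0, 0], [1, 0, 0, 1], [1, 1, 0, 0]]],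
   [[[0, 0, 0, 0, 1], [0, 0, 0, 1, 0], [0, 0, 1, 0, 0], [0, 0, 1, 0, 1], [0, 0, 1, 1, 0], [0, 1, 0, 0, 0], [1, -1, 0, 0, 0], [1, 0, 0, 0, 0], [1, 1, 0, 1, 1]],
    [[0, 0, 0, 0, 1], [0, 0, 0, 1, 0], [0, 0, 1, 0, 0], [0, 1, -1, 0, 0], [0, 1, 0, 0, 0], [0, 1, 1, 1, 1], [1, 0, 0, 0, 0], [1, 0, 0, 0, 1], [1, 0, 0, 1, 0]],
    [[0, 0, 0, 0, 1], [0, 0, 0, 1, 0], [0, 0, 1, 0, 0], [0, 1, 0, 0, 0], [0, 1, 0, 0, 1], [0, 1, 0, 1, 0], [1, 0, -1, 0, 0], [1, 0, 0, 0, 0], [1, 0, 1, 1, 1]],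
    [[0, 0, 1, 0, 0], [0, 0, 1, 0, 0], [0, 0, 1, 1, 1], [0, 1, 0, 0, 0], [0, 1, 0, 0, 1], [0, 1, 0, 1, 0], [1, 0, 0, 0, 0], [1, 0, 0, 0, 1], [1, 0, 0, 1, 0]],
    [[0, 0, 1, 0, 0], [0, 0, 1, 0, 1], [0, 0, 1, 1, 0], [0, 1, 0, 0, 0], [0, 1, 0, 0, 0], [0, 1, 0, 1, 1], [1, 0, 0, 0, 0], [1, 0, 0, 0, 1], [1, 0, 0, 1, 0]],
    [[0, 0, 1, 0, 0], [0, 0, 1, 0, 1], [0, 0, 1, 1, 0], [0, 1, 0, 0, 0], [0, 1, 0, 0, 1], [0, 1, 0, 1, 0], [1, 0, 0, 0, 0], [1, 0, 0, 0, 0], [1, 0, 0, 1, 1]]],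
   [[[0, 0, 0, 0, 0, 1], [0, 0, 0, 0, 0, 1], [0, 0, 0, 0, 1, 0], [0, 0, 0, 1, 0, 0], [0, 0, 1, 0, 0, 1], [0, 0, 1, 0, 1, 0], [0, 0, 1, 1, 0, 0], [0, 1, 0, 0, 0, 0], [1, -1, 0, 0, 0, 0], [1, 0, 0, 0, 0, 0], [1, 1, 0, 1, 1, 0]],
    [[0, 0, 0, 0, 0, 1], [0, 0, 0, 0, 0, 1], [0, 0, 0, 0, 1, 0], [0, 0, 0, 1, 0, 0], [0, 0, 1, 0, 0, 1], [0, 1, -1, 0, 0, 0], [0, 1, 0, 0, 0, 0], [0, 1, 1, 1, 1, 0], [1, 0, 0, 0, 0, 0], [1, 0, 0, 0, 1, 0], [1, 0, 0, 1, 0, 0]],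
    [[0, 0, 0, 0, 0, 1], [0, 0, 0, 0, 0, 1], [0, 0, 0, 0, 1, 0], [0, 0, 0, 1, 0, 0], [0, 0, 1, 0, 0, 1], [0, 1, 0, 0, 0, 0], [0, 1, 0, 0, 1, 0], [0, 1, 0, 1, 0, 0], [1, 0, -1, 0, 0, 0], [1, 0, 0, 0, 0, 0], [1, 0, 1, 1, 1, 0]],
    [[0, 0, 0, 0, 0, 1], [0, 0, 0, 0, 0, 1], [0, 0, 1, 0, 0, 0], [0, 0, 1, 0, 0, 1], [0, 0, 1, 1, 1, 0], [0, 1, 0, 0, 0, 0], [0, 1, 0, 0, 1, 0], [0, 1, 0, 1, 0, 0], [1, 0, 0, 0, 0, 0], [1, 0, 0, 0, 1, 0], [1, 0, 0, 1, 0, 0]],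
    [[0, 0, 0, 0, 0, 1], [0, 0, 0, 0, 0, 1], [0, 0, 1, 0, 0, 1], [0, 0, 1, 0, 1, 0], [0, 0, 1, 1, 0, 0], [0, 1, 0, 0, 0, 0], [0, 1, 0, 0, 0, 0], [0, 1, 0, 1, 1, 0], [1, 0, 0, 0, 0, 0], [1, 0, 0, 0, 1, 0], [1, 0, 0, 1, 0, 0]],
    [[0, 0, 0, 0, 0, 1], [0, 0, 0, 0, 0, 1], [0, 0, 1, 0, 0, 1], [0, 0, 1, 0, 1, 0], [0, 0, 1, 1, 0, 0], [0, 1, 0, 0, 0, 0], [0, 1, 0, 0, 1, 0], [0, 1, 0, 1, 0, 0], [1, 0, 0, 0, 0, 0], [1, 0, 0, 0, 0, 0], [1, 0, 0, 1, 1, 0]],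
    [[0, 0, 0, 0, 0, 1], [0, 0, 0, 0, 1, 0], [0, 0, 0, 1, 0, 0], [0, 0, 1, 0, 0, 0], [0, 1, -1, 0, 0, -1], [0, 1, 0, 0, 0, 1], [0, 1, 1, 1, 1, 0], [1, 0, 0, 0, 0, 0], [1, 0, 0, 0, 1, 0], [1, 0, 0, 1, 0, 0]],
    [[0, 0, 0, 0, 0, 1], [0, 0, 0, 0, 1, 0], [0, 0, 0, 1, 0, 0], [0, 0, 1, 0, 0, 0], [0, 1, 0, 0, 0, 0], [0, 1, 0, 0, 1, 0], [0, 1, 0, 1, 0, 0], [1, 0, -1, 0, 0, -1], [1, 0, 0, 0, 0, 1], [1, 0, 1, 1, 1, 0]],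
    [[0, 0, 1, 0, 0, 1], [0, 0, 1, 0, 1, 0], [0, 0, 1, 1, 0, 0], [0, 1, 0, 0, 0, -1], [0, 1, 0, 0, 0, 1], [0, 1, 0, 1, 1, 0], [1, 0, 0, 0, 0, 0], [1, 0, 0, 0, 1, 0], [1, 0, 0, 1, 0, 0]],
    [[0, 0, 1, 0, 0, 1], [0, 0, 1, 0, 1, 0], [0, 0, 1, 1, 0, 0], [0, 1, 0, 0, 0, 0], [0, 1, 0, 0, 1, 0], [0, 1, 0, 1, 0, 0], [1, 0, 0, 0, 0, -1], [1, 0, 0, 0, 0, 1], [1, 0, 0, 1, 1, 0]]],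
   [[[0, 0, 0, 0, 0, 0, 1], [0, 0, 0, 0, 0, 0, 1], [0, 0, 0, 0, 0, 1, 0], [0, 0, 0, 0, 0, 1, 0], [0, 0, 0, 0, 1, 0, 0], [0, 0, 0, 1, 0, 0, 0], [0, 0, 1, 0, 0, 1, 1], [0, 0, 1, 0, 1, 0, 0], [0, 0, 1, 1, 0, 0, 0], [0, 1, 0, 0, 0, 0, 0], [1, -1, 0, 0, 0, 0, 0], [1, 0, 0, 0, 0, 0, 0], [1, 1, 0, 1, 1, 0, 0]],
    [[0, 0, 0, 0, 0, 0, 1], [0, 0, 0, 0, 0, 0, 1], [0, 0, 0, 0, 0, 1, 0], [0, 0, 0, 0, 0, 1, 0], [0, 0, 0, 0, 1, 0, 0], [0, 0, 0, 1, 0, 0, 0], [0, 0, 1, 0, 0, 1, 1], [0, 1, -1, 0, 0, 0, 0], [0, 1, 0, 0, 0, 0, 0], [0, 1, 1, 1, 1, 0, 0], [1, 0, 0, 0, 0, 0, 0], [1, 0, 0, 0, 1, 0, 0], [1, 0, 0, 1, 0, 0, 0]],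
    [[0, 0, 0, 0, 0, 0, 1], [0, 0, 0, 0, 0, 0, 1], [0, 0, 0, 0, 0, 1, 0], [0, 0, 0, 0, 0, 1, 0], [0, 0, 0, 0, 1, 0, 0], [0, 0, 0, 1, 0, 0, 0], [0, 0, 1, 0, 0, 1, 1], [0, 1, 0, 0, 0, 0, 0], [0, 1, 0, 0, 1, 0, 0], [0, 1, 0, 1, 0, 0, 0], [1, 0, -1, 0, 0, 0, 0], [1, 0, 0, 0, 0, 0, 0], [1, 0, 1, 1, 1, 0, 0]],
    [[0, 0, 0, 0, 0, 0, 1], [0, 0, 0, 0, 0, 0, 1], [0, 0, 0, 0, 0, 1, 0], [0, 0, 0, 0, 0, 1, 0], [0, 0, 1, 0, 0, 0, 0], [0, 0, 1, 0, 0, 1, 1], [0, 0, 1, 1, 1, 0, 0], [0, 1, 0, 0, 0, 0, 0], [0, 1, 0, 0, 1, 0, 0], [0, 1, 0, 1, 0, 0, 0], [1, 0, 0, 0, 0, 0, 0], [1, 0, 0, 0, 1, 0, 0], [1, 0, 0, 1, 0, 0, 0]],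
    [[0, 0, 0, 0, 0, 0, 1], [0, 0, 0, 0, 0, 0, 1], [0, 0, 0, 0, 0, 1, 0], [0, 0, 0, 0, 0, 1, 0], [0, 0, 1, 0, 0, 1, 1], [0, 0, 1, 0, 1, 0, 0], [0, 0, 1, 1, 0, 0, 0], [0, 1, 0, 0, 0, 0, 0], [0, 1, 0, 0, 0, 0, 0], [0, 1, 0, 1, 1, 0, 0], [1, 0, 0, 0, 0, 0, 0], [1, 0, 0, 0, 1, 0, 0], [1, 0, 0, 1, 0, 0, 0]],
    [[0, 0, 0, 0, 0, 0, 1], [0, 0, 0, 0, 0, 0, 1], [0, 0, 0, 0, 0, 1, 0], [0, 0, 0, 0, 0, 1, 0], [0, 0, 1, 0, 0, 1, 1], [0, 0, 1, 0, 1, 0, 0], [0, 0, 1, 1, 0, 0, 0], [0, 1, 0, 0, 0, 0, 0], [0, 1, 0, 0, 1, 0, 0], [0, 1, 0, 1, 0, 0, 0], [1, 0, 0, 0, 0, 0, 0], [1, 0, 0, 0, 0, 0, 0], [1, 0, 0, 1, 1, 0, 0]],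
    [[0, 0, 0, 0, 0, 0, 1], [0, 0, 0, 0, 0, 0, 1], [0, 0, 1, 0, 0, 1, 1], [0, 0, 1, 0, 1, 0, 0], [0, 0, 1, 1, 0, 0, 0], [0, 1, 0, 0, 0, -1, 0], [0, 1, 0, 0, 0, 1, 0], [0, 1, 0, 1, 1, 0, 0], [1, 0, 0, 0, 0, 0, 0], [1, 0, 0, 0, 1, 0, 0], [1, 0, 0, 1, 0, 0, 0]],
    [[0, 0, 0, 0, 0, 0, 1], [0, 0, 0, 0, 0, 0, 1], [0, 0, 1, 0, 0, 1, 1], [0, 0, 1, 0, 1, 0, 0], [0, 0, 1, 1, 0, 0, 0], [0, 1, 0, 0, 0, 0, 0], [0, 1, 0, 0, 1, 0, 0], [0, 1, 0, 1, 0, 0, 0], [1, 0, 0, 0, 0, -1, 0], [1, 0, 0, 0, 0, 1, 0], [1, 0, 0, 1, 1, 0, 0]],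
    [[0, 0, 0, 0, 0, 0, 1], [0, 0, 0, 0, 0, 1, 0], [0, 0, 0, 0, 0, 1, 1], [0, 0, 1, 0, 0, 0, 1], [0, 0, 1, 0, 0, 1, 0], [0, 0, 1, 1, 1, 0, 0], [0, 1, 0, 0, 0, 0, 0], [0, 1, 0, 0, 1, 0, 0], [0, 1, 0, 1, 0, 0, 0], [1, 0, 0, 0, 0, 0, 0], [1, 0, 0, 0, 1, 0, 0], [1, 0, 0, 1, 0, 0, 0]],
    [[0, 0, 0, 0, 0, 1, -1], [0, 0, 0, 0, 0, 1, 1], [0, 0, 0, 0, 1, 0, 0], [0, 0, 0, 1, 0, 0, 0], [0, 0, 1, 0, 0, 1, 1], [0, 0, 1, 0, 1, 0, 0], [0, 0, 1, 1, 0, 0, 0], [0, 1, 0, 0, 0, 0, 0], [1, -1, 0, 0, 0, 0, 0], [1, 0, 0, 0, 0, 0, 0], [1, 1, 0, 1, 1, 0, 0]],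
    [[0, 0, 0, 0, 0, 1, -1], [0, 0, 0, 0, 0, 1, 1], [0, 0, 0, 0, 1, 0, 0], [0, 0, 0, 1, 0, 0, 0], [0, 0, 1, 0, 0, 1, 1], [0, 1, -1, 0, 0, 0, 0], [0, 1, 0, 0, 0, 0, 0], [0, 1, 1, 1, 1, 0, 0], [1, 0, 0, 0, 0, 0, 0], [1, 0, 0, 0, 1, 0, 0], [1, 0, 0, 1, 0, 0, 0]],
    [[0, 0, 0, 0, 0, 1, -1], [0, 0, 0, 0, 0, 1, 1], [0, 0, 0, 0, 1, 0, 0], [0, 0, 0, 1, 0, 0, 0], [0, 0, 1, 0, 0, 1, 1], [0, 1, 0, 0, 0, 0, 0], [0, 1, 0, 0, 1, 0, 0], [0, 1, 0, 1, 0, 0, 0], [1, 0, -1, 0, 0, 0, 0], [1, 0, 0, 0, 0, 0, 0], [1, 0, 1, 1, 1, 0, 0]],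
    [[0, 0, 0, 0, 0, 1, -1], [0, 0, 0, 0, 0, 1, 1], [0, 0, 1, 0, 0, 0, 0], [0, 0, 1, 0, 0, 1, 1], [0, 0, 1, 1, 1, 0, 0], [0, 1, 0, 0, 0, 0, 0], [0, 1, 0, 0, 1, 0, 0], [0, 1, 0, 1, 0, 0, 0], [1, 0, 0, 0, 0, 0, 0], [1, 0, 0, 0, 1, 0, 0], [1, 0, 0, 1, 0, 0, 0]],
    [[0, 0, 0, 0, 0, 1, -1], [0, 0, 0, 0, 0, 1, 1], [0, 0, 1, 0, 0, 1, 1], [0, 0, 1, 0, 1, 0, 0], [0, 0, 1, 1, 0, 0, 0], [0, 1, 0, 0, 0, 0, 0], [0, 1, 0, 0, 0, 0, 0], [0, 1, 0, 1, 1, 0, 0], [1, 0, 0, 0, 0, 0, 0], [1, 0, 0, 0, 1, 0, 0], [1, 0, 0, 1, 0, 0, 0]],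
    [[0, 0, 0, 0, 0, 1, -1], [0, 0, 0, 0, 0, 1, 1], [0, 0, 1, 0, 0, 1, 1], [0, 0, 1, 0, 1, 0, 0], [0, 0, 1, 1, 0, 0, 0], [0, 1, 0, 0, 0, 0, 0], [0, 1, 0, 0, 1, 0, 0], [0, 1, 0, 1, 0, 0, 0], [1, 0, 0, 0, 0, 0, 0], [1, 0, 0, 0, 0, 0, 0], [1, 0, 0, 1, 1, 0, 0]],
    [[0, 0, 0, 0, 0, 1, 0], [0, 0, 0, 0, 0, 1, 0], [0, 0, 1, 0, 0, 1, 1], [0, 0, 1, 0, 1, 0, 0], [0, 0, 1, 1, 0, 0, 0], [0, 1, 0, 0, 0, 0, -1], [0, 1, 0, 0, 0, 0, 1], [0, 1, 0, 1, 1, 0, 0], [1, 0, 0, 0, 0, 0, 0], [1, 0, 0, 0, 1, 0, 0], [1, 0, 0, 1, 0, 0, 0]],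
    [[0, 0, 0, 0, 0, 1, 0], [0, 0, 0, 0, 0, 1, 0], [0, 0, 1, 0, 0, 1, 1], [0, 0, 1, 0, 1, 0, 0], [0, 0, 1, 1, 0, 0, 0], [0, 1, 0, 0, 0, 0, 0], [0, 1, 0, 0, 1, 0, 0], [0, 1, 0, 1, 0, 0, 0], [1, 0, 0, 0, 0, 0, -1], [1, 0, 0, 0, 0, 0, 1], [1, 0, 0, 1, 1, 0, 0]]],
   [[[0, 0, 0, 0, 0, 0, 0, 1], [0, 0, 0, 0, 0, 0, 0, 1], [0, 0, 0, 0, 0, 0, 1, 0], [0, 0, 0, 0, 0, 0, 1, 0], [0, 0, 0, 0, 0, 1, 0, 0], [0, 0, 0, 0, 0, 1, 0, 0], [0, 0, 1, 0, 0, 0, 0, 0], [0, 0, 1, 0, 0, 1, 1, 0], [0, 0, 1, 1, 1, 0, 0, 0], [0, 1, 0, 0, 0, 0, 0, 0], [0, 1, 0, 0, 1, 0, 0, -1], [0, 1, 0, 1, 0, 0, 0, 0], [1, 0, 0, 0, 0, 0, 0, 0], [1, 0, 0, 0, 1, 0, 0, 0], [1, 0, 0, 1, 0, 0, 0, 1]],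
    [[0, 0, 0, 0, 0, 0, 0, 1], [0, 0, 0, 0, 0, 0, 0, 1], [0, 0, 0, 0, 0, 0, 1, 0], [0, 0, 0, 0, 0, 1, 0, 0], [0, 0, 0, 0, 0, 1, 1, 0], [0, 0, 1, 0, 0, 0, 1, 0], [0, 0, 1, 0, 0, 1, 0, 0], [0, 0, 1, 1, 1, 0, 0, 0], [0, 1, 0, 0, 0, 0, 0, 0], [0, 1, 0, 0, 1, 0, 0, -1], [0, 1, 0, 1, 0, 0, 0, 0], [1, 0, 0, 0, 0, 0, 0, 0], [1, 0, 0, 0, 1, 0, 0, 0], [1, 0, 0, 1, 0, 0, 0, 1]],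
    [[0, 0, 0, 0, 0, 0, 0, 1], [0, 0, 0, 0, 0, 0, 0, 1], [0, 0, 0, 0, 0, 1, -1, 0], [0, 0, 0, 0, 0, 1, 1, 0], [0, 0, 1, 0, 0, 0, 0, 0], [0, 0, 1, 0, 0, 1, 1, 0], [0, 0, 1, 1, 1, 0, 0, 0], [0, 1, 0, 0, 0, 0, 0, 0], [0, 1, 0, 0, 1, 0, 0, -1], [0, 1, 0, 1, 0, 0, 0, 0], [1, 0, 0, 0, 0, 0, 0, 0], [1, 0, 0, 0, 1, 0, 0, 0], [1, 0, 0, 1, 0, 0, 0, 1]],
    [[0, 0, 0, 0, 0, 0, 0, 1], [0, 0, 0, 0, 0, 0, 1, 0], [0, 0, 0, 0, 0, 0, 1, 0], [0, 0, 0, 0, 0, 1, 0, 0], [0, 0, 0, 0, 0, 1, 0, 0], [0, 0, 0, 0, 1, 0, 0, -1], [0, 0, 0, 1, 0, 0, 0, 0], [0, 0, 1, 0, 0, 1, 1, 0], [0, 1, -1, 0, 0, 0, 0, 0], [0, 1, 0, 0, 0, 0, 0, -1], [0, 1, 1, 1, 1, 0, 0, 0], [1, 0, 0, 0, 0, 0, 0, 0], [1, 0, 0, 0, 1, 0, 0, 0], [1, 0, 0, 1,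 0, 0, 0, 1]],
    [[0, 0, 0, 0, 0, 0, 0, 1], [0, 0, 0, 0, 0, 0, 1, 0], [0, 0, 0, 0, 0, 0, 1, 0], [0, 0, 0, 0, 0, 1, 0, 0], [0, 0, 0, 0, 0, 1, 0, 0], [0, 0, 0, 0, 1, 0, 0, -1], [0, 0, 0, 1, 0, 0, 0, 1], [0, 0, 1, 0, 0, 1, 1, 0], [0, 0, 1, 0, 1, 0, 0, 0], [0, 0, 1, 1, 0, 0, 0, 0], [0, 1, 0, 0, 0, 0, 0, 0], [1, -1, 0, 0, 0, 0, 0, 1], [1, 0, 0, 0, 0, 0, 0, 0], [1, 1, 0, 1, 1, 0, 0, 0]],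
    [[0, 0, 0, 0, 0, 0, 0, 1], [0, 0, 0, 0, 0, 0, 1, 0], [0, 0, 0, 0, 0, 0, 1, 0], [0, 0, 0, 0, 0, 1, 0, 0], [0, 0, 0, 0, 0, 1, 0, 0], [0, 0, 0, 0, 1, 0, 0, 0], [0, 0, 0, 1, 0, 0, 0, 0], [0, 0, 1, 0, 0, 1, 1, 0], [0, 0, 1, 0, 1, 0, 0, -1], [0, 0, 1, 1, 0, 0, 0, 1], [0, 1, 0, 0, 0, 0, 0, 0], [1, -1, 0, 0, 0, 0, 0, 1], [1, 0, 0, 0, 0, 0, 0, 0], [1, 1, 0, 1, 1, 0, 0, 0]],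
    [[0, 0, 0, 0, 0, 0, 0, 1], [0, 0, 0, 0, 0, 0, 1, 0], [0, 0, 0, 0, 0, 0, 1, 0], [0, 0, 0, 0, 0, 1, 0, 0], [0, 0, 0, 0, 0, 1, 0, 0], [0, 0, 0, 0, 1, 0, 0, 0], [0, 0, 0, 1, 0, 0, 0, 1], [0, 0, 1, 0, 0, 1, 1, 0], [0, 1, 0, 0, 0, 0, 0, 0], [0, 1, 0, 0, 1, 0, 0, -1], [0, 1, 0, 1, 0, 0, 0, 0], [1, 0, -1, 0, 0, 0, 0, 0], [1, 0, 0, 0, 0, 0, 0, 1], [1, 0, 1, 1, 1, 0, 0, 0]],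
    [[0, 0, 0, 0, 0, 0, 0, 1], [0, 0, 0, 0, 0, 1, -1, 0], [0, 0, 0, 0, 0, 1, 1, 0], [0, 0, 0, 0, 1, 0, 0, -1], [0, 0, 0, 1, 0, 0, 0, 0], [0, 0, 1, 0, 0, 1, 1, 0], [0, 1, -1, 0, 0, 0, 0, 0], [0, 1, 0, 0, 0, 0, 0, -1], [0, 1, 1, 1, 1, 0, 0, 0], [1, 0, 0, 0, 0, 0, 0, 0], [1, 0, 0, 0, 1, 0, 0, 0], [1, 0, 0, 1, 0, 0, 0, 1]],
    [[0, 0, 0, 0, 0, 0, 0, 1], [0, 0, 0, 0, 0, 1, -1, 0], [0, 0, 0, 0, 0, 1, 1, 0], [0, 0, 0, 0, 1, 0, 0, -1], [0, 0, 0, 1, 0, 0, 0, 1], [0, 0, 1, 0, 0, 1, 1, 0], [0, 0, 1, 0, 1, 0, 0, 0], [0, 0, 1, 1, 0, 0, 0, 0], [0, 1, 0, 0, 0, 0, 0, 0], [1, -1, 0, 0, 0, 0, 0, 1], [1, 0, 0, 0, 0, 0, 0, 0], [1, 1, 0, 1, 1, 0, 0, 0]],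
    [[0, 0, 0, 0, 0, 0, 0, 1], [0, 0, 0, 0, 0, 1, -1, 0], [0, 0, 0, 0, 0, 1, 1, 0], [0, 0, 0, 0, 1, 0, 0, 0], [0, 0, 0, 1, 0, 0, 0, 0], [0, 0, 1, 0, 0, 1, 1, 0], [0, 0, 1, 0, 1, 0, 0, -1], [0, 0, 1, 1, 0, 0, 0, 1], [0, 1, 0, 0, 0, 0, 0, 0], [1, -1, 0, 0, 0, 0, 0, 1], [1, 0, 0, 0, 0, 0, 0, 0], [1, 1, 0, 1, 1, 0, 0, 0]],
    [[0, 0, 0, 0, 0, 0, 0, 1], [0, 0, 0, 0, 0, 1, -1, 0], [0, 0, 0, 0, 0, 1, 1, 0], [0, 0, 0, 0, 1, 0, 0, 0], [0, 0, 0, 1, 0, 0, 0, 1], [0, 0, 1, 0, 0, 1, 1, 0], [0, 1, 0, 0, 0, 0, 0, 0], [0, 1, 0, 0, 1, 0, 0, -1], [0, 1, 0, 1, 0, 0, 0, 0], [1, 0, -1, 0, 0, 0, 0, 0], [1, 0, 0, 0, 0, 0, 0, 1], [1, 0, 1, 1, 1, 0, 0, 0]],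
    [[0, 0, 0, 0, 0, 0, 1, -1], [0, 0, 0, 0, 0, 0, 1, 1], [0, 0, 0, 0, 0, 1, 0, 0], [0, 0, 0, 0, 0, 1, 0, 0], [0, 0, 1, 0, 0, 0, 0, 0], [0, 0, 1, 0, 0, 1, 1, 0], [0, 0, 1, 1, 1, 0, 0, 0], [0, 1, 0, 0, 0, 0, 0, 0], [0, 1, 0, 0, 1, 0, 0, -1], [0, 1, 0, 1, 0, 0, 0, 0], [1, 0, 0, 0, 0, 0, 0, 0], [1, 0, 0, 0, 1, 0, 0, 0], [1, 0, 0, 1, 0, 0, 0, 1]],
    [[0, 0, 0, 0, 0, 0, 1, 0], [0, 0, 0, 0, 0, 0, 1, 0], [0, 0, 0, 0, 0, 1, 0, -1], [0, 0, 0, 0, 0, 1, 0, 1], [0, 0, 1, 0, 0, 0, 0, 0], [0, 0, 1, 0, 0, 1, 1, 0], [0, 0, 1, 1, 1, 0, 0, 0], [0, 1, 0, 0, 0, 0, 0, 0], [0, 1, 0, 0, 1, 0, 0, -1], [0, 1, 0, 1, 0, 0, 0, 0], [1, 0, 0, 0, 0, 0, 0, 0], [1, 0, 0, 0, 1, 0, 0, 0], [1, 0, 0, 1, 0, 0, 0, 1]],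
    [[0, 0, 0, 0, 0, 0, 1, 0], [0, 0, 0, 0, 0, 0, 1, 0], [0, 0, 0, 0, 0, 1, 0, 0], [0, 0, 0, 0, 0, 1, 0, 0], [0, 0, 0, 0, 1, 0, 0, -1], [0, 0, 0, 1, 0, 0, 0, 1], [0, 0, 1, 0, 0, 1, 1, 0], [0, 0, 1, 0, 1, 0, 0, 0], [0, 0, 1, 1, 0, 0, 0, 0], [0, 1, 0, 0, 0, 0, 0, -1], [1, -1, 0, 0, 0, 0, 0, 0], [1, 0, 0, 0, 0, 0, 0, 1], [1, 1, 0, 1, 1, 0, 0, 0]],
    [[0, 0, 0, 0, 0, 0, 1, 0], [0, 0, 0, 0, 0, 0, 1, 0], [0, 0, 0, 0, 0, 1, 0, 0], [0, 0, 0, 0, 0, 1, 0, 0], [0, 0, 0, 0, 1, 0, 0, 0], [0, 0, 0, 1, 0, 0, 0, 0], [0, 0, 1, 0, 0, 1, 1, 0], [0, 0, 1, 0, 1, 0, 0, -1], [0, 0, 1, 1, 0, 0, 0, 1], [0, 1, 0, 0, 0, 0, 0, -1], [1, -1, 0, 0, 0, 0, 0, 0], [1, 0, 0, 0, 0, 0, 0, 1], [1, 1, 0, 1, 1, 0, 0, 0]],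
    [[0, 0, 0, 0, 0, 1, -1, 0], [0, 0, 0, 0, 0, 1, 1, 0], [0, 0, 0, 0, 1, 0, 0, -1], [0, 0, 0, 1, 0, 0, 0, 1], [0, 0, 1, 0, 0, 1, 1, 0], [0, 0, 1, 0, 1, 0, 0, 0], [0, 0, 1, 1, 0, 0, 0, 0], [0, 1, 0, 0, 0, 0, 0, -1], [1, -1, 0, 0, 0, 0, 0, 0], [1, 0, 0, 0, 0, 0, 0, 1], [1, 1, 0, 1, 1, 0, 0, 0]],
    [[0, 0, 0, 0, 0, 1, -1, 0], [0, 0, 0, 0, 0, 1, 1, 0], [0, 0, 0, 0, 1, 0, 0, 0], [0, 0, 0, 1, 0, 0, 0, 0], [0, 0, 1, 0, 0, 1, 1, 0], [0, 0, 1, 0, 1, 0, 0, -1], [0, 0, 1, 1, 0, 0, 0, 1], [0, 1, 0, 0, 0, 0, 0, -1], [1, -1, 0, 0, 0, 0, 0, 0], [1, 0, 0, 0, 0, 0, 0, 1], [1, 1, 0, 1, 1, 0, 0, 0]]],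
   [[[0, 0, 0, 0, 0, 0, 0, 0, 1], [0, 0, 0, 0, 0, 0, 0, 0, 1], [0, 0, 0, 0, 0, 0, 0, 1, 0], [0, 0, 0, 0, 0, 0, 0, 1, 0], [0, 0, 0, 0, 0, 0, 1, 0, 0], [0, 0, 0, 0, 0, 0, 1, 0, 0], [0, 0, 0, 0, 0, 1, 0, 0, 0], [0, 0, 0, 0, 0, 1, 0, 0, 0], [0, 0, 1, 0, 0, 0, 0, 0, 0], [0, 0, 1, 0, 0, 1, 1, 0, 0], [0, 0, 1, 1, 1, 0, 0, 0, 0], [0, 1, 0, 0, 0, 0, 0, 0, 0], [0, 1, 0, 0, 1, 0, 0, -1, -1], [0, 1, 0, 1, 0, 0, 0, 0, 0], [1, 0, 0, 0, 0, 0, 0, 0, 0], [1, 0, 0, 0, 1, 0, 0, 0, 0], [1, 0, 0, 1, 0, 0, 0, 1, 1]],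
    [[0, 0, 0, 0, 0, 0, 0, 0, 1], [0, 0, 0, 0, 0, 0, 0, 0, 1], [0, 0, 0, 0, 0, 0, 0, 1, 0], [0, 0, 0, 0, 0, 0, 0, 1, 0], [0, 0, 0, 0, 0, 0, 1, 0, 0], [0, 0, 0, 0, 0, 1, 0, 0, 0], [0, 0, 0, 0, 0, 1, 1, 0, 0], [0, 0, 1, 0, 0, 0, 1, 0, 0], [0, 0, 1, 0, 0, 1, 0, 0, 0], [0, 0, 1, 1, 1, 0, 0, 0, 0], [0, 1, 0, 0, 0, 0, 0, 0, 0], [0, 1, 0, 0, 1, 0, 0, -1, -1], [0, 1, 0, 1, 0, 0, 0, 0, 0], [1, 0, 0, 0, 0, 0, 0, 0, 0], [1, 0, 0, 0, 1, 0, 0, 0, 0], [1, 0, 0, 1, 0, 0, 0, 1, 1]],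
    [[0, 0, 0, 0, 0, 0, 0, 0, 1], [0, 0, 0, 0, 0, 0, 0, 0, 1], [0, 0, 0, 0, 0, 0, 0, 1, 0], [0, 0, 0, 0, 0, 0, 0, 1, 0], [0, 0, 0, 0, 0, 1, -1, 0, 0], [0, 0, 0, 0, 0, 1, 1, 0, 0], [0, 0, 1, 0, 0, 0, 0, 0, 0], [0, 0, 1, 0, 0, 1, 1, 0, 0], [0, 0, 1, 1, 1, 0, 0, 0, 0], [0, 1, 0, 0, 0, 0, 0, 0, 0], [0, 1, 0, 0, 1, 0, 0, -1, -1], [0, 1, 0, 1, 0, 0, 0, 0, 0], [1, 0, 0, 0, 0, 0, 0, 0, 0], [1, 0, 0, 0, 1, 0, 0, 0, 0], [1, 0, 0, 1, 0, 0, 0, 1, 1]],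
    [[0, 0, 0, 0, 0, 0, 0, 0, 1], [0, 0, 0, 0, 0, 0, 0, 0, 1], [0, 0, 0, 0, 0, 0, 1, -1, 0], [0, 0, 0, 0, 0, 0, 1, 1, 0], [0, 0, 0, 0, 0, 1, 0, 0, 0], [0, 0, 0, 0, 0, 1, 0, 0, 0], [0, 0, 1, 0, 0, 0, 0, 0, 0], [0, 0, 1, 0, 0, 1, 1, 0, 0], [0, 0, 1, 1, 1, 0, 0, 0, 0], [0, 1, 0, 0, 0, 0, 0, 0, 0], [0, 1, 0, 0, 1, 0, 0, -1, -1], [0, 1, 0, 1, 0, 0, 0, 0, 0], [1, 0, 0, 0, 0, 0, 0, 0, 0], [1, 0, 0, 0, 1, 0, 0, 0, 0], [1, 0, 0, 1, 0, 0, 0, 1, 1]],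
    [[0, 0, 0, 0, 0, 0, 0, 0, 1], [0, 0, 0, 0, 0, 0, 0, 0, 1], [0, 0, 0, 0, 0, 0, 1, 0, 0], [0, 0, 0, 0, 0, 0, 1, 0, 0], [0, 0, 0, 0, 0, 1, 0, -1, 0], [0, 0, 0, 0, 0, 1, 0, 1, 0], [0, 0, 1, 0, 0, 0, 0, 0, 0], [0, 0, 1, 0, 0, 1, 1, 0, 0], [0, 0, 1, 1, 1, 0, 0, 0, 0], [0, 1, 0, 0, 0, 0, 0, 0, 0], [0, 1, 0, 0, 1, 0, 0, -1, -1], [0, 1, 0, 1, 0, 0, 0, 0, 0], [1, 0, 0, 0, 0, 0, 0, 0, 0], [1, 0, 0, 0, 1, 0, 0, 0, 0], [1, 0, 0, 1, 0, 0, 0, 1, 1]],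
    [[0, 0, 0, 0, 0, 0, 0, 1, 0], [0, 0, 0, 0, 0, 0, 0, 1, 0], [0, 0, 0, 0, 0, 0, 1, 0, -1], [0, 0, 0, 0, 0, 0, 1, 0, 1], [0, 0, 0, 0, 0, 1, 0, 0, 0], [0, 0, 0, 0, 0, 1, 0, 0, 0], [0, 0, 1, 0, 0, 0, 0, 0, 0], [0, 0, 1, 0, 0, 1, 1, 0, 0], [0, 0, 1, 1, 1, 0, 0, 0, 0], [0, 1, 0, 0, 0, 0, 0, 0, 0], [0, 1, 0, 0, 1, 0, 0, -1, -1], [0, 1, 0, 1, 0, 0, 0, 0, 0], [1, 0, 0, 0, 0, 0, 0, 0, 0], [1, 0, 0, 0, 1, 0, 0, 0, 0], [1, 0, 0, 1, 0, 0, 0, 1, 1]],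
    [[0, 0, 0, 0, 0, 0, 0, 1, 0], [0, 0, 0, 0, 0, 0, 0, 1, 0], [0, 0, 0, 0, 0, 0, 1, 0, 0], [0, 0, 0, 0, 0, 0, 1, 0, 0], [0, 0, 0, 0, 0, 1, 0, 0, -1], [0, 0, 0, 0, 0, 1, 0, 0, 1], [0, 0, 1, 0, 0, 0, 0, 0, 0], [0, 0, 1, 0, 0, 1, 1, 0, 0], [0, 0, 1, 1, 1, 0, 0, 0, 0], [0, 1, 0, 0, 0, 0, 0, 0, 0], [0, 1, 0, 0, 1, 0, 0, -1, -1], [0, 1, 0, 1, 0, 0, 0, 0, 0], [1, 0, 0, 0, 0, 0, 0, 0, 0], [1, 0, 0, 0, 1, 0, 0, 0, 0], [1, 0, 0, 1, 0, 0, 0, 1, 1]],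
    [[0, 0, 0, 0, 0, 0, 0, 1, 1], [0, 0, 0, 0, 0, 0, 1, 0, 0], [0, 0, 0, 0, 0, 0, 1, 0, 0], [0, 0, 0, 0, 0, 1, 0, 0, 0], [0, 0, 0, 0, 0, 1, 0, 0, 0], [0, 0, 0, 0, 1, 0, 0, 0, -1], [0, 0, 0, 1, 0, 0, 0, 0, 1], [0, 0, 1, 0, 0, 1, 1, 0, 0], [0, 0, 1, 0, 1, 0, 0, -1, 0], [0, 0, 1, 1, 0, 0, 0, 1, 0], [0, 1, 0, 0, 0, 0, 0, 0, 0], [1, -1, 0, 0, 0, 0, 0, 1, 1], [1, 0, 0, 0, 0, 0, 0, 0, 0], [1, 1, 0, 1, 1, 0, 0, 0, 0]],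
    [[0, 0, 0, 0, 0, 0, 0, 1, 1], [0, 0, 0, 0, 0, 1, -1, 0, 0], [0, 0, 0, 0, 0, 1, 1, 0, 0], [0, 0, 0, 0, 1, 0, 0, 0, -1], [0, 0, 0, 1, 0, 0, 0, 0, 1], [0, 0, 1, 0, 0, 1, 1, 0, 0], [0, 0, 1, 0, 1, 0, 0, -1, 0], [0, 0, 1, 1, 0, 0, 0, 1, 0], [0, 1, 0, 0, 0, 0, 0, 0, 0], [1, -1, 0, 0, 0, 0, 0, 1, 1], [1, 0, 0, 0, 0, 0, 0, 0, 0], [1, 1, 0, 1, 1, 0, 0, 0, 0]],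
    [[0, 0, 0, 0, 0, 0, 1, -1, 0], [0, 0, 0, 0, 0, 0, 1, 1, 0], [0, 0, 0, 0, 0, 1, 0, 0, -1], [0, 0, 0, 0, 0, 1, 0, 0, 1], [0, 0, 1, 0, 0, 0, 0, 0, 0], [0, 0, 1, 0, 0, 1, 1, 0, 0], [0, 0, 1, 1, 1, 0, 0, 0, 0], [0, 1, 0, 0, 0, 0, 0, 0, 0], [0, 1, 0, 0, 1, 0, 0, -1, -1], [0, 1, 0, 1, 0, 0, 0, 0, 0], [1, 0, 0, 0, 0, 0, 0, 0, 0], [1, 0, 0, 0, 1, 0, 0, 0, 0], [1, 0, 0, 1, 0, 0, 0, 1, 1]],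
    [[0, 0, 0, 0, 0, 0, 1, 0, -1], [0, 0, 0, 0, 0, 0, 1, 0, 1], [0, 0, 0, 0, 0, 1, 0, -1, 0], [0, 0, 0, 0, 0, 1, 0, 1, 0], [0, 0, 1, 0, 0, 0, 0, 0, 0], [0, 0, 1, 0, 0, 1, 1, 0, 0], [0, 0, 1, 1, 1, 0, 0, 0, 0], [0, 1, 0, 0, 0, 0, 0, 0, 0], [0, 1, 0, 0, 1, 0, 0, -1, -1], [0, 1, 0, 1, 0, 0, 0, 0, 0], [1, 0, 0, 0, 0, 0, 0, 0, 0], [1, 0, 0, 0, 1, 0, 0, 0, 0], [1, 0, 0, 1, 0, 0, 0, 1, 1]],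
    [[0, 0, 0, 0, 0, 0, 1, 0, 0], [0, 0, 0, 0, 0, 0, 1, 0, 0], [0, 0, 0, 0, 0, 1, 0, 0, 0], [0, 0, 0, 0, 0, 1, 0, 0, 0], [0, 0, 0, 0, 1, 0, 0, 0, -1], [0, 0, 0, 1, 0, 0, 0, 0, 1], [0, 0, 1, 0, 0, 1, 1, 0, 0], [0, 0, 1, 0, 1, 0, 0, -1, 0], [0, 0, 1, 1, 0, 0, 0, 1, 0], [0, 1, 0, 0, 0, 0, 0, -1, -1], [1, -1, 0, 0, 0, 0, 0, 0, 0], [1, 0, 0, 0, 0, 0, 0, 1, 1], [1, 1, 0, 1, 1, 0, 0, 0, 0]],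
    [[0, 0, 0, 0, 0, 1, -1, 0, 0], [0, 0, 0, 0, 0, 1, 1, 0, 0], [0, 0, 0, 0, 1, 0, 0, 0, -1], [0, 0, 0, 1, 0, 0, 0, 0, 1], [0, 0, 1, 0, 0, 1, 1, 0, 0], [0, 0, 1, 0, 1, 0, 0, -1, 0], [0, 0, 1, 1, 0, 0, 0, 1, 0], [0, 1, 0, 0, 0, 0, 0, -1, -1], [1, -1, 0, 0, 0, 0, 0, 0, 0], [1, 0, 0, 0, 0, 0, 0, 1, 1], [1, 1, 0, 1, 1, 0, 0, 0, 0]]],
   [[[0, 0, 0, 0, 0, 0, 0, 0, 0, 1], [0, 0, 0, 0, 0, 0, 0, 0, 0, 1], [0, 0, 0, 0, 0, 0, 1, -1, 0, 1], [0, 0, 0, 0, 0, 0, 1, 1, 0, 0], [0, 0, 0, 0, 0, 1, 0, 0, -1, -1], [0, 0, 0, 0, 0, 1, 0, 0, 1, 0], [0, 0, 1, 0, 0, 0, 0, 0, 0, 0], [0, 0, 1, 0, 0, 1, 1, 0, 0, 0], [0, 0, 1, 1, 1, 0, 0, 0, 0, 0], [0, 1, 0, 0, 0, 0, 0, 0, 0, 0], [0, 1, 0, 0, 1, 0, 0, -1, -1, 0], [0, 1, 0, 1,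 0, 0, 0, 0, 0, 0], [1, 0, 0, 0, 0, 0, 0, 0, 0, 0], [1, 0, 0, 0, 1, 0, 0, 0, 0, 0], [1, 0, 0, 1, 0, 0, 0, 1, 1, 0]],
    [[0, 0, 0, 0, 0, 0, 0, 0, 0, 1], [0, 0, 0, 0, 0, 0, 0, 0, 0, 1], [0, 0, 0, 0, 0, 0, 1, 0, -1, 0], [0, 0, 0, 0, 0, 0, 1, 0, 1, 1], [0, 0, 0, 0, 0, 1, 0, -1, 0, 0], [0, 0, 0, 0, 0, 1, 0, 1, 0, -1], [0, 0, 1, 0, 0, 0, 0, 0, 0, 0], [0, 0, 1, 0, 0, 1, 1, 0, 0, 0], [0, 0, 1, 1, 1, 0, 0, 0, 0, 0], [0, 1, 0, 0, 0, 0, 0, 0, 0, 0], [0, 1, 0, 0, 1, 0, 0, -1, -1, 0], [0, 1, 0, 1, 0, 0, 0, 0, 0, 0], [1, 0, 0, 0, 0, 0, 0, 0, 0, 0], [1, 0, 0, 0, 1, 0, 0, 0, 0, 0], [1, 0, 0, 1, 0, 0, 0, 1, 1, 0]],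
    [[0, 0, 0, 0, 0, 0, 0, 0, 0, 1], [0, 0, 0, 0, 0, 0, 0, 0, 1, 0], [0, 0, 0, 0, 0, 0, 0, 0, 1, 1], [0, 0, 0, 0, 0, 0, 0, 1, 0, -1], [0, 0, 0, 0, 0, 0, 0, 1, 0, 0], [0, 0, 0, 0, 0, 1, -1, 0, 0, -1], [0, 0, 0, 0, 0, 1, 1, 0, 0, 0], [0, 0, 1, 0, 0, 0, 0, 0, 0, 0], [0, 0, 1, 0, 0, 1, 1, 0, 0, 0], [0, 0, 1, 1, 1, 0, 0, 0, 0, 0], [0, 1, 0, 0, 0, 0, 0, 0, 0, 0], [0, 1, 0, 0, 1, 0, 0, -1, -1, 0], [0, 1, 0, 1, 0, 0, 0, 0, 0, 0], [1, 0, 0, 0, 0, 0, 0, 0, 0, 0], [1, 0, 0, 0, 1, 0, 0, 0, 0, 0], [1, 0, 0, 1, 0, 0, 0, 1, 1, 0]],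
    [[0, 0, 0, 0, 0, 0, 0, 0, 0, 1], [0, 0, 0, 0, 0, 0, 0, 0, 1, 0], [0, 0, 0, 0, 0, 0, 0, 0, 1, 1], [0, 0, 0, 0, 0, 0, 1, -1, 0, 1], [0, 0, 0, 0, 0, 0, 1, 1, 0, 0], [0, 0, 0, 0, 0, 1, 0, 0, 0, -1], [0, 0, 0, 0, 0, 1, 0, 0, 0, 0], [0, 0, 1, 0, 0, 0, 0, 0, 0, 0], [0, 0, 1, 0, 0, 1, 1, 0, 0, 0], [0, 0, 1, 1, 1, 0, 0, 0, 0, 0], [0, 1, 0, 0, 0, 0, 0, 0, 0, 0], [0, 1, 0, 0, 1, 0, 0, -1, -1, 0], [0, 1, 0, 1, 0, 0, 0, 0, 0, 0], [1, 0, 0, 0, 0, 0, 0, 0, 0, 0], [1, 0, 0, 0, 1, 0, 0, 0, 0, 0], [1, 0, 0, 1, 0, 0, 0, 1, 1, 0]],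
    [[0, 0, 0, 0, 0, 0, 0, 0, 0, 1], [0, 0, 0, 0, 0, 0, 0, 0, 1, 0], [0, 0, 0, 0, 0, 0, 0, 0, 1, 1], [0, 0, 0, 0, 0, 0, 1, 0, 0, 0], [0, 0, 0, 0, 0, 0, 1, 0, 0, 1], [0, 0, 0, 0, 0, 1, 0, -1, 0, 0], [0, 0, 0, 0, 0, 1, 0, 1, 0, -1], [0, 0, 1, 0, 0, 0, 0, 0, 0, 0], [0, 0, 1, 0, 0, 1, 1, 0, 0, 0], [0, 0, 1, 1, 1, 0, 0, 0, 0, 0], [0, 1, 0, 0, 0, 0, 0, 0, 0, 0], [0, 1, 0, 0, 1, 0, 0, -1, -1, 0], [0, 1, 0, 1, 0, 0, 0, 0, 0, 0], [1, 0, 0, 0, 0, 0, 0, 0, 0, 0], [1, 0, 0, 0, 1, 0, 0, 0, 0, 0], [1, 0, 0, 1, 0, 0, 0, 1, 1, 0]],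
    [[0, 0, 0, 0, 0, 0, 0, 0, 0, 1], [0, 0, 0, 0, 0, 0, 0, 1, 0, -1], [0, 0, 0, 0, 0, 0, 0, 1, 0, 0], [0, 0, 0, 0, 0, 0, 1, 0, -1, 0], [0, 0, 0, 0, 0, 0, 1, 0, 1, 1], [0, 0, 0, 0, 0, 1, 0, 0, 0, -1], [0, 0, 0, 0, 0, 1, 0, 0, 0, 0], [0, 0, 1, 0, 0, 0, 0, 0, 0, 0], [0, 0, 1, 0, 0, 1, 1, 0, 0, 0], [0, 0, 1, 1, 1, 0, 0, 0, 0, 0], [0, 1, 0, 0, 0, 0, 0, 0, 0, 0], [0, 1, 0, 0, 1, 0, 0, -1, -1, 0], [0, 1, 0, 1, 0, 0, 0, 0, 0, 0], [1, 0, 0, 0, 0, 0, 0, 0, 0, 0], [1, 0, 0, 0, 1, 0, 0, 0, 0, 0], [1, 0, 0, 1, 0, 0, 0, 1, 1, 0]],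
    [[0, 0, 0, 0, 0, 0, 0, 0, 0, 1], [0, 0, 0, 0, 0, 0, 0, 1, 0, -1], [0, 0, 0, 0, 0, 0, 0, 1, 0, 0], [0, 0, 0, 0, 0, 0, 1, 0, 0, 0], [0, 0, 0, 0, 0, 0, 1, 0, 0, 1], [0, 0, 0, 0, 0, 1, 0, 0, -1, -1], [0, 0, 0, 0, 0, 1, 0, 0, 1, 0], [0, 0, 1, 0, 0, 0, 0, 0, 0, 0], [0, 0, 1, 0, 0, 1, 1, 0, 0, 0], [0, 0, 1, 1, 1, 0, 0, 0, 0, 0], [0, 1, 0, 0, 0, 0, 0, 0, 0, 0], [0, 1, 0, 0, 1, 0, 0, -1, -1, 0], [0, 1, 0, 1, 0, 0, 0, 0, 0, 0], [1, 0, 0, 0, 0, 0, 0, 0, 0, 0], [1, 0, 0, 0, 1, 0, 0, 0, 0, 0], [1, 0, 0, 1, 0, 0, 0, 1, 1, 0]],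
    [[0, 0, 0, 0, 0, 0, 0, 0, 1, 0], [0, 0, 0, 0, 0, 0, 0, 0, 1, 1], [0, 0, 0, 0, 0, 0, 0, 1, 0, -1], [0, 0, 0, 0, 0, 0, 0, 1, 0, 0], [0, 0, 0, 0, 0, 0, 1, 0, 0, 0], [0, 0, 0, 0, 0, 0, 1, 0, 0, 1], [0, 0, 0, 0, 0, 1, 0, 0, 0, -1], [0, 0, 0, 0, 0, 1, 0, 0, 0, 0], [0, 0, 1, 0, 0, 0, 0, 0, 0, 0], [0, 0, 1, 0, 0, 1, 1, 0, 0, 0], [0, 0, 1, 1, 1, 0, 0, 0, 0, 0], [0, 1, 0, 0, 0, 0, 0, 0, 0, 0], [0, 1, 0, 0, 1, 0, 0, -1, -1, 0], [0, 1, 0, 1, 0, 0, 0, 0, 0, 0], [1, 0, 0, 0, 0, 0, 0, 0, 0, 0], [1, 0, 0, 0, 1, 0, 0, 0, 0, 0], [1, 0, 0, 1, 0, 0, 0, 1, 1, 0]],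
    [[0, 0, 0, 0, 0, 0, 0, 0, 1, 0], [0, 0, 0, 0, 0, 0, 0, 0, 1, 1], [0, 0, 0, 0, 0, 0, 0, 1, 0, -1], [0, 0, 0, 0, 0, 0, 0, 1, 0, 0], [0, 0, 0, 0, 0, 0, 1, 0, 0, 0], [0, 0, 0, 0, 0, 1, 0, 0, 0, 0], [0, 0, 0, 0, 0, 1, 1, 0, 0, 0], [0, 0, 1, 0, 0, 0, 1, 0, 0, 1], [0, 0, 1, 0, 0, 1, 0, 0, 0, -1], [0, 0, 1, 1, 1, 0, 0, 0, 0, 0], [0, 1, 0, 0, 0, 0, 0, 0, 0, 0], [0, 1, 0, 0, 1, 0, 0, -1, -1, 0], [0, 1, 0, 1, 0, 0, 0, 0, 0, 0], [1, 0, 0, 0, 0, 0, 0, 0, 0, 0], [1, 0, 0, 0, 1, 0, 0, 0, 0, 0], [1, 0, 0, 1, 0, 0, 0, 1, 1, 0]],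
    [[0, 0, 0, 0, 0, 0, 0, 0, 1, 0], [0, 0, 0, 0, 0, 0, 0, 0, 1, 1], [0, 0, 0, 0, 0, 0, 0, 1, 0, -1], [0, 0, 0, 0, 0, 0, 0, 1, 0, 0], [0, 0, 0, 0, 0, 0, 1, 0, 0, 1], [0, 0, 0, 0, 0, 1, 0, 0, 0, -1], [0, 0, 0, 0, 0, 1, 1, 0, 0, 0], [0, 0, 1, 0, 0, 0, 1, 0, 0, 0], [0, 0, 1, 0, 0, 1, 0, 0, 0, 0], [0, 0, 1, 1, 1, 0, 0, 0, 0, 0], [0, 1, 0, 0, 0, 0, 0, 0, 0, 0], [0, 1, 0, 0, 1, 0, 0, -1, -1, 0], [0, 1, 0, 1, 0, 0, 0, 0, 0, 0], [1, 0, 0, 0, 0, 0, 0, 0, 0, 0], [1, 0, 0, 0, 1, 0, 0, 0, 0, 0], [1, 0, 0, 1, 0, 0, 0, 1, 1, 0]]],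
   [[[0, 0, 0, 0, 0, 0, 0, 0, 0, 1, 0], [0, 0, 0, 0, 0, 0, 0, 0, 1, 0, 1], [0, 0, 0, 0, 0, 0, 0, 0, 1, 1, -1], [0, 0, 0, 0, 0, 0, 0, 1, 0, -1, 0], [0, 0, 0, 0, 0, 0, 0, 1, 0, 0, 0], [0, 0, 0, 0, 0, 1, -1, 0, 0, -1, 0], [0, 0, 0, 0, 0, 1, 1, 0, 0, 0, 0], [0, 0, 1, 0, 0, 0, 0, 0, 0, 0, -1], [0, 0, 1, 0, 0, 1, 1, 0, 0, 0, 1], [0, 0, 1, 1, 1, 0, 0, 0, 0, 0, 0], [0, 1, 0, 0, 0, 0, 0, 0, 0, 0, 0], [0, 1, 0, 0, 1, 0, 0, -1, -1, 0, -1], [0, 1, 0, 1, 0, 0, 0, 0, 0, 0, 1], [1, 0, 0, 0, 0, 0, 0, 0, 0, 0, 0], [1, 0, 0, 0, 1, 0, 0, 0, 0, 0, 0], [1, 0, 0, 1, 0, 0, 0, 1, 1, 0, 0]],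
    [[0, 0, 0, 0, 0, 0, 0, 0, 0, 1, 0], [0, 0, 0, 0, 0, 0, 0, 0, 1, 0, 1], [0, 0, 0, 0, 0, 0, 0, 0, 1, 1, -1], [0, 0, 0, 0, 0, 0, 1, -1, 0, 1, 0], [0, 0, 0, 0, 0, 0, 1, 1, 0, 0, 0], [0, 0, 0, 0, 0, 1, 0, 0, 0, -1, 0], [0, 0, 0, 0, 0, 1, 0, 0, 0, 0, 0], [0, 0, 1, 0, 0, 0, 0, 0, 0, 0, -1], [0, 0, 1, 0, 0, 1, 1, 0, 0, 0, 1], [0, 0, 1, 1, 1, 0, 0, 0, 0, 0, 0], [0, 1, 0, 0, 0, 0, 0, 0, 0, 0, 0], [0, 1, 0, 0, 1, 0, 0, -1, -1, 0, -1], [0, 1, 0, 1, 0, 0, 0, 0, 0, 0, 1], [1, 0, 0, 0, 0, 0, 0, 0, 0, 0, 0], [1, 0, 0, 0, 1, 0, 0, 0, 0, 0, 0], [1, 0, 0, 1, 0, 0, 0, 1, 1, 0, 0]],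
    [[0, 0, 0, 0, 0, 0, 0, 0, 0, 1, 0], [0, 0, 0, 0, 0, 0, 0, 0, 1, 0, 1], [0, 0, 0, 0, 0, 0, 0, 0, 1, 1, -1], [0, 0, 0, 0, 0, 0, 1, 0, 0, 0, 0], [0, 0, 0, 0, 0, 0, 1, 0, 0, 1, 0], [0, 0, 0, 0, 0, 1, 0, -1, 0, 0, 0], [0, 0, 0, 0, 0, 1, 0, 1, 0, -1, 0], [0, 0, 1, 0, 0, 0, 0, 0, 0, 0, -1], [0, 0, 1, 0, 0, 1, 1, 0, 0, 0, 1], [0, 0, 1, 1, 1, 0, 0, 0, 0, 0, 0], [0, 1, 0, 0, 0, 0, 0, 0, 0, 0, 0], [0, 1, 0, 0, 1, 0, 0, -1, -1, 0, -1], [0, 1, 0, 1, 0, 0, 0, 0, 0, 0, 1], [1, 0, 0, 0, 0, 0, 0, 0, 0, 0, 0], [1, 0, 0, 0, 1, 0, 0, 0, 0, 0, 0], [1, 0, 0, 1, 0, 0, 0, 1, 1, 0, 0]],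
    [[0, 0, 0, 0, 0, 0, 0, 0, 1, 0, 1], [0, 0, 0, 0, 0, 0, 0, 0, 1, 1, -1], [0, 0, 0, 0, 0, 0, 0, 1, 0, -1, 0], [0, 0, 0, 0, 0, 0, 0, 1, 0, 0, 0], [0, 0, 0, 0, 0, 0, 1, 0, 0, 0, 0], [0, 0, 0, 0, 0, 0, 1, 0, 0, 1, 0], [0, 0, 0, 0, 0, 1, 0, 0, 0, -1, 0], [0, 0, 0, 0, 0, 1, 0, 0, 0, 0, 0], [0, 0, 1, 0, 0, 0, 0, 0, 0, 0, -1], [0, 0, 1, 0, 0, 1, 1, 0, 0, 0, 1], [0, 0, 1, 1, 1, 0, 0, 0, 0, 0, 0], [0, 1, 0, 0, 0, 0, 0, 0, 0, 0, 0], [0, 1, 0, 0, 1, 0, 0, -1, -1, 0, -1], [0, 1, 0, 1, 0, 0, 0, 0, 0, 0, 1], [1, 0, 0, 0, 0, 0, 0, 0, 0, 0, 0], [1, 0, 0, 0, 1, 0, 0, 0, 0, 0, 0], [1, 0, 0, 1, 0, 0, 0, 1, 1, 0, 0]]]]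

end CfsgG23Two
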