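import Mathlib

/-!
The degree equations.
-/

set_option autoImplicit false

namespace CfsgG23Two

/-- The linear relation between the reciprocals, cleared of denominators. -/
def relPQ (p q : ℤ) : ℤ :=
  3 * p * q * (p + q) * (p + q + 1) - 243 * p * q * (p + q) - 100 * q * (p + q) * (p + q + 1) -
    900 * p * (p + q) * (p + q + 1) + 1792 * p * q * (p + q + 1)

/-- A pair is harmless. -/
def pairOK (p q : ℤ) : Bool := relPQ p q != 0 || decide (p * q * (p + q) ≤ 0) || (p == 546 && q == 182) || (p == 322 && q == -714)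

/-- The integers congruent to r modulo 32 between -B and B. -/
def classList (r : ℤ) (B : ℕ) : List ℤ :=
  (List.range (2 * (B / 32 + 2))).map fun k : ℕ => 32 * ((k : ℤ) - ((B / 32 + 2 : ℕ) : ℤ)) + r

theorem mem_classList {r x : ℤ} {B : ℕ} (hr : x % 32 = r) (hx : -(B : ℤ) ≤ x ∧ x ≤ (B : ℤ)) :
    x ∈ classList r B := by
  rw [classList, List.mem_map]
  refine ⟨(x / 32 + ((B / 32 + 2 : ℕ) : ℤ)).toNat, List.mem_range.2 ?_, ?_⟩ <;> omega

/-- The bound for given p. -/
def boundP (p : ℤ) : ℕ := 2935 * p.natAbs / (3 * p - 100).natAbs + 2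

/-- The bound for given q. -/
def boundQ (q : ℤ) : ℕ := 2135 * q.natAbs / (3 * q - 900).natAbs + 2

/-- The bound for given sum. -/
def boundN (n : ℤ) : ℕ :=
  1000 * (n * (n + 1)).natAbs / (3 * n * (n + 1) + 1792 * (n + 1) - 243 * n).natAbs + 2

/-- Small p, as checked. -/
def smallP : Bool :=
  (classList 2 100).all fun p => (3 * p - 100 != 0) &&
    (classList 22 (boundP p + p.natAbs)).all fun q => pairOK p q

/-- Small q, as checked. -/
def smallQ : Bool :=
  (classList 22 900).all fun q => (3 * q - 900 != 0) &&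
    (classList 2 (boundQ q + q.natAbs)).all fun p => pairOK p q

/-- Small sum, as checked. -/
def smallN : Bool :=
  (classList 24 2100).all fun n => (3 * n * (n + 1) + 1792 * (n + 1) - 243 * n != 0) &&
    (classList 2 (boundN n + n.natAbs)).all fun p => pairOK p (n - p)

set_option maxRecDepth 100000 in
theorem smallP_true : smallP = true := by decide +kernel

set_option maxRecDepth 100000 in
theorem smallQ_true : smallQ = true := by decide +kernel

set_option maxRecDepth 100000 in
theorem smallN_true : smallN = true := by decide +kernel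

theorem frac_le {c x : ℤ} {B : ℕ} (hc : 0 ≤ c) (hB : 0 < B) (hx : B ≤ x.natAbs) :
    |(c : ℚ) / x| ≤ (c : ℚ) / B := by
  rw [abs_div, abs_of_nonneg (by exact_mod_cast hc : (0 : ℚ) ≤ c)]
  have : (B : ℚ) ≤ |(x : ℚ)| := by
    rw [← Int.cast_abs]
    exact_mod_cast (show (B : ℤ) ≤ |x| by rw [← Int.natCast_natAbs]; exact_mod_cast hx)
  exact div_le_div_of_nonneg_left (by exact_mod_cast hc) (by exact_mod_cast hB) this

theorem bound_use {N : ℤ} {k d : ℕ} (hN : N ≠ 0) {r : ℚ}
    (he : |(N : ℚ)| ≤ (d : ℚ) * r) (hr : r ≤ (k : ℚ) / ((k * d / N.natAbs + 1 : ℕ) : ℚ)) : False := by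
  set B := k * d / N.natAbs + 1
  have hB : (0 : ℚ) < B := by exact_mod_cast Nat.succ_pos _
  have hlt : k * d < B * N.natAbs := by
    have := Nat.lt_mul_div_succ (k * d) (Int.natAbs_pos.2 hN)
    rw [mul_comm B]; exact this
  have h2 : |(N : ℚ)| * B ≤ (d : ℚ) * k := by
    have := mul_le_mul_of_nonneg_left hr (Nat.cast_nonneg d : (0 : ℚ) ≤ d)
    rw [← mul_div_assoc, le_div_iff₀ hB] at this
    exact le_trans (mul_le_mul_of_nonneg_right he hB.le) this
  rw [← Int.cast_abs, ← Int.natCast_natAbs, Int.cast_natCast, ← Nat.cast_mul, ← Nat.cast_mul, Nat.cast_le] at h2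
  rw [mul_comm d k, mul_comm N.natAbs B] at h2
  omega

/-- The pair of degrees. -/
theorem pair_eq {p q : ℤ} (hp : p % 32 = 2) (hq : q % 32 = 22) (hpos : 0 < p * q * (p + q))
    (h : 3 - 243 / ((p : ℚ) + q + 1) - 100 / p - 900 / q + 1792 / ((p : ℚ) + q) = 0) :
    p = 546 ∧ q = 182 ∨ p = 322 ∧ q = -714 := by
  have hn : (p + q) % 32 = 24 := by omega
  have p0 : p ≠ 0 := by omega
  have q0 : q ≠ 0 := by omega
  have n0 : p + q ≠ 0 := by omega
  have n1 : p + q + 1 ≠ 0 := by omega
  have p0' : (p : ℚ) ≠ 0 := by exact_mod_cast p0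
  have q0' : (q : ℚ) ≠ 0 := by exact_mod_cast q0
  have n0' : (p : ℚ) + q ≠ 0 := by exact_mod_cast n0
  have n1' : (p : ℚ) + q + 1 ≠ 0 := by exact_mod_cast n1
  have hrel : relPQ p q = 0 := by
    have h' : ((relPQ p q : ℤ) : ℚ) = 0 := by
      rw [show ((relPQ p q : ℤ) : ℚ) =
        (3 - 243 / ((p : ℚ) + q + 1) - 100 / p - 900 / q + 1792 / ((p : ℚ) + q)) *
          ((p : ℚ) * q * (p + q) * (p + q + 1)) by rw [relPQ]; push_cast; field_simp, h, zero_mul]
    exact_mod_cast h'
  have fin : pairOK p q = true → p = 546 ∧ q = 182 ∨ p = 322 ∧ q = -714 := fun hk => by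
    simp only [pairOK, hrel, bne_self_eq_false, Bool.false_or, Bool.or_eq_true, decide_eq_true_eq,
      Bool.and_eq_true, beq_iff_eq] at hk
    rcases hk with (hk | hk) | hk
    · omega
    · exact Or.inl hk
    · exact Or.inr hk
  apply fin
  have hmem : ∀ {r x : ℤ} {B : ℕ}, x % 32 = r → x.natAbs ≤ B → x ∈ classList r B := fun hr hx =>
    mem_classList hr (by omega)
  by_cases hP : p.natAbs ≤ 100
  · have hs := smallP_true
    simp only [smallP, List.all_eq_true, Bool.and_eq_true, bne_iff_ne] at hs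
    obtain ⟨hne, hs⟩ := hs p (hmem hp hP)
    apply hs
    by_contra hout
    have hb : boundP p + p.natAbs < q.natAbs := lt_of_not_ge fun hh => hout (hmem hq hh)
    unfold boundP at hb
    set B := 2935 * p.natAbs / (3 * p - 100).natAbs + 1 with hBd
    have hB : 0 < B := Nat.succ_pos _
    refine bound_use (k := 2935) (d := p.natAbs) hne (r := |(243 : ℚ) / ((p : ℚ) + q + 1)| + |(900 : ℚ) / q| +
      |(1792 : ℚ) / ((p : ℚ) + q)|) ?_ ?_
    · rw [show (((3 * p - 100 : ℤ)) : ℚ) = (p : ℚ) * (243 / ((p : ℚ) + q + 1) + 900 / q + -(1792 / ((p : ℚ) + q))) by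
        push_cast; field_simp at h ⊢; linarith, abs_mul]
      rw [show ((p.natAbs : ℕ) : ℚ) = |(p : ℚ)| by rw [Nat.cast_natAbs, Int.cast_abs]]
      refine mul_le_mul_of_nonneg_left ?_ (abs_nonneg _)
      refine (abs_add_three _ _ _).trans ?_
      rw [abs_neg]
    · have e1 := frac_le (c := 243) (x := p + q + 1) (by norm_num) hB (by omega)
      have e2 := frac_le (c := 900) (x := q) (by norm_num) hB (by omega)
      have e3 := frac_le (c := 1792) (x := p + q) (by norm_num) hB (by omega)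
      push_cast at e1 e2 e3
      calc _ ≤ (243 : ℚ) / B + 900 / B + 1792 / B := by gcongr
        _ = _ := by rw [← add_div, ← add_div]; norm_num [hBd]
  by_cases hQ : q.natAbs ≤ 900
  · have hs := smallQ_true
    simp only [smallQ, List.all_eq_true, Bool.and_eq_true, bne_iff_ne] at hs
    obtain ⟨hne, hs⟩ := hs q (hmem hq hQ)
    apply hs
    by_contra hout
    have hb : boundQ q + q.natAbs < p.natAbs := lt_of_not_ge fun hh => hout (hmem hp hh)
    unfold boundQ at hb
    set B := 2135 * q.natAbs / (3 * q - 900).natAbs + 1 with hBd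
    have hB : 0 < B := Nat.succ_pos _
    refine bound_use (k := 2135) (d := q.natAbs) hne (r := |(243 : ℚ) / ((p : ℚ) + q + 1)| + |(100 : ℚ) / p| +
      |(1792 : ℚ) / ((p : ℚ) + q)|) ?_ ?_
    · rw [show (((3 * q - 900 : ℤ)) : ℚ) = (q : ℚ) * (243 / ((p : ℚ) + q + 1) + 100 / p + -(1792 / ((p : ℚ) + q))) by
        push_cast; field_simp at h ⊢; linarith, abs_mul]
      rw [show ((q.natAbs : ℕ) : ℚ) = |(q : ℚ)| by rw [Nat.cast_natAbs, Int.cast_abs]]
      refine mul_le_mul_of_nonneg_left ?_ (abs_nonneg _)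
      refine (abs_add_three _ _ _).trans ?_
      rw [abs_neg]
    · have e1 := frac_le (c := 243) (x := p + q + 1) (by norm_num) hB (by omega)
      have e2 := frac_le (c := 100) (x := p) (by norm_num) hB (by omega)
      have e3 := frac_le (c := 1792) (x := p + q) (by norm_num) hB (by omega)
      push_cast at e1 e2 e3
      calc _ ≤ (243 : ℚ) / B + 100 / B + 1792 / B := by gcongr
        _ = _ := by rw [← add_div, ← add_div]; norm_num [hBd]
  by_cases hN : (p + q).natAbs ≤ 2100
  · have hs := smallN_true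
    simp only [smallN, List.all_eq_true, Bool.and_eq_true, bne_iff_ne] at hs
    obtain ⟨hne, hs⟩ := hs (p + q) (hmem hn hN)
    have e : p + q - p = q := by ring
    refine e ▸ hs p ?_
    by_contra hout
    have hb : boundN (p + q) + (p + q).natAbs < p.natAbs := lt_of_not_ge fun hh => hout (hmem hp hh)
    unfold boundN at hb
    set n := p + q with hnd
    set B := 1000 * (n * (n + 1)).natAbs / (3 * n * (n + 1) + 1792 * (n + 1) - 243 * n).natAbs + 1 with hBd
    have hB : 0 < B := Nat.succ_pos _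
    refine bound_use (k := 1000) (d := (n * (n + 1)).natAbs) hne (r := |(100 : ℚ) / p| + |(900 : ℚ) / q|) ?_ ?_
    · rw [show (((3 * n * (n + 1) + 1792 * (n + 1) - 243 * n : ℤ)) : ℚ) = ((n * (n + 1) : ℤ) : ℚ) * (100 / (p : ℚ) + 900 / q) by
        rw [hnd]; push_cast; field_simp at h ⊢; linarith, abs_mul]
      rw [show (((n * (n + 1)).natAbs : ℕ) : ℚ) = |((n * (n + 1) : ℤ) : ℚ)| by
        rw [Nat.cast_natAbs, Int.cast_abs]]
      exact mul_le_mul_of_nonneg_left (abs_add_le _ _) (abs_nonneg _)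
    · have e1 := frac_le (c := 100) (x := p) (by norm_num) hB (by omega)
      have e2 := frac_le (c := 900) (x := q) (by norm_num) hB (by omega)
      push_cast at e1 e2
      calc _ ≤ (100 : ℚ) / B + 900 / B := by gcongr
        _ = _ := by rw [← add_div]; norm_num [hBd]
  exfalso
  have e1 := (abs_le.1 (frac_le (c := 243) (x := p + q + 1) (by norm_num) (B := 2100) (by norm_num) (by omega)))
  have e2 := (abs_le.1 (frac_le (c := 100) (x := p) (by norm_num) (B := 100) (by norm_num) (by omega)))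
  have e3 := (abs_le.1 (frac_le (c := 900) (x := q) (by norm_num) (B := 900) (by norm_num) (by omega)))
  have e4 := (abs_le.1 (frac_le (c := 1792) (x := p + q) (by norm_num) (B := 2100) (by norm_num) (by omega)))
  push_cast at e1 e2 e3 e4
  linarith [e1.1, e1.2, e2.1, e2.2, e3.1, e3.2, e4.1, e4.2]

/-- The value of the order parameter. -/
theorem lam_eq {p q p' q' δ : ℤ} {lam : ℚ} (hl : 0 < lam) {N : ℕ} (hN : lam * N = 331776) (hp : p % 32 = 2) (hq : q % 32 = 22)
    (hp' : p' % 32 = 2) (hq' : q' % 32 = 22) (hd : 1 + δ + p' + q = 0) (hd' : 1 + δ + q' + p = 0)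
    (E0 : -64 / ((p : ℚ) + q) + 4 / p + 36 / q = 3 / 2 * lam)
    (E1 : -64 / ((p' : ℚ) + q') + 4 / p' + 36 / q' = 3 / 2 * lam)
    (E3 : 1 + 81 / (δ : ℚ) + 4 / p' + 36 / q = 14 * lam)
    (E4 : 1 + 81 / (δ : ℚ) + 4 / p + 36 / q' = 14 * lam) : lam = 64 / 819 := by
  have p0 : (p : ℚ) ≠ 0 := by exact_mod_cast (show p ≠ 0 by omega)
  have q0 : (q : ℚ) ≠ 0 := by exact_mod_cast (show q ≠ 0 by omega)
  have p0' : (p' : ℚ) ≠ 0 := by exact_mod_cast (show p' ≠ 0 by omega)
  have q0' : (q' : ℚ) ≠ 0 := by exact_mod_cast (show q' ≠ 0 by omega)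
  have n0 : (p : ℚ) + q ≠ 0 := by exact_mod_cast (show p + q ≠ 0 by omega)
  have n0' : (p' : ℚ) + q' ≠ 0 := by exact_mod_cast (show p' + q' ≠ 0 by omega)
  have he : (p : ℚ) - p' = q - q' := by exact_mod_cast (show p - p' = q - q' by omega)
  have hT : ∀ (x y : ℚ), x ≠ 0 → y ≠ 0 → x + y ≠ 0 → -64 / (x + y) + 4 / x + 36 / y =
      4 * (3 * x - y) ^ 2 / (x * y * (x + y)) := fun x y hx hy hxy => by field_simp; ring
  have A : ((p : ℚ) - p') * (q * q' - 9 * (p * p')) = 0 := by
    have h34 : (4 : ℚ) / p' + 36 / q - (4 / p + 36 / q') = 0 := by linarith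
    field_simp at h34
    linear_combination (1 / 4 : ℚ) * h34 - (9 * (p : ℚ) * p') * he
  have hee : p = p' := by
    by_contra hne
    have hne' : (p : ℚ) - p' ≠ 0 := by
      intro h0; exact hne (by exact_mod_cast sub_eq_zero.1 h0)
    have hqq : (q : ℚ) * q' = 9 * (p * p') := by
      rcases mul_eq_zero.1 A with h | h
      · exact absurd h hne'
      · linarith
    have h2 : ((p : ℚ) + q) * (p' + q') = 16 * (p * p') := by
      have h01 : -64 / ((p : ℚ) + q) + 4 / p + 36 / q - (-64 / ((p' : ℚ) + q') + 4 / p' + 36 / q') = 0 := by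
        linarith
      have a1 : (4 : ℚ) / p - 4 / p' = -4 * (p - p') / (p * p') := by field_simp; ring
      have a2 : (36 : ℚ) / q - 36 / q' = -4 * (p - p') / (p * p') := by
        rw [he, div_sub_div _ _ q0 q0', hqq, div_eq_div_iff (by positivity) (by positivity)]; ring
      have a3 : (-64 : ℚ) / (p + q) - -64 / (p' + q') = 128 * (p - p') / ((p + q) * (p' + q')) := by
        rw [div_sub_div _ _ n0 n0']; congr 1; linear_combination (-64 : ℚ) * he
      have a4 : 128 * ((p : ℚ) - p') / ((p + q) * (p' + q')) = 8 * (p - p') / (p * p') := by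
        linear_combination h01 - a1 - a2 - a3 + (mul_div_assoc (-4 : ℚ) ((p : ℚ) - p') (p * p')) -
          (mul_div_assoc (-4 : ℚ) ((p : ℚ) - p') (p * p'))
      rw [div_eq_div_iff (mul_ne_zero n0 n0') (mul_ne_zero p0 p0')] at a4
      have := mul_left_cancel₀ hne' (a := (p : ℚ) - p')
        (b := 8 * (((p : ℚ) + q) * (p' + q'))) (c := 128 * (p * p')) (by linear_combination -a4)
      linarith
    have hs : (p : ℚ) * q' + q * p' = 6 * (p * p') := by linear_combination h2 - hqq
    have hd2 : ((p : ℚ) * q' - q * p') ^ 2 = 0 := by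
      linear_combination ((p : ℚ) * q' + q * p' + 6 * (p * p')) * hs - (4 * (p : ℚ) * p') * hqq
    have h3 : (3 * (p : ℚ) - q) * p' = 0 := by
      have := pow_eq_zero_iff (n := 2) (by norm_num) |>.1 hd2
      linear_combination (-(1 / 2 : ℚ)) * hs + (1 / 2 : ℚ) * this
    have h30 : 3 * (p : ℚ) - q = 0 := (mul_eq_zero.1 h3).resolve_right p0'
    rw [hT _ _ p0 q0 n0, h30] at E0
    simp at E0
    linarith
  subst hee
  obtain rfl : q = q' := by omega
  have hd0 : δ = -(1 + p + q) := by omega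
  have hlin : 3 - 243 / ((p : ℚ) + q + 1) - 100 / p - 900 / q + 1792 / ((p : ℚ) + q) = 0 := by
    rw [hd0] at E3
    push_cast at E3
    rw [show (81 : ℚ) / -(1 + p + q) = -(81 / ((p : ℚ) + q + 1)) by rw [div_neg]; ring_nf] at E3
    linear_combination (3 : ℚ) * E3 - 28 * E0
  have hpos : 0 < p * q * (p + q) := by
    rw [hT _ _ p0 q0 n0] at E0
    have h0 : (0 : ℚ) < 4 * (3 * (p : ℚ) - q) ^ 2 / (p * q * (p + q)) := by rw [E0]; positivity
    by_contra hneg
    have : (p : ℚ) * q * (p + q) ≤ 0 := by exact_mod_cast not_lt.1 hneg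
    exact absurd h0 (not_lt.2 (div_nonpos_of_nonneg_of_nonpos (by positivity) this))
  rcases pair_eq hp hq hpos hlin with ⟨rfl, rfl⟩ | ⟨rfl, rfl⟩
  · norm_num at E0
    linarith
  · exfalso
    norm_num at E0
    have e : lam = 1600 / 19159 := by linarith
    rw [e] at hN
    have : 1600 * N = 331776 * 19159 := by
      have h' : (1600 : ℚ) * N = 331776 * 19159 := by linarith
      exact_mod_cast h'
    omega

end CfsgG23Two
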