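import Mathlib
import Cfsg.Agent.Lib.G23Two.Calc

/-!
The involution centraliser as an image of the tables.
-/

set_option autoImplicit false

namespace CfsgG23Two

/-- The tables describe the centraliser of z. -/
structure Emb {G : Type*} [Group G] (f : ℕ → G) (z : G) : Prop where
  mul : ∀ x < 576, ∀ y < 576, f (mulM x y) = f x * f y
  inj : ∀ x < 576, ∀ y < 576, f x = f y → x = y
  range : ∀ g, Commute g z → ∃ x < 576, f x = g
  hz : f zM = z
  fus : ∀ x < 576, f x ≠ 1 → f x * f x = 1 → IsConj z (f x)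

/-- The multiplication stays among the elements, as checked. -/
def slOK : Bool :=
  (List.range 24).all (fun a => decide (tauOf a < 24) && (List.range 24).all fun b => decide (slMul a b < 24)) &&
    (mulM 0 0 == 0) && (mulM zM zM == 0)

set_option maxRecDepth 100000 in
theorem slOK_true : slOK = true := by decide +kernel

theorem normal_lt {a b s : ℕ} (ha : a < 24) (hb : b < 24) (hs : s < 2) : normal a b s < 576 := by
  unfold normal
  split_ifs <;> omega

theorem mulM_lt {x y : ℕ} (hx : x < 576) : mulM x y < 576 := by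
  have h := slOK_true
  simp only [slOK, Bool.and_eq_true, List.all_eq_true, List.mem_range, decide_eq_true_eq] at h
  have hτ := fun a (ha : a < 24) => (h.1.1 a ha).1
  have hm := fun a b (ha : a < 24) (hb : b < 24) => (h.1.1 a ha).2 b hb
  refine normal_lt (hm _ _ (by omega) ?_) (hm _ _ (by omega) ?_) (Nat.mod_lt _ (by norm_num))
  · split_ifs
    exacts [by omega, hτ _ (by omega)]
  · split_ifs
    exacts [by omega, hτ _ (by omega)]

theorem powM_lt {x : ℕ} (n : ℕ) : powM x n < 576 := by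
  induction n with
  | zero => norm_num [powM]
  | succ n ih => exact mulM_lt ih

theorem cls_data {x : ℕ} (hx : x < 576) : cls x < 20 ∧ wit x < 576 ∧
    mulM (wit x) (repOf (cls x)) = mulM x (wit x) ∧ (∀ g ∈ genEls, cls (mulM g x) = cls (mulM x g)) ∧
    (x = 0 ∨ dep (pre1 x) < dep x ∧ pre1 x < 576 ∧ gen1 x ∈ genEls ∧ mulM (gen1 x) (pre1 x) = x) := by
  have h := clsOK_true
  simp only [clsOK, List.all_eq_true, List.mem_range, Bool.and_eq_true, decide_eq_true_eq, beq_iff_eq,
    Bool.or_eq_true, List.contains_iff_mem] at h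
  obtain ⟨⟨⟨⟨h1, h2⟩, h3⟩, h4⟩, h5⟩ := h x hx
  refine ⟨h1, h2, h3, h4, ?_⟩
  rcases h5 with h5 | ⟨⟨⟨a, b⟩, c⟩, d⟩
  exacts [Or.inl h5, Or.inr ⟨a, b, c, d⟩]

theorem rep_data : (∀ c < 20, repOf c < 576 ∧ cls (repOf c) = c ∧
      ((List.range 576).filter fun x => cls x == c).length = sizeOf' c ∧
      ((List.range 576).filter fun x => mulM x (repOf c) == mulM (repOf c) x).length * sizeOf' c = 576) ∧
    cls 0 = 18 ∧ cls zM = 19 ∧ sizeOf' 18 = 1 ∧ sizeOf' 19 = 1 ∧ ∀ g ∈ genEls, g < 576 := by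
  have h := repsOK_true
  simp only [repsOK, List.all_eq_true, List.mem_range, Bool.and_eq_true, decide_eq_true_eq, beq_iff_eq] at h
  exact ⟨fun c hc => ⟨(h.1.1.1.1.1 c hc).1.1.1, (h.1.1.1.1.1 c hc).1.1.2, (h.1.1.1.1.1 c hc).1.2,
    (h.1.1.1.1.1 c hc).2⟩, h.1.1.1.1.2, h.1.1.1.2, h.1.1.2, h.1.2, h.2⟩

namespace Emb

variable {G : Type*} [Group G] {f : ℕ → G} {z : G} (e : Emb f z)
include e

theorem one : f 0 = 1 := by
  have h := slOK_true
  simp only [slOK, Bool.and_eq_true, beq_iff_eq] at h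
  have := e.mul 0 (by norm_num) 0 (by norm_num)
  rw [h.1.2] at this
  exact left_eq_mul.1 this

theorem z_sq : z * z = 1 := by
  have h := slOK_true
  simp only [slOK, Bool.and_eq_true, beq_iff_eq] at h
  rw [← e.hz, ← e.mul zM (by norm_num [zM]) zM (by norm_num [zM]), h.2, e.one]

theorem z_ne : z ≠ 1 := fun h => by
  have := e.inj zM (by norm_num [zM]) 0 (by norm_num) (by rw [e.hz, h, e.one])
  norm_num [zM] at this

theorem pow {x : ℕ} (hx : x < 576) (n : ℕ) : f (powM x n) = f x ^ n := by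
  induction n with
  | zero => rw [pow_zero]; exact e.one
  | succ n ih => rw [powM, e.mul _ (powM_lt n) _ hx, ih, pow_succ]

theorem comm {x : ℕ} (hx : x < 576) : Commute (f x) z := by
  rw [← e.hz]
  -- both sides are products in the tables
  show f x * f zM = f zM * f x
  have key : ∀ y < 576, mulM y zM = mulM zM y := by
    have h : ((List.range 576).all fun y => mulM y zM == mulM zM y) = true := by decide +kernel
    simpa [List.all_eq_true] using h
  rw [← e.mul x hx zM (by norm_num [zM]), ← e.mul zM (by norm_num [zM]) x hx, key x hx]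

theorem conj_rep {x : ℕ} (hx : x < 576) : f (wit x) * f (repOf (cls x)) * (f (wit x))⁻¹ = f x := by
  obtain ⟨hc, hw, he, -, -⟩ := cls_data hx
  have := congrArg f he
  rw [e.mul _ hw _ (rep_data.1 _ hc).1, e.mul _ hx _ hw] at this
  rw [this, mul_inv_cancel_right]

theorem isConj_rep {x : ℕ} (hx : x < 576) : IsConj (f (repOf (cls x))) (f x) :=
  isConj_iff.2 ⟨f (wit x), e.conj_rep hx⟩

theorem assoc {x y w : ℕ} (hx : x < 576) (hy : y < 576) (hw : w < 576) :
    mulM (mulM x y) w = mulM x (mulM y w) :=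
  e.inj _ (mulM_lt (mulM_lt hx)) _ (mulM_lt hx) (by
    rw [e.mul _ (mulM_lt hx) _ hw, e.mul _ hx _ hy, e.mul _ hx _ (mulM_lt hy), e.mul _ hy _ hw, mul_assoc])

theorem cls_comm : ∀ g < 576, ∀ x < 576, cls (mulM g x) = cls (mulM x g) := by
  have main : ∀ n g, g < 576 → dep g ≤ n → ∀ x < 576, cls (mulM g x) = cls (mulM x g) := by
    intro n
    induction n with
    | zero =>
      intro g hg hd x hx
      rcases (cls_data hg).2.2.2.2 with rfl | h
      · rw [e.inj (mulM 0 x) (mulM_lt hg) x hx (by rw [e.mul 0 hg x hx, e.one, one_mul]),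
          e.inj (mulM x 0) (mulM_lt hx) x hx (by rw [e.mul x hx 0 hg, e.one, mul_one])]
      · omega
    | succ n ih =>
      intro g hg hd x hx
      rcases (cls_data hg).2.2.2.2 with rfl | ⟨hd', hp, hgen, he⟩
      · exact ih 0 hg (by
          have : dep 0 = 0 := by decide +kernel
          omega) x hx
      · set a := gen1 g
        set b := pre1 g
        have ha : a < 576 := rep_data.2.2.2.2.2 a hgen
        rw [← he, e.assoc ha hp hx, (cls_data (mulM_lt hp)).2.2.2.1 a hgen, e.assoc hp hx ha,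
          ih b hp (by omega) _ (mulM_lt hx), e.assoc hx ha hp]
  intro g hg
  exact main (dep g) g hg le_rfl

theorem cls_eq {x y : ℕ} (hx : x < 576) (hy : y < 576) {g : G} (hg : Commute g z)
    (h : g * f x * g⁻¹ = f y) : cls x = cls y := by
  obtain ⟨a, ha, rfl⟩ := e.range g hg
  obtain ⟨a', ha', e'⟩ := e.range (f a)⁻¹ hg.inv_left
  have h1 := e.cls_comm a' ha' (mulM a x) (mulM_lt ha)
  rwa [e.inj (mulM a' (mulM a x)) (mulM_lt ha') x hx (by
      rw [e.mul _ ha' _ (mulM_lt ha), e.mul _ ha _ hx, e', inv_mul_cancel_left]),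
    e.inj (mulM (mulM a x) a') (mulM_lt (mulM_lt ha)) y hy (by
      rw [e.mul _ (mulM_lt ha) _ ha', e.mul _ ha _ hx, e', h])] at h1

/-- The elements of the special classes: equal classes when conjugate, and centralisers in C(z). -/
theorem supp_spec {c : ℕ} (hc : c < 20) (hs : supp.contains c = true) :
    ∃ k, orderOf (f (repOf c)) = 2 * k ∧ f (repOf c) ^ k = z := by
  have h := suppOK_true
  simp only [suppOK, Bool.and_eq_true, List.all_eq_true, List.mem_range] at h
  have h' := h.1.1 c hc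
  rw [if_pos hs] at h'
  simp only [Bool.and_eq_true, decide_eq_true_eq, beq_iff_eq, List.all_eq_true, List.mem_range, Bool.or_eq_true,
    bne_iff_ne] at h'
  obtain ⟨⟨⟨⟨⟨h1, h2⟩, h3⟩, h4⟩, h5⟩, -⟩ := h'
  have hr := (rep_data.1 c hc).1
  refine ⟨clOrd.getD c 0 / 2, ?_, ?_⟩
  · rw [show 2 * (clOrd.getD c 0 / 2) = clOrd.getD c 0 by omega, orderOf_eq_iff h1]
    refine ⟨by rw [← e.pow hr, h3, e.one], fun j hj hj0 he => ?_⟩
    rw [← e.pow hr, ← e.one] at he
    rcases h5 j hj with h0 | h0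
    · omega
    · exact h0 (e.inj _ (powM_lt j) 0 (by norm_num) he)
  · rw [← e.pow hr, h4, e.hz]

theorem supp_power {x : ℕ} (hx : x < 576) (hs : supp.contains (cls x) = true) :
    ∃ k, orderOf (f x) = 2 * k ∧ f x ^ k = z := by
  obtain ⟨k, h1, h2⟩ := e.supp_spec (cls_data hx).1 hs
  refine ⟨k, ?_, ?_⟩
  · rw [← e.conj_rep hx, ← MulAut.conj_apply, MulEquiv.orderOf_eq, h1]
  · rw [← e.conj_rep hx, conj_pow, h2, ((e.comm (cls_data hx).2.1)).eq, mul_inv_cancel_right]

theorem centralizes {x : ℕ} (hx : x < 576) (hs : supp.contains (cls x) = true) {g : G}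
    (hg : Commute g (f x)) : Commute g z := by
  obtain ⟨k, -, h⟩ := e.supp_power hx hs
  exact h ▸ hg.pow_right k

theorem fusion {x y : ℕ} (hx : x < 576) (hy : y < 576) (sx : supp.contains (cls x) = true)
    (sy : supp.contains (cls y) = true) (h : IsConj (f x) (f y)) : cls x = cls y := by
  obtain ⟨g, hg⟩ := isConj_iff.1 h
  obtain ⟨k, hk1, hk2⟩ := e.supp_power hx sx
  obtain ⟨l, hl1, hl2⟩ := e.supp_power hy sy
  have ho : orderOf (f y) = orderOf (f x) := by rw [← hg, ← MulAut.conj_apply, MulEquiv.orderOf_eq]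
  have hkl : k = l := by omega
  subst hkl
  refine e.cls_eq hx hy ?_ hg
  have h1 : g * z * g⁻¹ = z := by rw [← hk2, ← conj_pow, hg, hl2, hk2]
  show g * z = z * g
  exact mul_inv_eq_iff_eq_mul.1 h1

end Emb

end CfsgG23Two
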