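import Cfsg.Agent.Lib.G23Two.Link

/-!
The Sylow 3-subgroup of the centraliser of f 6.
-/

set_option autoImplicit false

namespace CfsgG23Two

open scoped Pointwise

variable {G : Type*} [Group G] {f : ℕ → G} {z : G} [Finite G]

/-- A subgroup of 3-power order that is not Sylow is properly normalised by a 3-group. -/
theorem exists_over {n : ℕ} (hG : 3 ^ (n + 1) ∣ Nat.card G) {X : Subgroup G} (hX : Nat.card X = 3 ^ n) :
    ∃ T : Subgroup G, X ≤ T ∧ Nat.card T = 3 ^ (n + 1) ∧ ∀ g ∈ T, ∀ x ∈ X, g * x * g⁻¹ ∈ X := by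
  haveI : Fact (Nat.Prime 3) := ⟨Nat.prime_three⟩
  set N := Subgroup.normalizer (X : Set G)
  have hX' : Nat.card (X.subgroupOf N) = 3 ^ n := by
    rw [Nat.card_congr (Subgroup.subgroupOfEquivOfLe Subgroup.le_normalizer).toEquiv, hX]
  obtain ⟨T, hT, hXT⟩ := Sylow.exists_subgroup_card_pow_succ (Sylow.prime_pow_dvd_card_normalizer hG hX) hX'
  refine ⟨T.map N.subtype, fun x hx => ⟨⟨x, Subgroup.le_normalizer hx⟩, hXT hx, rfl⟩, by
    rw [Subgroup.card_map_of_injective N.subtype_injective, hT], ?_⟩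
  rintro _ ⟨g, -, rfl⟩ x hx
  exact (Subgroup.mem_normalizer_iff.1 g.2 x).1 hx

theorem odd_of_three {n : ℕ} {X : Subgroup G} (hX : Nat.card X = 3 ^ n) : Odd (Nat.card X) := by
  rw [hX]; exact (by decide : Odd 3).pow

/-- In a group of odd order, inverting and fixing coincide. -/
theorem commute_of_conj_mem_pair {g x : G} (ho : Odd (orderOf g)) (h : g * x * g⁻¹ = x ∨ g * x * g⁻¹ = x⁻¹) :
    Commute g x := by
  rcases h with h | h
  · exact mul_inv_eq_iff_eq_mul.1 h
  · refine commute_of_sq ho (mul_inv_eq_iff_eq_mul.1 ?_)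
    calc g * g * x * (g * g)⁻¹ = g * (g * x * g⁻¹) * g⁻¹ := by group
      _ = x := by rw [h, ← conj_inv, h, inv_inv]

namespace Side

variable {R : Subgroup G} {d : ℕ} (S : Side f z R d) (e : Emb f z)
include S e

theorem commute_of_modK {g r : G} (hg : Commute g z) (h6 : g * f 6 * g⁻¹ = f 6) (hr : r ∈ R)
    (h : InK f (r⁻¹ * (g * r * g⁻¹))) : Commute g r := by
  have kz : ∀ c, InK f c → z * c * z⁻¹ = c := by
    rintro c (rfl | rfl | rfl)
    · group
    all_goals rw [← (e.comm (by norm_num)).eq, mul_inv_cancel_right]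
  have kg : ∀ c, InK f c → Commute g c := by
    intro c hc
    obtain ⟨j, rfl⟩ := Subgroup.mem_zpowers_iff.1 (e.inK_iff.1 hc)
    exact Commute.zpow_right (mul_inv_eq_iff_eq_mul.1 h6) j
  obtain ⟨c, i, rfl, hc, hi, hiz⟩ := S.split r hr
  have e1 : g * (c * i) * g⁻¹ = c * (g * i * g⁻¹) := by
    rw [← mul_assoc g c i, (kg c hc).eq, mul_assoc, mul_assoc, mul_assoc, ← mul_assoc g i g⁻¹]
  rw [e1, mul_inv_rev, mul_assoc, inv_mul_cancel_left] at h
  set k := i⁻¹ * (g * i * g⁻¹) with hk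
  have hgi : g * i * g⁻¹ = i * k := by rw [hk, mul_inv_cancel_left]
  have h1 := congrArg (fun w => z * w * z⁻¹) hgi
  rw [show z * (g * i * g⁻¹) * z⁻¹ = (z * g) * i * (z * g)⁻¹ by group, hg.symm.eq,
    show g * z * i * (g * z)⁻¹ = g * (z * i * z⁻¹) * g⁻¹ by group, hiz, ← conj_inv, hgi,
    show z * (i * k) * z⁻¹ = (z * i * z⁻¹) * (z * k * z⁻¹) by group, hiz, kz k h, mul_inv_rev,
    ← (S.kcen e h (inv_mem hi)).eq] at h1
  have hk1 : k = 1 := eq_one_of_sq (odd_orderOf S.odd (S.memK k h))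
    (eq_inv_iff_mul_eq_one.1 (mul_right_cancel h1).symm)
  rw [hk1, mul_one] at hgi
  exact (kg c hc).mul_right (mul_inv_eq_iff_eq_mul.1 hgi)

theorem f72_notMem : f 72 ∉ R := fun h => by
  rcases S.fixz _ h (e.comm (by norm_num)) with h | h | h
  · have := e.inj 72 (by norm_num) 0 (by norm_num) (by rw [h, e.one]); omega
  · have := e.inj 72 (by norm_num) 6 (by norm_num) h; omega
  · have := e.inj 72 (by norm_num) 9 (by norm_num) h; omega

theorem exists_S1 : ∃ T : Subgroup G, R ≤ T ∧ f 72 ∈ T ∧ Nat.card T = 3 * Nat.card R ∧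
    (∀ x ∈ T, ∃ r ∈ R, ∃ k, x = r * k ∧ (k = 1 ∨ k = f 72 ∨ k = (f 72)⁻¹)) ∧ ∀ x ∈ T, Commute x (f 6) := by
  haveI : Fact (Nat.Prime 3) := ⟨Nat.prime_three⟩
  set L := Subgroup.zpowers (f 72)
  have hL : L ≤ Subgroup.normalizer (R : Set G) := Subgroup.zpowers_le.2 (Subgroup.mem_normalizer_iff.2 fun x =>
    ⟨S.conj72 e x, fun hx => by
      have := S.conj (f 72)⁻¹ (Or.inl (by
        rw [inv_inv, ← (e.f6_comm_f72.inv_right).eq, mul_assoc, inv_mul_cancel, mul_one])) _ hx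
      rwa [inv_inv, show (f 72)⁻¹ * (f 72 * x * (f 72)⁻¹) * f 72 = x by group] at this⟩)
  have hcard : Nat.card L = 3 := by
    have h1 : f 72 ≠ 1 := fun h => by
      have := e.inj 72 (by norm_num) 0 (by norm_num) (by rw [h, e.one]); omega
    rw [Nat.card_zpowers, orderOf_eq_prime e.f72_three h1]
  have hpow : ∀ k ∈ L, k = 1 ∨ k = f 72 ∨ k = (f 72)⁻¹ := by
    intro k hk
    obtain ⟨n, rfl⟩ := Subgroup.mem_zpowers_iff.1 hk
    have h3 : f 72 ^ (3 : ℤ) = 1 := by exact_mod_cast e.f72_three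
    rw [show n = 3 * (n / 3) + n % 3 from (Int.mul_ediv_add_emod n 3).symm, zpow_add, zpow_mul, h3, one_zpow, one_mul]
    rcases (show n % 3 = 0 ∨ n % 3 = 1 ∨ n % 3 = 2 by omega) with j | j | j <;> rw [j]
    · exact Or.inl (zpow_zero _)
    · exact Or.inr (Or.inl (zpow_one _))
    · exact Or.inr (Or.inr (by rw [eq_inv_iff_mul_eq_one, ← zpow_add_one]; exact h3))
  have hmem : ∀ x, x ∈ R ⊔ L ↔ x ∈ (R : Set G) * (L : Set G) := fun x => by
    rw [← SetLike.mem_coe, Subgroup.coe_mul_of_right_le_normalizer_left R L hL]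
  refine ⟨R ⊔ L, le_sup_left, Subgroup.mem_sup_right (Subgroup.mem_zpowers _), ?_, fun x hx => ?_, fun x hx => ?_⟩
  · have h := CfsgLib.Signalizer.card_mul_mul_card_inf R L
    have hi : Nat.card (R ⊓ L : Subgroup G) = 1 := by
      rw [Subgroup.card_eq_one, eq_bot_iff]
      intro x hx
      obtain ⟨hxR, hxL⟩ := Subgroup.mem_inf.1 hx
      rcases hpow x hxL with rfl | rfl | rfl
      · exact one_mem _
      · exact absurd hxR (S.f72_notMem e)
      · exact absurd (inv_inv (f 72) ▸ inv_mem hxR) (S.f72_notMem e)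
    rw [hi, mul_one, hcard, mul_comm] at h
    rw [← h]
    exact Nat.card_congr (Equiv.subtypeEquivRight hmem)
  · obtain ⟨r, hr, k, hk, rfl⟩ := (hmem x).1 hx
    exact ⟨r, hr, k, rfl, hpow k hk⟩
  · obtain ⟨r, hr, k, hk, rfl⟩ := (hmem x).1 hx
    obtain ⟨n, rfl⟩ := Subgroup.mem_zpowers_iff.1 hk
    exact (S.le r hr).mul_left ((e.f6_comm_f72.symm).zpow_left n)

theorem center_le (hd : d ≠ 1) {r k : G} (hr : r ∈ R) (hk : k = 1 ∨ k = f 72 ∨ k = (f 72)⁻¹)
    (hc : ∀ s ∈ R, Commute (r * k) s) : r * k ∈ R := by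
  rcases hk with rfl | hk
  · rwa [mul_one]
  exfalso
  have hle : R ≤ R ⊓ Subgroup.centralizer ({f 72} : Set G) := by
    intro s hs
    refine Subgroup.mem_inf.2 ⟨hs, Subgroup.mem_centralizer_singleton_iff.2 ?_⟩
    have h1 : k * s * k⁻¹ = r⁻¹ * s * r := by
      calc k * s * k⁻¹ = r⁻¹ * ((r * k) * s) * k⁻¹ := by group
        _ = r⁻¹ * s * r := by rw [(hc s hs).eq]; group
    have hkz : Commute k z := by
      rcases hk with rfl | rfl
      exacts [e.comm (by norm_num), (e.comm (by norm_num)).inv_left]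
    have hk6 : k * f 6 * k⁻¹ = f 6 := by
      rw [show k * f 6 = f 6 * k by
        rcases hk with rfl | rfl
        exacts [e.f6_comm_f72.symm.eq, e.f6_comm_f72.symm.inv_left.eq], mul_inv_cancel_right]
    have := S.commute_of_modK e hkz hk6 hs (by
      rw [h1]
      have := S.comm _ (inv_mem hs) _ (inv_mem hr)
      rwa [inv_inv, inv_inv, show s⁻¹ * r⁻¹ * s * r = s⁻¹ * (r⁻¹ * s * r) by group] at this)
    rcases hk with rfl | rfl
    exacts [this.symm.eq, (Commute.inv_left_iff.1 this).symm.eq]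
  have := Subgroup.card_le_of_le hle
  rw [S.card_fix e, S.card] at this
  rcases S.dval with rfl | rfl | rfl <;> omega

end Side

end CfsgG23Two
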