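import Cfsg.Agent.Lib.G23Two.Mid
import Cfsg.Prelude.Def_Solvable

/-!
The hypotheses of the amalgam recognition.
-/

set_option autoImplicit false
set_option maxRecDepth 100000

namespace CfsgG23Two

open scoped Pointwise commutatorElement

variable {G : Type*} [Group G] [Finite G] {f : ℕ → G} {z : G}

theorem le_core {A X : Subgroup G} (hX : X ≤ A) {n : ℕ} (hc : Nat.card X = 3 ^ n)
    (hn : ∀ a ∈ A, ∀ x ∈ X, a * x * a⁻¹ ∈ X) : X ≤ Cfsg.pCoreOf 3 A := by
  haveI : Fact (Nat.Prime 3) := ⟨Nat.prime_three⟩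
  intro x hx
  refine ⟨⟨x, hX hx⟩, ?_, rfl⟩
  have hmem : X.subgroupOf A ∈ {N : Subgroup A | N.Normal ∧ IsPGroup 3 N} := by
    refine ⟨⟨fun y hy g => hn g.1 g.2 y.1 hy⟩, IsPGroup.of_card (n := n) ?_⟩
    rw [Nat.card_congr (Subgroup.subgroupOfEquivOfLe hX).toEquiv, hc]
  exact (le_sSup hmem : X.subgroupOf A ≤ _) (show (⟨x, hX hx⟩ : A) ∈ X.subgroupOf A from hx)

namespace Emb

variable (e : Emb f z)
include e

theorem coprime_two_subgroups_trivial {M : Subgroup G} (hM : M.Normal) (h3 : (Nat.card M).Coprime 3)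
    (hz : z ∉ M) : M = ⊥ := by
  have noinv : ∀ s ∈ M, s * s = 1 → s = 1 := by
    intro s hs h2
    by_contra h1
    obtain ⟨g, hg⟩ := isConj_iff.1 (e.all_invol h1 h2)
    refine hz ?_
    have := hM.conj_mem _ hs g⁻¹
    rwa [← hg, inv_inv, show g⁻¹ * (g * z * g⁻¹) * g = z by group] at this
  have hodd : Odd (Nat.card M) := by
    rw [← Nat.not_even_iff_odd]
    intro hev
    haveI : Fact (Nat.Prime 2) := ⟨Nat.prime_two⟩
    obtain ⟨s, hs⟩ := exists_prime_orderOf_dvd_card' (G := M) 2 hev.two_dvd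
    have h2 : (s : G) * s = 1 := by rw [← pow_two, ← Subgroup.coe_pow, ← hs, pow_orderOf_eq_one, Subgroup.coe_one]
    have h1 : s = 1 := Subtype.ext (noinv s s.2 h2)
    rw [h1, orderOf_one] at hs
    omega
  have small : ∀ u : G, u ≠ 1 → u * u = 1 → ∀ x ∈ M, u * x * u⁻¹ = x⁻¹ := by
    intro u u1 uu
    refine inverts_of_fpf uu hodd (fun x hx => hM.conj_mem x hx u) fun x hx hc => ?_
    have hX : Subgroup.zpowers x ≤ M := Subgroup.zpowers_le.2 hx
    have hd := e.invol_centralized u1 uu (hodd.of_dvd_nat (Subgroup.card_dvd_of_le hX)) fun y hy => by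
      obtain ⟨n, rfl⟩ := Subgroup.mem_zpowers_iff.1 hy
      exact hc.symm.zpow_left n
    rw [Nat.card_zpowers] at hd
    have hcop : (orderOf x).Coprime 9 := by
      rw [show (9 : ℕ) = 3 ^ 2 by norm_num]
      exact (Nat.Coprime.coprime_dvd_left (Subgroup.orderOf_dvd_natCard M hx) h3).pow_right 2
    exact orderOf_eq_one_iff.1 (Nat.Coprime.eq_one_of_dvd hcop hd)
  obtain ⟨c0, c1, c2, c3, c4, c5, c6, c7, c8, c9, c10, c11, c12, c13, c14, c15, c16, c17, c18, c19, c20, c21, c22, c23⟩ :=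
    const_data
  have hz4 : z * f 288 = f 432 := by rw [← e.hz, ← e.mul _ (by norm_num [zM]) _ (by norm_num), c4]
  have ne1 : ∀ i, i < 576 → i ≠ 0 → f i ≠ 1 := fun i hi h0 h => h0 (e.inj i hi 0 (by norm_num) (by rw [h, e.one]))
  have t1 := small (f 288) (ne1 288 (by norm_num) (by norm_num)) (e.rel0 (by norm_num) (by norm_num) c0)
  have t2 := small z e.z_ne e.z_sq
  have t3 := small (f 432) (ne1 432 (by norm_num) (by norm_num)) (e.rel0 (by norm_num) (by norm_num) c14)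
  refine eq_bot_iff.2 fun x hx => Subgroup.mem_bot.2 (eq_one_of_sq (odd_orderOf hodd hx) ?_)
  have h := t3 x hx
  rw [← hz4, show z * f 288 * x * (z * f 288)⁻¹ = z * (f 288 * x * (f 288)⁻¹) * z⁻¹ by group, t1 x hx,
    ← conj_inv, t2 x hx, inv_inv] at h
  exact eq_inv_iff_mul_eq_one.1 h

end Emb

namespace Duo

variable {f' : ℕ → G} {z' : G} {R R' S1 : Subgroup G} (D : Duo f f' z z' R R' S1)
include D

theorem S1_le_A1 : S1 ≤ A1 f := fun x hx => D.e.mem_A1.2 (Or.inl (by rw [(D.cen x hx).eq, mul_inv_cancel_right]))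

theorem no_equal : R ≠ R' := by
  intro h
  have h1 := D.derived
  have h2 := D.symm.derived
  rw [h, h2] at h1
  have hm : f' 6 ∈ Subgroup.zpowers (f 6) := h1 ▸ Subgroup.mem_zpowers _
  rcases D.e.inK_iff.2 hm with h | h | h
  · exact D.e'.f6_ne h
  · exact D.nc 1 (Or.inl (by rw [h]; group))
  · exact D.nc 1 (Or.inr (by rw [D.e'.f9, h, D.e.f9]; group))

theorem cardA1' : Nat.card (A1 f) = 11664 := by rw [D.S.cardA1 D.e, D.cardR]

theorem core (hG : Nat.card G = 4245696) : Cfsg.pCoreOf 3 (A1 f) = R := D.S.core_eq D.e D.cardR hG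

theorem not_conj_A1 (hG : Nat.card G = 4245696) (g : G) :
    (A1 f).map (MulAut.conj g).toMonoidHom ≠ A1 f' := by
  intro h
  have hle : R.map (MulAut.conj g).toMonoidHom ≤ Cfsg.pCoreOf 3 (A1 f') := by
    refine le_core (h ▸ Subgroup.map_mono (D.S.le_A1 D.e)) (n := 5) ?_ ?_
    · rw [Subgroup.card_map_of_injective (MulAut.conj g).injective, D.cardR]; norm_num
    · rintro a ha _ ⟨r, hr, rfl⟩
      rw [← h] at ha
      obtain ⟨b, hb, rfl⟩ := ha
      exact ⟨b * r * b⁻¹, D.S.conj b (D.e.mem_A1.1 hb) r hr, by simp [mul_assoc]⟩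
  rw [D.symm.core hG] at hle
  have he : R.map (MulAut.conj g).toMonoidHom = R' := Subgroup.eq_of_le_of_card_ge hle
    (by rw [Subgroup.card_map_of_injective (MulAut.conj g).injective, D.cardR, D.symm.cardR])
  have hd := congrArg (Subgroup.map (MulAut.conj g).toMonoidHom) D.derived
  rw [Subgroup.map_commutator, he, D.symm.derived, MonoidHom.map_zpowers] at hd
  have hm : g * f 6 * g⁻¹ ∈ Subgroup.zpowers (f' 6) := hd.symm ▸ Subgroup.mem_zpowers _
  rcases D.e'.inK_iff.2 hm with h | h | h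
  · exact D.e.f6_ne (conj_eq_one_iff.1 h)
  · exact D.nc g (Or.inl h)
  · exact D.nc g (Or.inr h)

theorem index_not_three : ¬ 3 ∣ ((A1 f ⊓ A1 f').subgroupOf (A1 f)).index := by
  have h1 := Subgroup.card_mul_index ((A1 f ⊓ A1 f').subgroupOf (A1 f))
  rw [Nat.card_congr (Subgroup.subgroupOfEquivOfLe inf_le_left).toEquiv, D.cardA1'] at h1
  obtain ⟨k, hk⟩ := Subgroup.card_dvd_of_le (le_inf D.S1_le_A1 D.symm.S1_le_A1 : S1 ≤ A1 f ⊓ A1 f')
  rw [D.card] at hk
  rw [hk] at h1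
  rintro ⟨j, hj⟩
  rw [hj, show 729 * k * (3 * j) = 729 * (3 * (k * j)) by ring] at h1
  omega

/-- A subgroup normalised by both normalizers lies in R. -/
theorem core_le_R (hG : Nat.card G = 4245696) {N : Subgroup G} (hN : N ≤ A1 f ⊓ A1 f')
    (h1 : A1 f ≤ Subgroup.normalizer (N : Set G)) (h2 : A1 f' ≤ Subgroup.normalizer (N : Set G)) : N ≤ R := by
  have hRn : R ≤ Subgroup.normalizer (N : Set G) := (D.S.le_A1 D.e).trans h1
  have hmem : ∀ x, x ∈ N ⊔ R ↔ x ∈ (N : Set G) * (R : Set G) := fun x => by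
    rw [← SetLike.mem_coe, Subgroup.coe_mul_of_right_le_normalizer_left N R hRn]
  have hA' : N ⊔ R ≤ A1 f' := sup_le (hN.trans inf_le_right) fun r hr => D.symm.S1_le_A1 (D.le hr)
  have hNconj : ∀ a ∈ A1 f, ∀ x ∈ N, a * x * a⁻¹ ∈ N := fun a ha x hx =>
    (Subgroup.mem_normalizer_iff.1 (h1 ha) x).1 hx
  have hJn : ∀ a ∈ A1 f, ∀ x ∈ N ⊔ R, a * x * a⁻¹ ∈ N ⊔ R := by
    intro a ha x hx
    obtain ⟨n, hn, r, hr, rfl⟩ := (hmem x).1 hx
    rw [show a * (n * r) * a⁻¹ = (a * n * a⁻¹) * (a * r * a⁻¹) by group]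
    exact mul_mem (Subgroup.mem_sup_left (hNconj a ha n hn))
      (Subgroup.mem_sup_right (D.S.conj a (D.e.mem_A1.1 ha) r hr))
  -- z does not centralise f' 6
  have hzy : ¬ Commute z (f' 6) := by
    intro h
    rcases D.S.fixz _ D.f'6_mem.1 h.symm with h | h | h
    · exact D.e'.f6_ne h
    · exact D.nc 1 (Or.inl (by rw [h]; group))
    · exact D.nc 1 (Or.inr (by rw [D.e'.f9, h, D.e.f9]; group))
  have sqz : ∀ d, d < 24 → f (snd d) ∈ N ⊔ R → slMul d d = 12 → False := by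
    intro d hd hm h
    refine hzy ?_
    rw [← D.e.snd_z, ← h, D.e.snd_mul hd hd]
    rcases D.e'.mem_A1.1 (hA' hm) with h' | h'
    · have hc : Commute (f (snd d)) (f' 6) := mul_inv_eq_iff_eq_mul.1 h'
      exact hc.mul_left hc
    · refine mul_inv_eq_iff_eq_mul.1 ?_
      rw [show f (snd d) * f (snd d) * f' 6 * (f (snd d) * f (snd d))⁻¹ =
        f (snd d) * (f (snd d) * f' 6 * (f (snd d))⁻¹) * (f (snd d))⁻¹ by group, h', D.e'.f9, ← conj_inv, h',
        D.e'.f9, inv_inv]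
  have hb : ∀ b < 24, f (snd b) ∈ N ⊔ R → b = 0 ∨ b = 12 := by
    intro b hb hm
    by_contra hne
    rcases snd_table.2.2.2.2.2.2.2 b hb (fun h => hne (Or.inl h)) (fun h => hne (Or.inr h)) with h | ⟨c, hc, d, hd, hdd, h⟩
    · exact sqz b hb hm h
    · refine sqz d hd ?_ h
      rw [hdd, D.e.snd_mul (sl_lt b hb c hc) (sl_lt _ (sl_neg b hb).2.2.1 _ (sl_neg c hc).2.2.1), D.e.snd_mul hb hc,
        D.e.snd_mul (sl_neg b hb).2.2.1 (sl_neg c hc).2.2.1, D.e.snd_inv hb, D.e.snd_inv hc,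
        show f (snd b) * f (snd c) * ((f (snd b))⁻¹ * (f (snd c))⁻¹) =
          f (snd b) * (f (snd c) * (f (snd b))⁻¹ * (f (snd c))⁻¹) by group]
      exact mul_mem hm (hJn _ (D.e.snd_A1 hc) _ (inv_mem hm))
  have hdec : ∀ a ∈ N, Commute a (f 6) → ∃ r ∈ R, ∃ b < 24, a = r * f (snd b) ∧ f (snd b) ∈ N ⊔ R := by
    intro a ha hc
    obtain ⟨r, hr, b, hb, hab⟩ := D.S.decomp a hc
    refine ⟨r, hr, b, hb, hab, ?_⟩
    rw [show f (snd b) = r⁻¹ * a by rw [hab, inv_mul_cancel_left]]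
    exact mul_mem (inv_mem (Subgroup.mem_sup_right hr)) (Subgroup.mem_sup_left ha)
  by_cases hz : z ∈ N ⊔ R
  · exfalso
    obtain ⟨n, hn, r, hr, hnr⟩ := (hmem z).1 hz
    have hnr' : n * r = z := hnr
    have step1 : ∀ i ∈ R, z * i * z⁻¹ = i⁻¹ → ∃ k, InK f k ∧ i * k ∈ N := by
      intro i hi hiz
      obtain ⟨m, hm, k, hk, hmk⟩ : ∃ m ∈ N, ∃ k, InK f k ∧ z * i * z⁻¹ * i⁻¹ = m * k := by
        refine ⟨n * i * n⁻¹ * i⁻¹, ?_, i * (i⁻¹ * (r * i * r⁻¹)) * i⁻¹, ?_, ?_⟩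
        · rw [show n * i * n⁻¹ * i⁻¹ = n * (i * n⁻¹ * i⁻¹) by group]
          exact mul_mem hn (hNconj i (D.S.le_A1 D.e hi) _ (inv_mem hn))
        · have h := D.S.comm r hr i hi
          rwa [show i * (i⁻¹ * (r * i * r⁻¹)) * i⁻¹ = r * i * r⁻¹ * i⁻¹ by group]
        · have hk := D.S.comm r hr i hi
          have hc : Commute (r * i * r⁻¹ * i⁻¹) (i * n⁻¹ * i⁻¹) := by
            have h6 : Commute n⁻¹ (f 6) := by
              refine Commute.inv_left ?_
              rw [show n = z * r⁻¹ by rw [← hnr', mul_inv_cancel_right]]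
              exact ((D.e.comm (by norm_num)).symm).mul_left ((D.S.le r hr).inv_left)
            have h7 : Commute (i * n⁻¹ * i⁻¹) (f 6) := ((D.S.le i hi).mul_left h6).mul_left (D.S.le i hi).inv_left
            obtain ⟨j, hj⟩ := Subgroup.mem_zpowers_iff.1 (D.e.inK_iff.1 hk)
            rw [← hj]
            exact (h7.zpow_right j).symm
          rw [← hnr', show i * (i⁻¹ * (r * i * r⁻¹)) * i⁻¹ = r * i * r⁻¹ * i⁻¹ by group,
            show n * r * i * (n * r)⁻¹ * i⁻¹ = n * ((r * i * r⁻¹ * i⁻¹) * (i * n⁻¹ * i⁻¹)) by group, hc.eq]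
          group
      rw [hiz] at hmk
      have hi3 := D.S.cube i hi
      refine ⟨k⁻¹, D.e.inK_iff.2 (inv_mem (D.e.inK_iff.1 hk)), ?_⟩
      rw [show i = i⁻¹ * i⁻¹ by
        calc i = i ^ 3 * (i⁻¹ * i⁻¹) := by group
          _ = _ := by rw [hi3, one_mul], hmk, mul_inv_cancel_right]
      exact hm
    have hRK : ∀ v ∈ R, ∃ k, InK f k ∧ v * k ∈ N := by
      intro v hv
      obtain ⟨c, i, rfl, hc, hi, hiz⟩ := D.S.split v hv
      obtain ⟨k, hk, hik⟩ := step1 i hi hiz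
      refine ⟨k * c⁻¹, D.e.inK_iff.2 (mul_mem (D.e.inK_iff.1 hk) (inv_mem (D.e.inK_iff.1 hc))), ?_⟩
      rwa [(D.S.kcen D.e hc hi).eq, show i * c * (k * c⁻¹) = i * (c * k) * c⁻¹ by group,
        (D.S.kcen D.e hc (D.S.memK k hk)).eq, show i * (k * c) * c⁻¹ = i * k by group]
    have hKN : Subgroup.zpowers (f 6) ≤ N := by
      rw [← D.derived, Subgroup.commutator_le]
      intro a ha b hb
      obtain ⟨k, hk, hak⟩ := hRK a ha
      obtain ⟨l, hl, hbl⟩ := hRK b hb
      have hkc : ∀ x ∈ R, Commute k x := fun x hx => D.S.kcen D.e hk hx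
      have hlc : ∀ x ∈ R, Commute l x := fun x hx => D.S.kcen D.e hl hx
      rw [commutatorElement_def]
      have : (a * k) * (b * l) * (a * k)⁻¹ * (b * l)⁻¹ = a * b * a⁻¹ * b⁻¹ := by
        calc (a * k) * (b * l) * (a * k)⁻¹ * (b * l)⁻¹ = a * (k * b) * l * k⁻¹ * a⁻¹ * l⁻¹ * b⁻¹ := by group
          _ = a * (b * k) * l * k⁻¹ * a⁻¹ * l⁻¹ * b⁻¹ := by rw [(hkc b hb).eq]
          _ = a * b * (k * l) * k⁻¹ * a⁻¹ * l⁻¹ * b⁻¹ := by group
          _ = a * b * (l * k) * k⁻¹ * a⁻¹ * l⁻¹ * b⁻¹ := by rw [(hkc l (D.S.memK l hl)).eq]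
          _ = a * b * (l * a⁻¹) * l⁻¹ * b⁻¹ := by group
          _ = a * b * (a⁻¹ * l) * l⁻¹ * b⁻¹ := by rw [(hlc a⁻¹ (inv_mem ha)).eq]
          _ = _ := by group
      rw [← this]
      exact mul_mem (mul_mem (mul_mem hak hbl) (inv_mem hak)) (inv_mem hbl)
    have hRN : R ≤ N := fun v hv => by
      obtain ⟨k, hk, hvk⟩ := hRK v hv
      exact (Subgroup.mul_mem_cancel_right _ (hKN (D.e.inK_iff.1 hk))).1 hvk
    have hoddR : ∀ a ∈ N, Odd (orderOf a) → a ∈ R := by
      intro a ha ho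
      have hc : Commute a (f 6) := commute_of_conj_mem_pair ho (by
        rcases D.e.mem_A1.1 (hN ha).1 with h | h
        · exact Or.inl h
        · exact Or.inr (by rw [h, D.e.f9]))
      obtain ⟨v, hv, b, hb24, hab, hbm⟩ := hdec a ha hc
      rcases hb b hb24 hbm with rfl | rfl
      · rw [hab, snd_table.2.1, D.e.one, mul_one]; exact hv
      · obtain ⟨k, hk⟩ := exists_sqrt ho
        rw [← hk, ← pow_add, ← two_mul, pow_mul]
        refine pow_mem ?_ k
        rw [pow_two, hab, D.e.snd_z, show v * z * (v * z) = v * (z * v * z⁻¹) * (z * z) by group, D.e.z_sq, mul_one]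
        exact mul_mem hv (D.S.conj z (D.e.mem_A1.1 D.e.z_A1) v hv)
    refine D.no_equal (Subgroup.eq_of_le_of_card_ge (le_trans (le_core (fun r hr => hA' (Subgroup.mem_sup_right hr))
      (n := 5) (by rw [D.cardR]; norm_num) fun a ha r hr => ?_) (D.symm.core hG).le) (by rw [D.cardR, D.symm.cardR]))
    refine hoddR _ ((Subgroup.mem_normalizer_iff.1 (h2 ha) r).1 (hRN hr)) ?_
    rw [show a * r * a⁻¹ = MulAut.conj a r from rfl, MulEquiv.orderOf_eq]
    exact odd_orderOf D.S.odd hr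
  · intro a ha
    have hC : ∀ a ∈ N, Commute a (f 6) → a ∈ R := by
      intro a ha hc
      obtain ⟨v, hv, b, hb24, hab, hbm⟩ := hdec a ha hc
      rcases hb b hb24 hbm with rfl | rfl
      · rw [hab, snd_table.2.1, D.e.one, mul_one]; exact hv
      · exact absurd (D.e.snd_z ▸ hbm) hz
    rcases D.e.mem_A1.1 (hN ha).1 with h6 | h9
    · exact hC a ha (mul_inv_eq_iff_eq_mul.1 h6)
    exfalso
    obtain ⟨c0, c1, c2, -⟩ := const_data
    have n288 : f 288 * f 6 * (f 288)⁻¹ = f 9 := by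
      rw [D.e.rel (show 288 < 576 by norm_num) (show 6 < 576 by norm_num) (show 9 < 576 by norm_num)
        (show 288 < 576 by norm_num) c1, mul_inv_cancel_right]
    have ht : f 288 * f 288 = 1 := D.e.rel0 (by norm_num) (by norm_num) c0
    have hc : Commute (a * f 288) (f 6) := by
      refine mul_inv_eq_iff_eq_mul.1 ?_
      rw [show a * f 288 * f 6 * (a * f 288)⁻¹ = a * (f 288 * f 6 * (f 288)⁻¹) * a⁻¹ by group, n288, D.e.f9,
        ← conj_inv, h9, D.e.f9, inv_inv]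
    obtain ⟨v, hv, b, hb24, hab⟩ := D.S.decomp _ hc
    set x2 := f 72
    have hx2 : x2 ∈ A1 f := by
      show f 72 ∈ A1 f
      rw [← snd_table.2.2.2.1]
      exact D.e.snd_A1 (by norm_num : 6 < 24)
    have hmR : a * x2 * a⁻¹ * x2⁻¹ ∈ R := by
      refine hC _ ?_ ?_
      · rw [show a * x2 * a⁻¹ * x2⁻¹ = a * (x2 * a⁻¹ * x2⁻¹) by group]
        exact mul_mem ha (hNconj _ hx2 _ (inv_mem ha))
      · refine Commute.mul_left ?_ (D.e.f6_comm_f72.symm.inv_left)
        have := (Commute.conj_iff a).2 D.e.f6_comm_f72.symm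
        rw [h9, D.e.f9] at this
        exact Commute.inv_right_iff.1 this
    have haeq : a = v * f (snd b) * f 288 := by rw [← hab, mul_assoc, ht, mul_one]
    have h72 : f 288 * x2 * (f 288)⁻¹ = f 108 := by
      rw [D.e.rel (show 288 < 576 by norm_num) (show 72 < 576 by norm_num) (show 108 < 576 by norm_num)
        (show 288 < 576 by norm_num) c2, mul_inv_cancel_right]
    set h := f (snd b)
    have hh : h * f 108 * h⁻¹ * x2⁻¹ ∈ R := by
      have h1 : h * f 108 * h⁻¹ * x2⁻¹ = v⁻¹ * (a * x2 * a⁻¹ * x2⁻¹) * (x2 * v * x2⁻¹) := by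
        rw [haeq, ← h72]; group
      rw [h1]
      exact mul_mem (mul_mem (inv_mem hv) hmR) (D.S.conj72 D.e v hv)
    have hl := (snd_data.1 b hb24).1
    obtain ⟨c, hcm, hce⟩ := D.e.inK_idx (D.S.fixz _ hh
      ((((D.e.comm hl).mul_left (D.e.comm (by norm_num))).mul_left (D.e.comm hl).inv_left).mul_left
        (D.e.comm (by norm_num)).inv_left))
    have hc' : c < 576 := by simp only [List.mem_cons, List.not_mem_nil, or_false] at hcm; omega
    have tbl : ∀ b < 24, ∀ c ∈ [0, 6, 9], mulM (snd b) 108 ≠ mulM c (mulM 72 (snd b)) := by decide +kernel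
    refine tbl b hb24 c hcm (D.e.inj _ (mulM_lt hl) _ (mulM_lt hc') ?_)
    rw [D.e.mul _ hl _ (by norm_num), D.e.mul _ hc' _ (mulM_lt (by norm_num)), D.e.mul _ (by norm_num) _ hl, hce]
    simp only [h, x2]
    group

theorem normal_in_R {N : Subgroup G} (hR : N ≤ R) (h1 : A1 f ≤ Subgroup.normalizer (N : Set G)) (hne : N ≠ ⊥) :
    (f 6 ∉ N → N ≤ Zc R ∧ Nat.card N = 9) ∧ (f 6 ∈ N → Nat.card N ≠ 9) := by
  haveI : Fact (Nat.Prime 3) := ⟨Nat.prime_three⟩
  have hK : ∀ a ∈ A1 f, ∀ x ∈ Subgroup.zpowers (f 6), a * x * a⁻¹ ∈ Subgroup.zpowers (f 6) := fun a ha x hx =>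
    (Subgroup.mem_normalizer_iff.1 ha x).1 hx
  have hNconj : ∀ a ∈ A1 f, ∀ x ∈ N, a * x * a⁻¹ ∈ N := fun a ha x hx =>
    (Subgroup.mem_normalizer_iff.1 (h1 ha) x).1 hx
  constructor
  · intro h6
    have hKN : ∀ x ∈ N, InK f x → x = 1 := by
      rintro x hx (rfl | rfl | rfl)
      · rfl
      · exact absurd hx h6
      · exact absurd (by rw [D.e.f9] at hx; simpa using inv_mem hx) h6
    have hinv : ∀ x ∈ N, ∀ r ∈ R, Commute r x := by
      intro x hx r hr
      refine mul_inv_eq_iff_eq_mul.1 (mul_inv_eq_one.1 (hKN _ ?_ (D.S.comm r hr x (hR hx))))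
      exact mul_mem (hNconj r (D.S.le_A1 D.e hr) x hx) (inv_mem hx)
    have hNZ : N ≤ Zc R := fun x hx => mem_Zc.2 ⟨hR hx, hinv x hx⟩
    refine ⟨hNZ, ?_⟩
    set K := Subgroup.zpowers (f 6)
    have hNK : N ⊓ K = ⊥ := eq_bot_iff.2 fun x hx =>
      Subgroup.mem_bot.2 (hKN x (Subgroup.mem_inf.1 hx).1 (D.e.inK_iff.2 (Subgroup.mem_inf.1 hx).2))
    set M := N ⊔ K
    have hKle : K ≤ Subgroup.normalizer (N : Set G) := (D.S.K_le_Zc D.e).trans ((Zc_le R).trans ((D.S.le_A1 D.e).trans h1))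
    have hmem : ∀ x, x ∈ M ↔ x ∈ (N : Set G) * (K : Set G) := fun x => by
      rw [← SetLike.mem_coe, Subgroup.coe_mul_of_right_le_normalizer_left N K hKle]
    have hMc : Nat.card M = Nat.card N * 3 := by
      have h := CfsgLib.Signalizer.card_mul_mul_card_inf N K
      rw [hNK, Subgroup.card_bot, mul_one, D.e.card_K] at h
      rw [← h]
      exact Nat.card_congr (Equiv.subtypeEquivRight hmem)
    have hM27 : Nat.card M ≤ 27 := D.card_Zc ▸ Subgroup.card_le_of_le (sup_le hNZ (D.S.K_le_Zc D.e))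
    obtain ⟨j, hj, hje⟩ := (Nat.dvd_prime_pow Nat.prime_three (m := 5)).1
      (show Nat.card N ∣ 3 ^ 5 by
        rw [show (3 : ℕ) ^ 5 = Nat.card R by rw [D.cardR]; norm_num]; exact Subgroup.card_dvd_of_le hR)
    have h1' : Nat.card N ≠ 1 := fun h => hne (Subgroup.card_eq_one.1 h)
    have h3 : Nat.card N ≠ 3 := by
      intro h
      refine D.S.step D.e (Y := M) le_rfl le_sup_right (sup_le hR ((D.S.K_le_Zc D.e).trans (Zc_le R))) hK ?_ ?_
      · intro a ha x hx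
        obtain ⟨n, hn, k, hk, rfl⟩ := (hmem x).1 hx
        rw [show a * (n * k) * a⁻¹ = (a * n * a⁻¹) * (a * k * a⁻¹) by group]
        exact mul_mem (Subgroup.mem_sup_left (hNconj a ha n hn)) (Subgroup.mem_sup_right (hK a ha k hk))
      · rw [hMc, h, D.e.card_K]
    rw [hje] at h1' h3 hMc ⊢
    rw [hMc] at hM27
    interval_cases j <;> omega
  · intro h6 h9
    exact D.S.step D.e le_rfl (Subgroup.zpowers_le.2 h6) hR hK hNconj (by rw [h9, D.e.card_K])

theorem core_free (hG : Nat.card G = 4245696) (N : Subgroup G) (hN : N ≤ A1 f ⊓ A1 f')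
    (h1 : A1 f ≤ Subgroup.normalizer (N : Set G)) (h2 : A1 f' ≤ Subgroup.normalizer (N : Set G)) : N = ⊥ := by
  by_contra hne
  have hR := D.core_le_R hG hN h1 h2
  have hR' := D.symm.core_le_R hG (by rwa [inf_comm]) h2 h1
  have a := D.normal_in_R hR h1 hne
  have b := D.symm.normal_in_R hR' h2 hne
  -- the centres are different
  have hZ : ∀ X : Subgroup G, X ≤ Zc R → X ≤ Zc R' →
      Zc R ≤ X ⊔ Subgroup.zpowers (f 6) → False := by
    intro X hX hX' hbig
    have h729 : ∀ x ∈ X, ∀ s ∈ S1, Commute s x := by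
      intro x hx
      set Cx := S1 ⊓ Subgroup.centralizer ({x} : Set G)
      have h1 : R ≤ Cx := fun r hr => Subgroup.mem_inf.2
        ⟨D.le hr, Subgroup.mem_centralizer_singleton_iff.2 ((mem_Zc.1 (hX hx)).2 r hr).eq⟩
      have h2 : R' ≤ Cx := fun r hr => Subgroup.mem_inf.2
        ⟨D.le' hr, Subgroup.mem_centralizer_singleton_iff.2 ((mem_Zc.1 (hX' hx)).2 r hr).eq⟩
      have hC : Cx = S1 := by
        refine Subgroup.eq_of_le_of_card_ge inf_le_left ?_
        haveI : Fact (Nat.Prime 3) := ⟨Nat.prime_three⟩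
        obtain ⟨j, hj, hje⟩ := (Nat.dvd_prime_pow Nat.prime_three (m := 6)).1
          (show Nat.card Cx ∣ 3 ^ 6 by
            rw [show (3 : ℕ) ^ 6 = Nat.card S1 by rw [D.card]; norm_num]; exact Subgroup.card_dvd_of_le inf_le_left)
        have hlt : 243 < Nat.card Cx := by
          rw [← D.cardR]
          refine lt_of_le_of_ne (Subgroup.card_le_of_le h1) fun h => D.no_equal ?_
          have hRC : R = Cx := Subgroup.eq_of_le_of_card_ge h1 h.ge
          exact (Subgroup.eq_of_le_of_card_ge (hRC ▸ h2) (by rw [D.cardR, D.symm.cardR])).symm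
        rw [D.card]
        rw [hje] at hlt ⊢
        interval_cases j <;> omega
      intro s hs
      exact Subgroup.mem_centralizer_singleton_iff.1 (Subgroup.mem_inf.1 (hC.symm ▸ hs)).2
    obtain ⟨s, hs, hsR⟩ : ∃ s ∈ S1, s ∉ R := by
      by_contra hcon
      have := Subgroup.card_le_of_le (show S1 ≤ R from fun s hs => not_not.1 fun h => hcon ⟨s, hs, h⟩)
      rw [D.card, D.cardR] at this
      omega
    refine hsR ((D.mem_R_iff_low (D.S1_le_A1 hs)).2 fun y hy => ?_)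
    have hKC : X ⊔ Subgroup.zpowers (f 6) ≤ Subgroup.centralizer ({s} : Set G) :=
      sup_le (fun x hx => Subgroup.mem_centralizer_singleton_iff.2 (h729 x hx s hs).symm.eq)
        (Subgroup.zpowers_le.2 (Subgroup.mem_centralizer_singleton_iff.2 (D.cen s hs).symm.eq))
    have hc : y * s = s * y := Subgroup.mem_centralizer_singleton_iff.1 (hKC (hbig hy))
    rw [← hc, mul_inv_cancel_right, mul_inv_cancel]
    exact one_mem _
  by_cases h6 : f 6 ∈ N <;> by_cases h6' : f' 6 ∈ N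
  · -- both elements
    have hX : ∀ {f f' : ℕ → G} {z z' : G} {R R' : Subgroup G}, Duo f f' z z' R R' S1 → N ≤ R →
        A1 f ≤ Subgroup.normalizer (N : Set G) → f 6 ∈ N → f' 6 ∈ N → Zc R ≤ N := by
      intro f f' z z' R R' D hR h1 h6 h6'
      haveI : Fact (Nat.Prime 3) := ⟨Nat.prime_three⟩
      set M := N ⊓ Zc R
      have hMle : M ≤ Zc R := inf_le_right
      have hKM : Subgroup.zpowers (f 6) ≤ M := le_inf (Subgroup.zpowers_le.2 h6) (D.S.K_le_Zc D.e)
      obtain ⟨j, hj, hje⟩ := (Nat.dvd_prime_pow Nat.prime_three (m := 3)).1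
        (show Nat.card M ∣ 3 ^ 3 by
          rw [show (3 : ℕ) ^ 3 = Nat.card (Zc R) by rw [D.card_Zc]; norm_num]; exact Subgroup.card_dvd_of_le hMle)
      have hgt : 3 < Nat.card M := by
        rw [← D.e.card_K]
        refine lt_of_le_of_ne (Subgroup.card_le_of_le hKM) fun h => ?_
        have hm : f' 6 ∈ Subgroup.zpowers (f 6) :=
          (Subgroup.eq_of_le_of_card_ge hKM h.ge).symm ▸ Subgroup.mem_inf.2 ⟨h6', D.f'6_Zc⟩
        rcases D.e.inK_iff.2 hm with h | h | h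
        · exact D.e'.f6_ne h
        · exact D.nc 1 (Or.inl (by rw [h]; group))
        · exact D.nc 1 (Or.inr (by rw [D.e'.f9, h, D.e.f9]; group))
      have h9 : Nat.card M ≠ 9 := fun h => D.S.step D.e le_rfl hKM (hMle.trans (Zc_le R))
        (fun a ha x hx => (Subgroup.mem_normalizer_iff.1 ha x).1 hx)
        (fun a ha x hx => Subgroup.mem_inf.2 ⟨(Subgroup.mem_normalizer_iff.1 (h1 ha) x).1 (Subgroup.mem_inf.1 hx).1,
          D.S.Zc_conj D.e ha (Subgroup.mem_inf.1 hx).2⟩) (by rw [h, D.e.card_K])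
      have hMeq : M = Zc R := by
        refine Subgroup.eq_of_le_of_card_ge hMle ?_
        rw [D.card_Zc]
        rw [hje] at hgt h9 ⊢
        interval_cases j <;> omega
      exact hMeq ▸ inf_le_left
    have hZN := hX D hR h1 h6 h6'
    have hZN' := hX D.symm hR' h2 h6' h6
    haveI : Fact (Nat.Prime 3) := ⟨Nat.prime_three⟩
    obtain ⟨j, hj, hje⟩ := (Nat.dvd_prime_pow Nat.prime_three (m := 5)).1
      (show Nat.card N ∣ 3 ^ 5 by
        rw [show (3 : ℕ) ^ 5 = Nat.card R by rw [D.cardR]; norm_num]; exact Subgroup.card_dvd_of_le hR)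
    have hge := Subgroup.card_le_of_le hZN
    rw [D.card_Zc] at hge
    have h243 : Nat.card N ≠ 243 := fun h => D.no_equal (Subgroup.eq_of_le_of_card_ge (
      (Subgroup.eq_of_le_of_card_ge hR (by rw [h, D.cardR])) ▸ hR') (by rw [D.cardR, D.symm.cardR]))
    have h81 : Nat.card N ≠ 81 := fun h => D.S.step D.e (D.S.K_le_Zc D.e) hZN hR
      (fun a ha x hx => D.S.Zc_conj D.e ha hx) (fun a ha x hx => (Subgroup.mem_normalizer_iff.1 (h1 ha) x).1 hx)
      (by rw [h, D.card_Zc])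
    rw [hje] at hge h243 h81
    have h27 : Nat.card N = 27 := by
      rw [hje]
      interval_cases j <;> omega
    have e1 : Zc R = N := Subgroup.eq_of_le_of_card_ge hZN (by rw [D.card_Zc, h27])
    have e2 : Zc R' = N := Subgroup.eq_of_le_of_card_ge hZN' (by rw [D.symm.card_Zc, h27])
    exact hZ (Zc R) le_rfl (by rw [e1, e2]) le_sup_left
  · exact a.2 h6 (b.1 h6').2
  · exact b.2 h6' (a.1 h6).2
  · obtain ⟨hNZ, hN9⟩ := a.1 h6
    refine hZ N hNZ (b.1 h6').1 ?_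
    have hle : N ⊔ Subgroup.zpowers (f 6) ≤ Zc R := sup_le hNZ (D.S.K_le_Zc D.e)
    have hlt : Nat.card N < Nat.card (N ⊔ Subgroup.zpowers (f 6) : Subgroup G) := by
      refine lt_of_le_of_ne (Subgroup.card_le_of_le le_sup_left) fun h => h6 ?_
      exact (Subgroup.eq_of_le_of_card_ge le_sup_left h.ge).symm ▸ Subgroup.mem_sup_right (Subgroup.mem_zpowers _)
    rw [hN9] at hlt
    obtain ⟨j, hj, hje⟩ := (Nat.dvd_prime_pow Nat.prime_three (m := 3)).1
      (show Nat.card (N ⊔ Subgroup.zpowers (f 6) : Subgroup G) ∣ 3 ^ 3 by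
        rw [show (3 : ℕ) ^ 3 = Nat.card (Zc R) by rw [D.card_Zc]; norm_num]; exact Subgroup.card_dvd_of_le hle)
    refine (Subgroup.eq_of_le_of_card_ge hle ?_).ge
    rw [D.card_Zc]
    rw [hje] at hlt ⊢
    interval_cases j <;> omega

theorem prime_core : Cfsg.pPrimeCore 3 G = ⊥ := by
  refine eq_bot_iff.2 (sSup_le fun M hM => ?_)
  obtain ⟨hMn, hcop⟩ := hM
  refine (D.e.coprime_two_subgroups_trivial hMn hcop fun hz => ?_).le
  have hzA := D.e.z_A1
  have hcomm : ∀ r ∈ R, z * r * z⁻¹ * r⁻¹ = 1 := by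
    intro r hr
    have hmR : z * r * z⁻¹ * r⁻¹ ∈ R := mul_mem (D.S.conj z (D.e.mem_A1.1 hzA) r hr) (inv_mem hr)
    have hmM : z * r * z⁻¹ * r⁻¹ ∈ M := by
      rw [show z * r * z⁻¹ * r⁻¹ = z * (r * z⁻¹ * r⁻¹) by group]
      exact mul_mem hz (hMn.conj_mem _ (inv_mem hz) r)
    have hc : (Nat.card M).Coprime (Nat.card R) := by
      rw [D.cardR, show (243 : ℕ) = 3 ^ 5 by norm_num]; exact hcop.pow_right 5
    exact orderOf_eq_one_iff.1 (Nat.dvd_one.1 (hc ▸ Nat.dvd_gcd (Subgroup.orderOf_dvd_natCard M hmM)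
      (Subgroup.orderOf_dvd_natCard R hmR)))
  have hzR : z ∈ R := by
    refine (D.mem_R_iff_high hzA).2 fun y hy => ?_
    rw [hcomm y hy]; exact one_mem _
  exact D.e.z_ne (eq_one_of_sq (odd_orderOf D.S.odd hzR) D.e.z_sq)

end Duo

end CfsgG23Two
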