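import Mathlib
import Cfsg.Agent.Lib.G23Two.Calc

/-!
Facts on SL2(3) and SL3(2).
-/

set_option autoImplicit false

namespace CfsgG23Two

open Matrix

/-- The matrix with the given index. -/
def slMat (a : ℕ) : Matrix (Fin 2) (Fin 2) (ZMod 3) :=
  let l := slEls.getD a []
  !![(l.getD 0 1 : ZMod 3), (l.getD 1 0 : ZMod 3); (l.getD 2 0 : ZMod 3), (l.getD 3 1 : ZMod 3)]

/-- The inverse in the table. -/
def slInv (a : ℕ) : ℕ := ((List.range 24).find? fun b => slMul a b == 0).getD 0

/-- Membership in the quaternion subgroup. -/
def inQ (a : ℕ) : Bool := slMul (slMul a a) (slMul a a) == 0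

/-- Conjugation in the table. -/
def slConj (c a : ℕ) : ℕ := slMul (slMul c a) (slInv c)

/-- Words in the two generators, with their values. -/
def slWords : List (List Bool × ℕ) :=
  (List.range 6).foldl (fun L _ =>
    L.foldl (fun M p =>
      [false, true].foldl (fun N b =>
        let v := slMul p.2 (if b then 4 else 6)
        if N.any (fun q => q.2 == v) then N else N ++ [(p.1 ++ [b], v)]) M) L) [([], 0)]

/-- The value of a word. -/
def evalW (u v : ℕ) (w : List Bool) : ℕ := w.foldl (fun r b => slMul r (if b then v else u)) 0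

/-- The word of an element. -/
def wordOf (a : ℕ) : List Bool := ((slWords.find? fun p => p.2 == a).map Prod.fst).getD []

/-- The endomorphism given by the images of the generators. -/
def endOf (u v a : ℕ) : ℕ := evalW u v (wordOf a)

set_option maxRecDepth 100000

theorem slMat_mul : ∀ a < 24, ∀ b < 24, slMat (slMul a b) = slMat a * slMat b := by decide +kernel

theorem slMat_det : ∀ a < 24, (slMat a).det = 1 := by decide +kernel

theorem slMat_surj : ∀ m : Matrix (Fin 2) (Fin 2) (ZMod 3), m.det = 1 → ∃ a < 24, slMat a = m := by decide +kernel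

theorem slMat_inj : ∀ a < 24, ∀ b < 24, slMat a = slMat b → a = b := by decide +kernel

theorem sl_lt : ∀ a < 24, ∀ b < 24, slMul a b < 24 := by decide +kernel

theorem tau_lt : ∀ a < 24, tauOf a < 24 := by decide +kernel

theorem tau_mul : ∀ a < 24, ∀ b < 24, tauOf (slMul a b) = slMul (tauOf a) (tauOf b) := by decide +kernel

theorem sl_neg : ∀ a < 24, slMul 12 a = (a + 12) % 24 ∧ slMul a 12 = (a + 12) % 24 ∧ slInv a < 24 ∧
    slMul a (slInv a) = 0 ∧ slMul (slInv a) a = 0 ∧ slMul 0 a = a ∧ slMul a 0 = a := by decide +kernel

theorem sl_centre : ∀ a < 24, (∀ b < 24, slMul a b = slMul b a) → a = 0 ∨ a = 12 := by decide +kernel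

theorem sl_words : ∀ a < 24, evalW 6 4 (wordOf a) = a := by decide +kernel

theorem sl_gen_order : slMul (slMul 6 6) 6 = 0 ∧ slMul (slMul 4 4) 4 = 0 := by decide +kernel

theorem sl_inner_invert {u v : ℕ} (hu : u < 24) (hv : v < 24) (h1 : slMul (slMul u u) u = 0)
    (h2 : slMul (slMul v v) v = 0)
    (h3 : ∀ a < 24, ∀ b < 24, endOf u v (slMul a b) = slMul (endOf u v a) (endOf u v b))
    (h4 : ∀ a < 24, endOf u v (endOf u v a) = a) (h5 : inQ (slMul u 6) = true) :
    ∃ c < 24, ∀ a < 24, endOf u v (slConj c a) = slConj c (tauOf a) := by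
  have key : ((List.range 24).all fun u => (List.range 24).all fun v =>
      (slMul (slMul u u) u != 0) || (slMul (slMul v v) v != 0) || !(inQ (slMul u 6)) ||
        !((List.range 24).all fun a => endOf u v (endOf u v a) == a) ||
        !((List.range 24).all fun a => (List.range 24).all fun b =>
          endOf u v (slMul a b) == slMul (endOf u v a) (endOf u v b)) ||
        (List.range 24).any fun c => (List.range 24).all fun a =>
          endOf u v (slConj c a) == slConj c (tauOf a)) = true := by decide +kernel
  simp only [List.all_eq_true, List.mem_range] at key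
  have k := key u hu v hv
  have e3 : ((List.range 24).all fun a => (List.range 24).all fun b =>
      endOf u v (slMul a b) == slMul (endOf u v a) (endOf u v b)) = true := by
    simpa [List.all_eq_true] using h3
  have e4 : ((List.range 24).all fun a => endOf u v (endOf u v a) == a) = true := by
    simpa [List.all_eq_true] using h4
  simp only [h1, h2, h5, e3, e4, bne_self_eq_false, Bool.not_true, Bool.false_or, List.any_eq_true,
    List.all_eq_true, List.mem_range, beq_iff_eq] at k
  exact k

theorem sl_square : ∀ a < 24, slMul a a = 0 ∨ slMul a a = 12 → inQ a = true := by decide +kernel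

theorem sl_moves {a : ℕ} (ha : a < 24) (hq : inQ a = false) {u : ℕ} (hu : u < 24) (hu' : inQ u = true)
    (h0 : u ≠ 0) (h12 : u ≠ 12) : slMul (slMul u (slConj a u)) (slMul u (slConj a u)) = 12 := by
  have key : ((List.range 24).all fun a => inQ a || (List.range 24).all fun u => !(inQ u) || (u == 0) || (u == 12) ||
      (slMul (slMul u (slConj a u)) (slMul u (slConj a u)) == 12)) = true := by decide +kernel
  simp only [List.all_eq_true, List.mem_range, Bool.or_eq_true] at key
  have k := (key a ha).resolve_left (by simp [hq])
  simpa [hu', h0, h12] using k u hu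

theorem sl_q_conj : ∀ c < 24, ∀ a < 24, inQ a = true → inQ (slConj c a) = true := by decide +kernel

theorem sl_q_mul : ∀ a < 24, ∀ b < 24, inQ a = true → inQ b = true → inQ (slMul a b) = true := by decide +kernel

theorem sl_q_square : ∀ a < 24, inQ a = true → slMul a a = 0 ∨ slMul a a = 12 := by decide +kernel

theorem sl_eight : ∀ a < 24, slMul (slMul (slMul a a) (slMul a a)) (slMul (slMul a a) (slMul a a)) = 0 ∨
    slMul (slMul (slMul a a) (slMul a a)) (slMul (slMul a a) (slMul a a)) = 12 → inQ a = true := by decide +kernel

theorem sl_sq_one : ∀ a < 24, slMul a a = 0 → a = 0 ∨ a = 12 := by decide +kernel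

theorem sl_q_fix : ∀ a < 24, ∀ u < 24, inQ a = true → inQ u = true →
    slMul u (slConj a u) = 0 ∨ slMul u (slConj a u) = 12 := by decide +kernel

set_option synthInstance.maxSize 2000 in
theorem sl_q_trans : ∀ u < 24, ∀ v < 24, inQ u = true → inQ v = true → slMul u u = 12 → slMul v v = 12 →
    ((List.range 24).any fun c => slConj c u == v) = true := by decide +kernel

theorem sl_coset : ∀ a < 24, ∀ b < 24, inQ a = false →
    (inQ b || inQ (slMul b a) || inQ (slMul b (slInv a))) = true := by decide +kernel

theorem sl_q_inv : ∀ a < 24, ∀ b < 24, inQ (slMul a b) = true →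
    inQ (slMul b a) = true ∧ inQ (slMul (slInv a) (slInv b)) = true := by decide +kernel

set_option synthInstance.maxSize 2000 in
theorem sl_q_flip : ∀ a < 24, ∀ q < 24, ∀ r < 24, inQ q = true → inQ r = true → inQ a = false →
    inQ (slMul (slMul r (slInv a)) (slMul q a)) = true := by decide +kernel

theorem sl_q_count : ((List.range 12).filter fun a => inQ a).length = 4 ∧
    ((List.range 24).filter fun a => inQ a).length = 8 := by decide +kernel

theorem sl_q_invol : ((List.range 288).filter fun x => inQ (x % 12) && inQ (x / 12) &&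
    ((slMul (x % 12) (x % 12) == slMul (x / 12) (x / 12)))).length = 20 := by decide +kernel

theorem sl_q_basic : inQ 0 = true ∧ inQ 12 = true ∧ inQ 6 = false ∧ slMul 12 12 = 0 ∧
    (∀ a < 24, inQ a = true → inQ (slInv a) = true) := by decide +kernel

end CfsgG23Two
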