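import Mathlib
import Cfsg.Agent.Lib.Signalizer.OrderFormula

/-!
Involutions acting on groups of odd order, and other small tools.
-/

set_option autoImplicit false

namespace CfsgG23Two

variable {G : Type*} [Group G]

theorem commute_of_sq {g x : G} (ho : Odd (orderOf g)) (h : Commute (g * g) x) : Commute g x := by
  obtain ⟨k, hk⟩ := ho
  have e : g = (g * g) ^ (k + 1) := by
    calc g = g * g ^ orderOf g := by rw [pow_orderOf_eq_one, mul_one]
      _ = g ^ (2 * k + 2) := by rw [hk, ← pow_succ']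
      _ = _ := by rw [← pow_two, ← pow_mul]; ring_nf
  rw [e]
  exact h.pow_left _

theorem odd_orderOf [Finite G] {X : Subgroup G} (hX : Odd (Nat.card X)) {x : G} (hx : x ∈ X) : Odd (orderOf x) :=
  hX.of_dvd_nat (Subgroup.orderOf_dvd_natCard X hx)

theorem eq_one_of_sq {x : G} (ho : Odd (orderOf x)) (h : x * x = 1) : x = 1 := by
  obtain ⟨k, hk⟩ := ho
  calc x = x ^ orderOf x := by rw [hk, pow_succ, pow_mul, pow_two, h, one_pow, one_mul]
    _ = 1 := pow_orderOf_eq_one x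

theorem exists_sqrt {m : G} (ho : Odd (orderOf m)) : ∃ k : ℕ, m ^ k * m ^ k = m := by
  obtain ⟨k, hk⟩ := ho
  refine ⟨k + 1, ?_⟩
  rw [← pow_add, show k + 1 + (k + 1) = (2 * k + 1) + 1 by ring, ← hk, pow_succ, pow_orderOf_eq_one, one_mul]

/-- A twisted coset of an odd normal subgroup contains a fixed element. -/
theorem fix_factor [Finite G] {N : Subgroup G} (hN : Odd (Nat.card N)) {u g : G} (hu : u * u = 1)
    (hg : g⁻¹ * (u * g * u⁻¹) ∈ N) :
    ∃ n ∈ N, u * n * u⁻¹ = n⁻¹ ∧ Commute u (g * n) := by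
  set m := g⁻¹ * (u * g * u⁻¹) with hm
  have hi : u⁻¹ = u := inv_eq_of_mul_eq_one_left hu
  have hum : u * m * u⁻¹ = m⁻¹ := by
    rw [hm, hi, mul_inv_rev, mul_inv_rev, mul_inv_rev, inv_inv, hi]
    calc u * (g⁻¹ * (u * g * u)) * u = u * g⁻¹ * u * g * (u * u) := by group
      _ = u * (g⁻¹ * u) * g := by rw [hu]; group
  obtain ⟨k, hk⟩ := exists_sqrt (odd_orderOf hN hg)
  refine ⟨m ^ k, pow_mem hg k, by rw [← conj_pow, hum, inv_pow], ?_⟩
  show u * (g * m ^ k) = g * m ^ k * u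
  have h1 : u * g * u⁻¹ = g * m := by rw [hm]; group
  have h2 : u * m ^ k * u⁻¹ = (m ^ k)⁻¹ := by rw [← conj_pow, hum, inv_pow]
  refine mul_inv_eq_iff_eq_mul.1 ?_
  calc u * (g * m ^ k) * u⁻¹ = (u * g * u⁻¹) * (u * m ^ k * u⁻¹) := by group
    _ = g * (m * (m ^ k)⁻¹) := by rw [h1, h2, mul_assoc]
    _ = g * m ^ k := by
        congr 1
        rw [mul_inv_eq_iff_eq_mul, hk]

theorem inverts_of_fpf [Finite G] {X : Subgroup G} {u : G} (hu : u * u = 1) (hX : Odd (Nat.card X))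
    (hn : ∀ x ∈ X, u * x * u⁻¹ ∈ X) (hfix : ∀ x ∈ X, Commute u x → x = 1) :
    ∀ x ∈ X, u * x * u⁻¹ = x⁻¹ := by
  intro x hx
  obtain ⟨n, hn', hinv, hc⟩ := fix_factor hX hu (mul_mem (inv_mem hx) (hn x hx))
  rw [eq_inv_of_mul_eq_one_left (hfix _ (mul_mem hx hn') hc), ← conj_inv, hinv]

theorem commute_of_inverted {u x y : G} (hx : u * x * u⁻¹ = x⁻¹) (hy : u * y * u⁻¹ = y⁻¹)
    (hxy : u * (x * y) * u⁻¹ = (x * y)⁻¹) : Commute x y := by
  rw [show u * (x * y) * u⁻¹ = (u * x * u⁻¹) * (u * y * u⁻¹) by group, hx, hy, mul_inv_rev] at hxy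
  exact Commute.inv_inv_iff.1 hxy

/-- An involution decomposes a group of odd order as fixed times inverted. -/
theorem card_fixed_inverted [Finite G] {X : Subgroup G} (hX : Odd (Nat.card X)) {u : G} (hu : u * u = 1)
    (hn : ∀ x ∈ X, u * x * u⁻¹ ∈ X) :
    Nat.card X = Nat.card {c : G // c ∈ X ∧ Commute u c} * Nat.card {i : G // i ∈ X ∧ u * i * u⁻¹ = i⁻¹} := by
  rw [← Nat.card_prod]
  refine (Nat.card_congr (Equiv.ofBijective
    (fun p : {c : G // c ∈ X ∧ Commute u c} × {i : G // i ∈ X ∧ u * i * u⁻¹ = i⁻¹} =>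
      (⟨p.1.1 * p.2.1, mul_mem p.1.2.1 p.2.2.1⟩ : X)) ⟨?_, ?_⟩)).symm
  · rintro ⟨⟨c, hc, hcu⟩, ⟨i, hi, hiu⟩⟩ ⟨⟨c', hc', hcu'⟩, ⟨i', hi', hiu'⟩⟩ h
    have h' : c * i = c' * i' := congrArg Subtype.val h
    set d := c'⁻¹ * c with hd
    have hdu : Commute u d := hcu'.inv_right.mul_right hcu
    have e1 : i' = d * i := by rw [hd, mul_assoc, h', inv_mul_cancel_left]
    have e2 : i⁻¹ * d⁻¹ = d * i⁻¹ := by
      rw [e1, mul_inv_rev, show u * (d * i) * u⁻¹ = (u * d * u⁻¹) * (u * i * u⁻¹) by group, hiu,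
        mul_inv_eq_iff_eq_mul.2 hdu.eq] at hiu'
      exact hiu'.symm
    have e3 : i * d * i⁻¹ = d⁻¹ := by
      rw [mul_assoc, ← e2, mul_inv_cancel_left]
    have e4 : Commute (i * i) d := by
      refine mul_inv_eq_iff_eq_mul.1 ?_
      calc i * i * d * (i * i)⁻¹ = i * (i * d * i⁻¹) * i⁻¹ := by group
        _ = (i * d * i⁻¹)⁻¹ := by rw [e3, ← conj_inv, e3]
        _ = d := by rw [e3, inv_inv]
    have e5 := (commute_of_sq (odd_orderOf hX hi) e4).eq
    rw [mul_inv_eq_iff_eq_mul.2 e5] at e3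
    have hd1 : d = 1 := eq_one_of_sq (odd_orderOf hX (mul_mem (inv_mem hc') hc)) (eq_inv_iff_mul_eq_one.1 e3)
    have hc1 : c = c' := (inv_mul_eq_one.1 hd1).symm
    subst hc1
    simpa using h'
  · rintro ⟨x, hx⟩
    obtain ⟨n, hn', hinv, hc⟩ := fix_factor hX hu (mul_mem (inv_mem hx) (hn x hx))
    refine ⟨⟨⟨x * n, mul_mem hx hn', hc⟩, ⟨n⁻¹, inv_mem hn', by rw [← conj_inv, hinv]⟩⟩, ?_⟩
    exact Subtype.ext (mul_inv_cancel_right x n)

/-- An automorphism of order three of an elementary abelian 3-group has many fixed points. -/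
theorem card_le_cube {V : Type*} [CommGroup V] [Finite V] (h3 : ∀ v : V, v ^ 3 = 1) (σ : V →* V)
    (hσ : ∀ v, σ (σ (σ v)) = v) : Nat.card V ≤ Nat.card {v : V // σ v = v} ^ 3 := by
  let φ : V →* V := σ / MonoidHom.id V
  have hφ : ∀ v, φ v = σ v / v := fun v => rfl
  have hker : ∀ ψ : V →* V, Nat.card (ψ.comp φ).ker ≤ Nat.card ψ.ker * Nat.card φ.ker := fun ψ => by
    let g : (ψ.comp φ).ker →* ψ.ker := (φ.comp (Subgroup.subtype _)).codRestrict ψ.ker fun v => v.2
    rw [← g.ker.index_mul_card, Subgroup.index_ker]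
    refine Nat.mul_le_mul (Subgroup.card_le_card_group _) ?_
    refine Nat.card_le_card_of_injective (fun x => (⟨x.1.1, congrArg Subtype.val x.2⟩ : φ.ker)) fun x y h => ?_
    exact Subtype.ext (Subtype.ext (congrArg Subtype.val h :))
  have hc : Nat.card φ.ker = Nat.card {v : V // σ v = v} :=
    Nat.card_congr (Equiv.subtypeEquivRight fun v => by rw [MonoidHom.mem_ker, hφ, div_eq_one])
  have htop : (φ.comp φ).comp φ = 1 := by
    refine MonoidHom.ext fun v => ?_
    show φ (φ (φ v)) = 1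
    simp only [hφ, map_div, hσ]
    have a := h3 (σ v)
    have b := h3 (σ (σ v))
    simp only [pow_three] at a b
    calc _ = (σ v * (σ v * σ v)) / (σ (σ v) * (σ (σ v) * σ (σ v))) := by
          simp only [div_eq_mul_inv, mul_inv_rev, inv_inv]; ac_nf; simp [mul_comm, mul_left_comm]
      _ = 1 := by rw [a, b, div_one]
  have h := hker (φ.comp φ)
  rw [htop, MonoidHom.ker_one, Subgroup.card_top] at h
  rw [← hc, pow_three, ← mul_assoc]
  exact h.trans (Nat.mul_le_mul_right _ (hker φ))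

/-- A p-subgroup with small normalizer is a Sylow subgroup. -/
theorem not_pow_dvd_of_normalizer [Finite G] {p n : ℕ} [Fact p.Prime] {K P : Subgroup G} (hP : P ≤ K)
    (hc : Nat.card P = p ^ n) (h : ¬ p ^ (n + 1) ∣ Nat.card (Subgroup.normalizer (P : Set G) ⊓ K : Subgroup G)) :
    ¬ p ^ (n + 1) ∣ Nat.card K := by
  intro hK
  refine h ?_
  have hc' : Nat.card (P.subgroupOf K) = p ^ n := by
    rw [Nat.card_congr (Subgroup.subgroupOfEquivOfLe hP).toEquiv, hc]
  refine (Sylow.prime_pow_dvd_card_normalizer hK hc').trans ?_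
  rw [← Subgroup.card_map_of_injective (K := Subgroup.normalizer ((P.subgroupOf K : Subgroup K) : Set K)) K.subtype_injective]
  refine Subgroup.card_dvd_of_le ?_
  rintro _ ⟨k, hk, rfl⟩
  refine Subgroup.mem_inf.2 ⟨Subgroup.mem_normalizer_iff.2 fun x => ⟨fun hx => ?_, fun hx => ?_⟩, k.2⟩
  · exact (Subgroup.mem_normalizer_iff.1 hk ⟨x, hP hx⟩).1 hx
  · have hxK : x ∈ K := by
      have := mul_mem (mul_mem (inv_mem k.2) (hP hx)) k.2
      rw [Subgroup.subtype_apply] at this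
      rwa [show (k : G)⁻¹ * ((k : G) * x * (k : G)⁻¹) * (k : G) = x by group] at this
    exact (Subgroup.mem_normalizer_iff.1 hk ⟨x, hxK⟩).2 hx

/-- The largest normal subgroup of odd order. -/
theorem exists_max_odd [Finite G] (C : Subgroup G) : ∃ R : Subgroup G, R ≤ C ∧ Odd (Nat.card R) ∧
    (∀ c ∈ C, ∀ r ∈ R, c * r * c⁻¹ ∈ R) ∧
    ∀ N : Subgroup G, N ≤ C → Odd (Nat.card N) → (∀ c ∈ C, ∀ r ∈ N, c * r * c⁻¹ ∈ N) → N ≤ R := by
  obtain ⟨R, -, hR⟩ := Finite.exists_le_maximal (p := fun N : Subgroup C => N.Normal ∧ Odd (Nat.card N))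
    (a := (⊥ : Subgroup C)) ⟨inferInstance, by rw [Subgroup.card_bot]; exact odd_one⟩
  obtain ⟨⟨hn, ho⟩, hmax⟩ := hR
  refine ⟨R.map C.subtype, Subgroup.map_subtype_le R, ?_, ?_, ?_⟩
  · rwa [Subgroup.card_map_of_injective C.subtype_injective]
  · rintro c hc _ ⟨r, hr, rfl⟩
    exact ⟨⟨c, hc⟩ * r * ⟨c, hc⟩⁻¹, hn.conj_mem r hr ⟨c, hc⟩, rfl⟩
  · intro N hNC hNo hNn
    haveI := hn
    haveI hN' : (N.subgroupOf C).Normal := ⟨fun x hx g => hNn g.1 g.2 x.1 hx⟩
    have hodd : Odd (Nat.card (N.subgroupOf C ⊔ R : Subgroup C)) := by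
      rw [← Subgroup.card_mul_index (R.subgroupOf (N.subgroupOf C ⊔ R)),
        Nat.card_congr (Subgroup.subgroupOfEquivOfLe le_sup_right).toEquiv]
      refine ho.mul ?_
      rw [← Subgroup.relIndex, Subgroup.relIndex_sup_right]
      refine Odd.of_dvd_nat ?_ (R.subgroupOf (N.subgroupOf C)).index_dvd_card
      rwa [Nat.card_congr (Subgroup.subgroupOfEquivOfLe hNC).toEquiv]
    have := hmax ⟨Subgroup.sup_normal (N.subgroupOf C) R, hodd⟩ le_sup_right
    intro x hx
    exact ⟨⟨x, hNC hx⟩, this (Subgroup.mem_sup_left hx), rfl⟩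

/-- The order formula for two commuting involutions. -/
theorem four_card [Finite G] {X : Subgroup G} (hX : Odd (Nat.card X)) {z t : G} (hz : z * z = 1) (ht : t * t = 1)
    (hzt : Commute z t) (z1 : z ≠ 1) (t1 : t ≠ 1) (ne : z ≠ t)
    (nz : ∀ x ∈ X, z * x * z⁻¹ ∈ X) (nt : ∀ x ∈ X, t * x * t⁻¹ ∈ X)
    (htriv : ∀ x ∈ X, Commute z x → Commute t x → x = 1) :
    Nat.card X = Nat.card (X ⊓ Subgroup.centralizer ({z} : Set G) : Subgroup G) *
      Nat.card (X ⊓ Subgroup.centralizer ({t} : Set G) : Subgroup G) *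
      Nat.card (X ⊓ Subgroup.centralizer ({z * t} : Set G) : Subgroup G) := by
  classical
  haveI : Fact (Nat.Prime 2) := ⟨Nat.prime_two⟩
  have hzt1 : z * t ≠ 1 := fun h => ne (by
    rw [eq_inv_of_mul_eq_one_left h, inv_eq_of_mul_eq_one_left ht])
  have htz : t * (z * t) = z := by rw [← mul_assoc, ← hzt.eq, mul_assoc, ht, mul_one]
  have hzzt : z * (z * t) = t := by rw [← mul_assoc, hz, one_mul]
  have hztz : z * t * z = t := by rw [hzt.eq, mul_assoc, hz, mul_one]
  have hztt : z * t * t = z := by rw [mul_assoc, ht, mul_one]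
  have hztzt : z * t * (z * t) = 1 := by rw [← mul_assoc, hztz, ht]
  set A : Subgroup G :=
    { carrier := {1, z, t, z * t}
      one_mem' := Or.inl rfl
      mul_mem' := by
        rintro a b ha hb
        simp only [Set.mem_insert_iff, Set.mem_singleton_iff] at ha hb ⊢
        rcases ha with rfl | rfl | rfl | rfl <;> rcases hb with rfl | rfl | rfl | rfl <;>
          simp [hz, ht, htz, hzzt, hztz, hztt, hztzt, hzt.eq.symm]
      inv_mem' := by
        rintro a ha
        simp only [Set.mem_insert_iff, Set.mem_singleton_iff] at ha ⊢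
        rcases ha with rfl | rfl | rfl | rfl <;>
          simp [inv_eq_of_mul_eq_one_left hz, inv_eq_of_mul_eq_one_left ht, inv_eq_of_mul_eq_one_left hztzt] }
    with hA
  have memA : ∀ a, a ∈ A ↔ a = 1 ∨ a = z ∨ a = t ∨ a = z * t := fun a => Iff.rfl
  have sqA : ∀ a ∈ A, a * a = 1 := fun a ha => by
    rcases (memA a).1 ha with rfl | rfl | rfl | rfl
    exacts [one_mul 1, hz, ht, hztzt]
  have eA : Cfsg.IsElementaryAbelian 2 A := by
    refine ⟨⟨⟨fun a b => Subtype.ext ?_⟩⟩, fun a ha => by rw [pow_two, sqA a ha]⟩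
    show (a : G) * b = b * a
    rw [← inv_eq_of_mul_eq_one_left (sqA _ (mul_mem b.2 a.2)), mul_inv_rev,
      inv_eq_of_mul_eq_one_left (sqA _ a.2), inv_eq_of_mul_eq_one_left (sqA _ b.2)]
  have cA : Nat.card A = 2 ^ 2 := by
    have : Nat.card A = ({1, z, t, z * t} : Set G).ncard := (Nat.card_coe_set_eq _).symm ▸ rfl
    rw [this]
    have d1 : z ≠ z * t := fun h => t1 (mul_eq_left.1 h.symm)
    have d2 : t ≠ z * t := fun h => z1 (mul_eq_right.1 h.symm)
    rw [Set.ncard_insert_of_notMem (by simp [z1.symm, t1.symm, hzt1.symm]),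
      Set.ncard_insert_of_notMem (by simp [ne, d1]), Set.ncard_insert_of_notMem (by simp [d2]), Set.ncard_singleton]
    norm_num
  have hAX : A ≤ Subgroup.normalizer (X : Set G) := by
    have key : ∀ a, a * a = 1 → (∀ x ∈ X, a * x * a⁻¹ ∈ X) → a ∈ Subgroup.normalizer (X : Set G) := by
      intro a ha h
      refine Subgroup.mem_normalizer_iff.2 fun x => ⟨h x, fun hx => ?_⟩
      have := h _ hx
      rwa [inv_eq_of_mul_eq_one_left ha, show a * (a * x * a) * a = (a * a) * x * (a * a) by group, ha,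
        one_mul, mul_one] at this
    intro a ha
    rcases (memA a).1 ha with rfl | rfl | rfl | rfl
    exacts [one_mem _, key _ hz nz, key _ ht nt, mul_mem (key _ hz nz) (key _ ht nt)]
  have h := CfsgLib.Signalizer.order_formula eA cA hAX (fun h => (Nat.not_even_iff_odd.2 hX) (even_iff_two_dvd.2 h))
  have hbot : Nat.card (X ⊓ Subgroup.centralizer (A : Set G) : Subgroup G) = 1 := by
    rw [Subgroup.card_eq_one, eq_bot_iff]
    intro x hx
    exact htriv x (Subgroup.mem_inf.1 hx).1 ((Subgroup.mem_inf.1 hx).2 z (Or.inr (Or.inl rfl)))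
      ((Subgroup.mem_inf.1 hx).2 t (Or.inr (Or.inr (Or.inl rfl))))
  rw [hbot, one_pow, mul_one] at h
  have mkL : ∀ a ∈ A, a ≠ 1 → Subgroup.zpowers a ≤ A ∧ Nat.card (Subgroup.zpowers a) = 2 := fun a ha ha1 =>
    ⟨Subgroup.zpowers_le.2 ha, by rw [Nat.card_zpowers, orderOf_eq_prime (by rw [pow_two, sqA a ha]) ha1]⟩
  let Lz : CfsgLib.Signalizer.Lines 2 A := ⟨_, mkL z (Or.inr (Or.inl rfl)) z1⟩
  let Lt : CfsgLib.Signalizer.Lines 2 A := ⟨_, mkL t (Or.inr (Or.inr (Or.inl rfl))) t1⟩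
  let Lzt : CfsgLib.Signalizer.Lines 2 A := ⟨_, mkL (z * t) (Or.inr (Or.inr (Or.inr rfl))) hzt1⟩
  have hcent : ∀ a : G, Subgroup.centralizer ((Subgroup.zpowers a : Subgroup G) : Set G) =
      Subgroup.centralizer ({a} : Set G) := fun a => by
    rw [Subgroup.zpowers_eq_closure, Subgroup.centralizer_closure]
  have sep : ∀ a b : G, a * a = 1 → b * b = 1 → a ≠ 1 → a ≠ b → Subgroup.zpowers a ≠ Subgroup.zpowers b := by
    intro a b ha hb a1 hab e
    have hm : a ∈ Subgroup.zpowers b := e ▸ Subgroup.mem_zpowers a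
    obtain ⟨k, rfl⟩ := Subgroup.mem_zpowers_iff.1 hm
    rcases Int.even_or_odd' k with ⟨j, rfl | rfl⟩
    · exact a1 (by rw [zpow_mul, zpow_two, hb, one_zpow])
    · exact hab (by rw [zpow_add, zpow_mul, zpow_two, hb, one_zpow, one_mul, zpow_one])
  have d1 : z ≠ z * t := fun h => t1 (mul_eq_left.1 h.symm)
  have d2 : t ≠ z * t := fun h => z1 (mul_eq_right.1 h.symm)
  have hzt_ne : Lz ≠ Lt := fun e => sep z t hz ht z1 ne (congrArg Subtype.val e)
  have hz_ne : Lz ≠ Lzt := fun e => sep z _ hz hztzt z1 d1 (congrArg Subtype.val e)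
  have ht_ne : Lt ≠ Lzt := fun e => sep t _ ht hztzt t1 d2 (congrArg Subtype.val e)
  have huniv : (Finset.univ : Finset (CfsgLib.Signalizer.Lines 2 A)) = {Lz, Lt, Lzt} := by
    refine (Finset.eq_univ_of_card _ ?_).symm
    rw [← Nat.card_eq_fintype_card, CfsgLib.Signalizer.card_lines eA cA,
      Finset.card_insert_of_notMem (by simp [hzt_ne, hz_ne]), Finset.card_insert_of_notMem (by simp [ht_ne]),
      Finset.card_singleton]
  rw [h, huniv, Finset.prod_insert (by simp [hzt_ne, hz_ne]), Finset.prod_insert (by simp [ht_ne]),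
    Finset.prod_singleton, ← mul_assoc]
  simp only [Lz, Lt, Lzt, hcent]

end CfsgG23Two
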