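import Cfsg.Agent.Lib.G23Two.Order
import Cfsg.Agent.Lib.G23Two.Tools
import Cfsg.Agent.Lib.G23Two.Small

/-!
Transport of the table, and facts read off from it.
-/

set_option autoImplicit false
set_option maxRecDepth 100000

namespace CfsgG23Two

/-- The exchange of the two factors. -/
def swapI (x : ℕ) : ℕ := normal (x / 12 % 24) (x % 12) (x / 288)

theorem swapI_lt {x : ℕ} (hx : x < 576) : swapI x < 576 :=
  normal_lt (Nat.mod_lt _ (by norm_num)) (by omega) (by omega)

theorem swapI_data : (∀ x < 576, swapI (swapI x) = x) ∧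
    (∀ g ∈ genEls, ∀ x < 576, swapI (mulM g x) = mulM (swapI g) (swapI x)) ∧
    swapI 0 = 0 ∧ swapI 6 = 72 ∧ swapI 72 = 6 ∧ swapI 288 = 288 ∧ swapI zM = zM := by
  have h : ((List.range 576).all fun x => (swapI (swapI x) == x) &&
      genEls.all fun g => swapI (mulM g x) == mulM (swapI g) (swapI x)) = true := by decide +kernel
  simp only [List.all_eq_true, List.mem_range, Bool.and_eq_true, beq_iff_eq] at h
  exact ⟨fun x hx => (h x hx).1, fun g hg x hx => (h x hx).2 g hg, by decide +kernel, by decide +kernel,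
    by decide +kernel, by decide +kernel, by decide +kernel⟩

/-- Commuting with the first element of order three. -/
def inC (x : ℕ) : Bool := mulM x 6 == mulM 6 x

/-- The quaternion subgroup of the second factor. -/
def q8 : List ℕ := [0, 12, 84, 132, 144, 156, 228, 276]

/-- The image of the second factor. -/
def snd (b : ℕ) : ℕ := normal 0 b 0

theorem cent_data : ((List.range 576).filter inC).length = 72 ∧
    (∀ x < 576, inC x = true → x / 288 = 0 ∧ (x % 12 = 0 ∨ x % 12 = 6 ∨ x % 12 = 9)) ∧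
    (∀ x < 576, inC x = true → ∀ q ∈ q8, ∃ q' ∈ q8, mulM x q = mulM q' x) ∧
    (∀ x < 576, inC x = true → (∀ q ∈ q8, mulM x q = mulM q x) → x ∈ [0, 6, 9, 144, 150, 153]) ∧
    (∀ q ∈ q8, inC q = true ∧ q < 576) := by
  refine ⟨by decide +kernel, ?_, ?_, ?_, by decide +kernel⟩
  · have h : ((List.range 576).all fun x => !(inC x) ||
        ((x / 288 == 0) && ((x % 12 == 0) || (x % 12 == 6) || (x % 12 == 9)))) = true := by decide +kernel
    simp only [List.all_eq_true, List.mem_range, Bool.or_eq_true, Bool.and_eq_true, beq_iff_eq,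
      Bool.not_eq_true'] at h
    intro x hx hc
    obtain ⟨h1, h2⟩ := (h x hx).resolve_left (by simp [hc])
    exact ⟨h1, by tauto⟩
  · have h : ((List.range 576).all fun x => !(inC x) ||
        q8.all fun q => q8.any fun q' => mulM x q == mulM q' x) = true := by decide +kernel
    simp only [List.all_eq_true, List.any_eq_true, List.mem_range, Bool.or_eq_true, beq_iff_eq,
      Bool.not_eq_true'] at h
    exact fun x hx hc => (h x hx).resolve_left (by simp [hc])
  · have h : ((List.range 576).all fun x => !(inC x) || (q8.any fun q => mulM x q != mulM q x) ||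
        [0, 6, 9, 144, 150, 153].contains x) = true := by decide +kernel
    simp only [List.all_eq_true, List.any_eq_true, List.mem_range, Bool.or_eq_true, bne_iff_ne,
      Bool.not_eq_true', List.contains_iff_mem] at h
    intro x hx hc hq
    rcases h x hx with (h0 | ⟨q, hqm, hne⟩) | h1
    · simp [hc] at h0
    · exact absurd (hq q hqm) hne
    · exact h1

theorem const_data : mulM 288 288 = 0 ∧ mulM 288 6 = mulM 9 288 ∧ mulM 288 72 = mulM 108 288 ∧
    mulM 288 zM = mulM zM 288 ∧ mulM zM 288 = 432 ∧ mulM 12 288 = mulM 432 12 ∧ mulM 12 6 = mulM 6 12 ∧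
    mulM 6 9 = 0 ∧ mulM 72 108 = 0 ∧ mulM 6 6 = 9 ∧ mulM 72 72 = 108 ∧ powM 6 3 = 0 ∧ powM 72 3 = 0 ∧
    mulM 6 72 = mulM 72 6 ∧ mulM 432 432 = 0 ∧ mulM 432 6 = mulM 9 432 ∧ mulM 432 72 = mulM 108 432 ∧
    mulM 432 zM = mulM zM 432 ∧ mulM 12 72 = mulM 60 12 ∧
    mulM (mulM (mulM (mulM (mulM 72 72) 60) 72) 72) 60 = zM ∧ mulM 6 zM = mulM zM 6 ∧
    mulM 12 zM = mulM zM 12 ∧ mulM 6 60 = mulM 60 6 ∧ mulM 288 432 = zM := by
  decide +kernel

theorem nine_three : ∀ x < 576, powM x 9 = 0 → powM x 3 = 0 := by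
  have h : ((List.range 576).all fun x => (powM x 9 != 0) || (powM x 3 == 0)) = true := by decide +kernel
  simp only [List.all_eq_true, List.mem_range, Bool.or_eq_true, bne_iff_ne, beq_iff_eq] at h
  exact fun x hx h9 => (h x hx).resolve_left (not_not.2 h9)

theorem three_cls : (∀ x < 576, powM x 3 = 0 → x ≠ 0 → cls x = 14 ∨ cls x = 17 ∨ cls x = 9 ∨ cls x = 11) ∧
    cls 6 = 14 ∧ cls 9 = 14 ∧ cls 72 = 17 ∧ cls 108 = 17 := by
  refine ⟨?_, by decide +kernel, by decide +kernel, by decide +kernel, by decide +kernel⟩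
  have h : ((List.range 576).all fun x => (powM x 3 != 0) || (x == 0) ||
      [14, 17, 9, 11].contains (cls x)) = true := by decide +kernel
  simp only [List.all_eq_true, List.mem_range, Bool.or_eq_true, bne_iff_ne, beq_iff_eq,
    List.contains_iff_mem] at h
  intro x hx h3 h0
  rcases h x hx with (a | a) | a
  · exact absurd h3 a
  · exact absurd a h0
  · simpa using a

theorem diag_cent : ∀ c, c = 9 ∨ c = 11 →
    ((List.range 576).filter fun y => mulM y (repOf c) == mulM (repOf c) y).length = 18 ∧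
    powM (repOf c) 3 = 0 := by
  rintro c (rfl | rfl) <;> decide +kernel

theorem snd_data : (∀ b < 24, snd b < 576 ∧ inC (snd b) = true) ∧
    (∀ b < 24, b ≠ 0 → b ≠ 12 → ∃ c < 24, ∃ d < 24, d = slMul (slMul b c) (slMul (slInv b) (slInv c)) ∧
      (d = 12 ∨ slMul d d = 12)) ∧
    (∀ b < 24, mulM (snd b) 72 = mulM 72 (snd b) → snd b ∈ [0, 72, 108, 144, 216, 252]) := by
  refine ⟨?_, ?_, ?_⟩
  · decide +kernel
  · intro b hb h0 h12
    have h : ((List.range 24).all fun b => (b == 0) || (b == 12) || (List.range 24).any fun c =>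
        let d := slMul (slMul b c) (slMul (slInv b) (slInv c))
        decide (d < 24) && ((d == 12) || (slMul d d == 12))) = true := by decide +kernel
    simp only [List.all_eq_true, List.any_eq_true, List.mem_range, Bool.or_eq_true, Bool.and_eq_true,
      beq_iff_eq, decide_eq_true_eq] at h
    obtain ⟨c, hc, hd, e⟩ := (h b hb).resolve_left (by rintro (a | a) <;> omega)
    exact ⟨c, hc, _, hd, rfl, e⟩
  · decide +kernel

/-- An isomorphism with the quaternion group. -/
def qOf : QuaternionGroup 2 → ℕ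
  | .a i => powM 12 i.val
  | .xa i => mulM 84 (powM 12 i.val)

theorem qOf_data : (∀ g : QuaternionGroup 2, qOf g ∈ q8) ∧
    (∀ g h : QuaternionGroup 2, qOf (g * h) = mulM (qOf g) (qOf h)) ∧
    (∀ g h : QuaternionGroup 2, qOf g = qOf h → g = h) ∧ ∀ q ∈ q8, ∃ g : QuaternionGroup 2, qOf g = q := by
  have e : ∀ g : QuaternionGroup 2, (∃ i : Fin 4, g = .a i) ∨ ∃ i : Fin 4, g = .xa i := by
    rintro (i | i)
    exacts [Or.inl ⟨i, rfl⟩, Or.inr ⟨i, rfl⟩]
  have h : ((List.finRange 4).all fun i => (List.finRange 4).all fun j =>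
      let L : List (QuaternionGroup 2) := [.a i, .xa i]
      let M : List (QuaternionGroup 2) := [.a j, .xa j]
      L.all fun g => q8.contains (qOf g) && M.all fun h =>
        (qOf (g * h) == mulM (qOf g) (qOf h)) && ((qOf g != qOf h) || decide (g = h))) = true := by
    decide +kernel
  have hs : (q8.all fun q => (List.finRange 4).any fun i =>
      (qOf (.a i) == q) || (qOf (.xa i) == q)) = true := by decide +kernel
  simp only [List.all_eq_true, List.mem_finRange, forall_const, List.mem_cons, List.not_mem_nil, or_false,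
    forall_eq_or_imp, forall_eq, Bool.and_eq_true, Bool.or_eq_true, beq_iff_eq, bne_iff_ne, decide_eq_true_eq,
    List.contains_iff_mem] at h
  simp only [List.all_eq_true, List.any_eq_true, List.mem_finRange, true_and, Bool.or_eq_true, beq_iff_eq] at hs
  refine ⟨fun g => ?_, fun g h' => ?_, fun g h' he => ?_, fun q hq => ?_⟩
  · rcases e g with ⟨i, rfl⟩ | ⟨i, rfl⟩
    exacts [(h i i).1.1, (h i i).2.1]
  · rcases e g with ⟨i, rfl⟩ | ⟨i, rfl⟩ <;> rcases e h' with ⟨j, rfl⟩ | ⟨j, rfl⟩
    exacts [(h i j).1.2.1.1, (h i j).1.2.2.1, (h i j).2.2.1.1, (h i j).2.2.2.1]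
  · rcases e g with ⟨i, rfl⟩ | ⟨i, rfl⟩ <;> rcases e h' with ⟨j, rfl⟩ | ⟨j, rfl⟩
    exacts [(h i j).1.2.1.2.resolve_left (not_not.2 he), (h i j).1.2.2.2.resolve_left (not_not.2 he),
      (h i j).2.2.1.2.resolve_left (not_not.2 he), (h i j).2.2.2.2.resolve_left (not_not.2 he)]
  · obtain ⟨i, hi | hi⟩ := hs q hq
    exacts [⟨_, hi⟩, ⟨_, hi⟩]

namespace Emb

variable {G : Type*} [Group G] {f : ℕ → G} {z : G} (e : Emb f z)
include e

theorem conj (g : G) : Emb (fun x => g * f x * g⁻¹) (g * z * g⁻¹) where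
  mul x hx y hy := by rw [e.mul x hx y hy]; group
  inj x hx y hy h := e.inj x hx y hy (mul_left_cancel (mul_right_cancel h))
  range k hk := by
    obtain ⟨x, hx, hxe⟩ := e.range (g⁻¹ * k * g) (by
      have := (Commute.conj_iff g⁻¹).2 hk
      simp only [inv_inv] at this
      rwa [show g⁻¹ * (g * z * g⁻¹) * g = z by group] at this)
    exact ⟨x, hx, by show g * f x * g⁻¹ = k; rw [hxe]; group⟩
  hz := by show g * f zM * g⁻¹ = _; rw [e.hz]
  fus x hx h1 h2 := by
    have hg : g * (f x * f x) * g⁻¹ = 1 := by rw [← h2]; group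
    have h := e.fus x hx (fun h => h1 (by show g * f x * g⁻¹ = 1; rw [h, mul_one, mul_inv_cancel]))
      (conj_eq_one_iff.1 hg)
    exact ((isConj_iff.2 ⟨g, rfl⟩).symm.trans h).trans (isConj_iff.2 ⟨g, rfl⟩)

theorem swap : Emb (fun x => f (swapI x)) z := by
  have hom : ∀ n g, g < 576 → dep g ≤ n → ∀ x < 576, swapI (mulM g x) = mulM (swapI g) (swapI x) := by
    intro n
    have base : ∀ x < 576, swapI (mulM 0 x) = mulM (swapI 0) (swapI x) := by
      intro x hx
      have l0 : ∀ y < 576, mulM 0 y = y := fun y hy =>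
        e.inj _ (mulM_lt (by norm_num)) y hy (by rw [e.mul 0 (by norm_num) y hy, e.one, one_mul])
      rw [swapI_data.2.2.1, l0 x hx, l0 _ (swapI_lt hx)]
    induction n with
    | zero =>
      intro g hg hd x hx
      rcases (cls_data hg).2.2.2.2 with rfl | h
      · exact base x hx
      · omega
    | succ n ih =>
      intro g hg hd x hx
      rcases (cls_data hg).2.2.2.2 with rfl | ⟨hd', hp, hgen, he⟩
      · exact base x hx
      · set a := gen1 g
        set b := pre1 g
        have ha : a < 576 := rep_data.2.2.2.2.2 a hgen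
        rw [← he, e.assoc ha hp hx, swapI_data.2.1 a hgen _ (mulM_lt hp), ih b hp (by omega) x hx,
          swapI_data.2.1 a hgen b hp, e.assoc (swapI_lt ha) (swapI_lt hp) (swapI_lt hx)]
  refine ⟨fun x hx y hy => ?_, fun x hx y hy h => ?_, fun g hg => ?_, ?_, fun x hx h1 h2 => ?_⟩
  · show f (swapI (mulM x y)) = f (swapI x) * f (swapI y)
    rw [hom _ x hx le_rfl y hy, e.mul _ (swapI_lt hx) _ (swapI_lt hy)]
  · have := e.inj _ (swapI_lt hx) _ (swapI_lt hy) h
    rw [← swapI_data.1 x hx, this, swapI_data.1 y hy]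
  · obtain ⟨x, hx, hxe⟩ := e.range g hg
    exact ⟨swapI x, swapI_lt hx, by show f (swapI (swapI x)) = g; rw [swapI_data.1 x hx, hxe]⟩
  · show f (swapI zM) = z
    rw [swapI_data.2.2.2.2.2.2, e.hz]
  · exact e.fus _ (swapI_lt hx) h1 h2

theorem card_cent : Nat.card (Subgroup.centralizer ({z} : Set G)) = 576 := by
  refine (Nat.card_congr (Equiv.ofBijective (fun x : Fin 576 => (⟨f x.val,
    Subgroup.mem_centralizer_singleton_iff.2 (e.comm x.isLt).eq⟩ : Subgroup.centralizer ({z} : Set G))) ⟨fun x y h =>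
      Fin.ext (e.inj _ x.isLt _ y.isLt (congrArg Subtype.val h)), fun g => ?_⟩)).symm.trans (Nat.card_fin 576)
  obtain ⟨x, hx, hxg⟩ := e.range g.1 (Subgroup.mem_centralizer_singleton_iff.1 g.2)
  exact ⟨⟨x, hx⟩, Subtype.ext hxg⟩

theorem odd_three [Finite G] {g : G} (hg : Commute g z) (ho : Odd (orderOf g)) : g ^ 3 = 1 := by
  have hd : orderOf g ∣ 2 ^ 6 * 9 := by
    have := Subgroup.orderOf_dvd_natCard (Subgroup.centralizer ({z} : Set G))
      (Subgroup.mem_centralizer_singleton_iff.2 hg.eq)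
    rwa [e.card_cent] at this
  have h9 : g ^ 9 = 1 :=
    orderOf_dvd_iff_pow_eq_one.1 (((Nat.coprime_two_right.2 ho).pow_right 6).dvd_of_dvd_mul_left hd)
  obtain ⟨x, hx, rfl⟩ := e.range g hg
  rw [← e.pow hx, ← e.one] at h9
  rw [← e.pow hx, nine_three x hx (e.inj _ (powM_lt 9) 0 (by norm_num) h9), e.one]

theorem card_odd_le [Finite G] {X : Subgroup G} (hX : Odd (Nat.card X)) (hc : ∀ x ∈ X, Commute x z) :
    Nat.card X ∣ 9 := by
  have hd : Nat.card X ∣ 2 ^ 6 * 9 := by
    have := Subgroup.card_dvd_of_le (show X ≤ Subgroup.centralizer ({z} : Set G) from fun x hx =>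
      Subgroup.mem_centralizer_singleton_iff.2 (hc x hx).eq)
    rwa [e.card_cent] at this
  exact ((Nat.coprime_two_right.2 hX).pow_right 6).dvd_of_dvd_mul_left hd

end Emb

end CfsgG23Two
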