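import Mathlib

/-!
Facts on SL3(2).
-/

set_option autoImplicit false
set_option maxRecDepth 100000
set_option synthInstance.maxSize 2000

namespace CfsgG23Two

/-- SL3(2). -/
abbrev L32 : Type := Matrix.SpecialLinearGroup (Fin 3) (ZMod 2)

/-- A transvection. -/
def trans32 : L32 := ⟨!![1, 1, 0; 0, 1, 0; 0, 0, 1], by decide⟩

theorem l32_card : Nat.card L32 = 168 := by
  rw [Nat.card_eq_fintype_card]; decide +kernel

theorem l32_invol : ∀ g : L32, g * g = 1 → g = 1 ∨ ∃ h : L32, h * trans32 = g * h := by decide +kernel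

theorem l32_invol_conj {g k : L32} (hg : g * g = 1) (g1 : g ≠ 1) (hk : k * k = 1) (k1 : k ≠ 1) : IsConj g k := by
  obtain ⟨a, ha⟩ := (l32_invol g hg).resolve_left g1
  obtain ⟨b, hb⟩ := (l32_invol k hk).resolve_left k1
  have ca : IsConj trans32 g := isConj_iff.2 ⟨a, by rw [ha, mul_inv_cancel_right]⟩
  have cb : IsConj trans32 k := isConj_iff.2 ⟨b, by rw [hb, mul_inv_cancel_right]⟩
  exact ca.symm.trans cb

theorem l32_dihedral : ∀ g : L32, g * g * (g * g) = 1 → g * g ≠ 1 →
    ∀ h : L32, h * h = 1 → h * (g * g) = g * g * h → h ≠ 1 → h ≠ g * g → g * h * (g * h) = 1 := by decide +kernel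

theorem l32_cent_three : ∀ g : L32, g * g * g = 1 → g ≠ 1 →
    ∀ h : L32, g * h = h * g → h = 1 ∨ h = g ∨ h = g * g := by decide +kernel

end CfsgG23Two
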