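import Cfsg.Agent.Lib.G23Two.Centre

/-!
Fixed points of the second element of order three, and the first case.
-/

set_option autoImplicit false
set_option maxRecDepth 100000

namespace CfsgG23Two

open scoped Pointwise

variable {G : Type*} [Group G] {f : ℕ → G} {z : G}

/-- The centraliser of the second element of order three inside the second factor. -/
def six : List ℕ := [0, 72, 108, 144, 216, 252]

/-- The Sylow 3-subgroup of the centraliser. -/
def pL : List ℕ := [0, 6, 9, 72, 78, 81, 108, 114, 117]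

theorem six_data : (∀ i ∈ six, i < 576 ∧ inC i = true ∧ mulM i 72 = mulM 72 i) ∧
    (∀ i ∈ six, ∀ j ∈ six, ∀ a ∈ [0, 6, 9], mulM a i = j → i = j) ∧
    (∀ a ∈ [0, 6, 9], ∀ i ∈ six, mulM (mulM a i) (mulM a i) = 0 → mulM a i = 0 ∨ mulM a i = zM) ∧
    (∀ b < 24, ∀ a ∈ [0, 6, 9], mulM (snd b) 72 = mulM a (mulM 72 (snd b)) → a = 0) ∧
    pL.Nodup ∧ (∀ p ∈ pL, p < 576 ∧ powM p 3 = 0 ∧ mulM p 6 = mulM 6 p ∧ mulM p 72 = mulM 72 p ∧
      ∀ q ∈ pL, mulM p q ∈ pL) ∧ six.Nodup ∧ (∀ a ∈ [0, 6, 9], ∀ i ∈ six, mulM i a = mulM a i) := by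
  decide +kernel

namespace Emb

variable (e : Emb f z)
include e

theorem inK_idx {g : G} (h : InK f g) : ∃ a ∈ [0, 6, 9], f a = g := by
  rcases h with rfl | rfl | rfl
  exacts [⟨0, by simp, e.one⟩, ⟨6, by simp, rfl⟩, ⟨9, by simp, rfl⟩]

theorem f72_three : f 72 ^ 3 = 1 := by
  rw [← e.pow (by norm_num), const_data.2.2.2.2.2.2.2.2.2.2.2.2.1, e.one]

theorem f6_comm_f72 : Commute (f 6) (f 72) :=
  e.rel (by norm_num) (by norm_num) (by norm_num) (by norm_num) const_data.2.2.2.2.2.2.2.2.2.2.2.2.2.1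

theorem exists_P [Finite G] : ∃ P : Subgroup G, Nat.card P = 3 ^ 2 ∧ f 6 ∈ P ∧ f 72 ∈ P ∧
    ∀ x ∈ P, ∃ p ∈ pL, f p = x := by
  obtain ⟨-, -, -, -, hnd, hp, -, -⟩ := six_data
  have hfin : {x : G | ∃ p ∈ pL, f p = x}.Finite := Set.toFinite _
  let M : Submonoid G :=
    { carrier := {x | ∃ p ∈ pL, f p = x}
      one_mem' := ⟨0, by decide, e.one⟩
      mul_mem' := by
        rintro _ _ ⟨p, hpm, rfl⟩ ⟨q, hqm, rfl⟩
        exact ⟨_, (hp p hpm).2.2.2.2 q hqm, e.mul p (hp p hpm).1 q (hp q hqm).1⟩ }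
  let P : Subgroup G :=
    { M with
      inv_mem' := by
        rintro _ ⟨p, hpm, rfl⟩
        refine ⟨_, (hp p hpm).2.2.2.2 p hpm, ?_⟩
        rw [e.mul p (hp p hpm).1 p (hp p hpm).1, eq_inv_iff_mul_eq_one, mul_assoc, ← pow_three,
          ← e.pow (hp p hpm).1, (hp p hpm).2.1, e.one] }
  refine ⟨P, ?_, ⟨6, by decide, rfl⟩, ⟨72, by decide, rfl⟩, fun x hx => hx⟩
  classical
  rw [show (3 : ℕ) ^ 2 = pL.length from rfl, ← List.toFinset_card_of_nodup hnd, ← Nat.card_eq_finsetCard]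
  exact (Nat.card_congr (Equiv.ofBijective
    (fun p => (⟨f p.1, ⟨p.1, List.mem_toFinset.1 p.2, rfl⟩⟩ : P))
    ⟨fun p q h => Subtype.ext (e.inj _ (hp _ (List.mem_toFinset.1 p.2)).1 _ (hp _ (List.mem_toFinset.1 q.2)).1
      (congrArg Subtype.val h)), fun x => by
      obtain ⟨p, hpm, hpe⟩ := x.2
      exact ⟨⟨p, List.mem_toFinset.2 hpm⟩, Subtype.ext hpe⟩⟩)).symm

end Emb

namespace Side

variable [Finite G] {R : Subgroup G} {d : ℕ} (S : Side f z R d) (e : Emb f z)
include S e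

theorem kcen {c r : G} (hc : InK f c) (hr : r ∈ R) : Commute c r := by
  obtain ⟨j, rfl⟩ := Subgroup.mem_zpowers_iff.1 (e.inK_iff.1 hc)
  exact (S.le r hr).symm.zpow_left j

theorem le_fix : Subgroup.zpowers (f 6) ≤ R ⊓ Subgroup.centralizer ({f 72} : Set G) :=
  Subgroup.zpowers_le.2 (Subgroup.mem_inf.2 ⟨S.memK _ (Or.inr (Or.inl rfl)),
    Subgroup.mem_centralizer_singleton_iff.2 e.f6_comm_f72.eq⟩)

theorem conj72 : ∀ r ∈ R, f 72 * r * (f 72)⁻¹ ∈ R :=
  S.conj _ (Or.inl (by rw [← e.f6_comm_f72.eq, mul_inv_cancel_right]))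

theorem fix_upper : Nat.card (R ⊓ Subgroup.centralizer ({f 72} : Set G) : Subgroup G) ≤ 3 * d := by
  obtain ⟨c0, c1, c2, c3, c4, c5, c6, c7, c8, c9, c10, c11, c12, c13, c14, c15, c16, c17, c18, c19, c20, c21, c22, c23⟩ :=
    const_data
  set A := R ⊓ Subgroup.centralizer ({f 72} : Set G) with hA
  set b := f 12
  have hb6 : b * f 6 * b⁻¹ = f 6 := by
    rw [e.rel (by norm_num) (by norm_num) (by norm_num) (by norm_num) c6, mul_inv_cancel_right]
  have hb72 : b * f 72 * b⁻¹ = f 60 := by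
    rw [e.rel (by norm_num) (by norm_num) (by norm_num) (by norm_num) c18, mul_inv_cancel_right]
  set A' := A.map (MulAut.conj b).toMonoidHom with hA'
  have cA' : Nat.card A' = Nat.card A := Subgroup.card_map_of_injective (MulAut.conj b).injective
  have memA' : ∀ x ∈ A', x ∈ R ∧ Commute x (f 60) := by
    rintro _ ⟨a, ha, rfl⟩
    refine ⟨S.conj b (Or.inl hb6) a (Subgroup.mem_inf.1 ha).1, ?_⟩
    have := (Commute.conj_iff b).2 (show Commute a (f 72) from
      Subgroup.mem_centralizer_singleton_iff.1 (Subgroup.mem_inf.1 ha).2)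
    rwa [hb72] at this
  have hinf : Nat.card (A ⊓ A' : Subgroup G) ≤ 3 := by
    rw [← e.card_K]
    refine Subgroup.card_le_of_le fun x hx => e.inK_iff.1 (S.fixz x (Subgroup.mem_inf.1 (Subgroup.mem_inf.1 hx).1).1 ?_)
    have h1 : Commute x (f 72) :=
      Subgroup.mem_centralizer_singleton_iff.1 (Subgroup.mem_inf.1 (Subgroup.mem_inf.1 hx).1).2
    have h2 := (memA' x (Subgroup.mem_inf.1 hx).2).2
    rw [← e.hz, ← c19, e.mul _ (mulM_lt (mulM_lt (mulM_lt (mulM_lt (by norm_num))))) _ (by norm_num),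
      e.mul _ (mulM_lt (mulM_lt (mulM_lt (by norm_num)))) _ (by norm_num),
      e.mul _ (mulM_lt (mulM_lt (by norm_num))) _ (by norm_num), e.mul _ (mulM_lt (by norm_num)) _ (by norm_num),
      e.mul _ (by norm_num) _ (by norm_num)]
    exact ((((h1.mul_right h1).mul_right h2).mul_right h1).mul_right h1).mul_right h2
  have hsub : Nat.card ↥((A : Set G) * (A' : Set G)) ≤ Nat.card R :=
    Nat.card_le_card_of_injective (fun x => (⟨x.1, by
      obtain ⟨a, ha, a', ha', he⟩ := x.2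
      exact he ▸ mul_mem (Subgroup.mem_inf.1 ha).1 (memA' a' ha').1⟩ : R))
      fun x y h => Subtype.ext (congrArg Subtype.val h :)
  have h := CfsgLib.Signalizer.card_mul_mul_card_inf A A'
  rw [cA'] at h
  have h2 : Nat.card A * Nat.card A ≤ 3 * d * (3 * d) := by
    rw [← h]
    refine (Nat.mul_le_mul hsub hinf).trans (le_of_eq ?_)
    rw [S.card]; ring
  by_contra hh
  have := Nat.mul_lt_mul_of_lt_of_lt (not_le.1 hh) (not_le.1 hh)
  omega

theorem fix_lower : (3 : ℕ) ^ 3 * (d * d) ≤ Nat.card (R ⊓ Subgroup.centralizer ({f 72} : Set G) : Subgroup G) ^ 3 := by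
  set A := R ⊓ Subgroup.centralizer ({f 72} : Set G) with hA
  set K := (Subgroup.zpowers (f 6)).subgroupOf R with hK
  haveI hKn : K.Normal := ⟨fun k hk g => by
    rw [Subgroup.mem_subgroupOf] at hk ⊢
    show (g : G) * k * (g : G)⁻¹ ∈ _
    rw [← (S.kcen e (e.inK_iff.2 hk) g.2).eq, mul_inv_cancel_right]
    exact hk⟩
  letI : CommGroup (R ⧸ K) :=
    { (inferInstance : Group (R ⧸ K)) with
      mul_comm := fun a b => by
        obtain ⟨r, rfl⟩ := QuotientGroup.mk'_surjective K a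
        obtain ⟨s, rfl⟩ := QuotientGroup.mk'_surjective K b
        rw [← map_mul, ← map_mul, QuotientGroup.mk'_apply, QuotientGroup.mk'_apply, QuotientGroup.eq]
        show ((r * s : R)⁻¹ * (s * r) : R).1 ∈ Subgroup.zpowers (f 6)
        have := e.inK_iff.1 (S.comm _ (inv_mem s.2) _ (inv_mem r.2))
        rw [inv_inv, inv_inv] at this
        rwa [show ((r * s : R)⁻¹ * (s * r) : R).1 = (s : G)⁻¹ * (r : G)⁻¹ * s * r by push_cast; group] }
  let c : R →* R := MonoidHom.mk' (fun r => ⟨f 72 * r * (f 72)⁻¹, S.conj72 e r r.2⟩)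
    fun r s => Subtype.ext (by push_cast; group)
  have hcK : K ≤ K.comap c := fun k hk => by
    show f 72 * (k : G) * (f 72)⁻¹ ∈ Subgroup.zpowers (f 6)
    have hk2 : (k : G) * f 72 = f 72 * k :=
      Subgroup.mem_centralizer_singleton_iff.1 (Subgroup.mem_inf.1 (S.le_fix e hk)).2
    rw [← hk2, mul_inv_cancel_right]
    exact hk
  let σ := QuotientGroup.map K K c hcK
  have hσ : ∀ r : R, σ (r : R ⧸ K) = (c r : R ⧸ K) := fun r => rfl
  have hcard : Nat.card (R ⧸ K) = d * d := by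
    have h := Subgroup.card_mul_index K
    rw [Nat.card_congr (Subgroup.subgroupOfEquivOfLe fun x hx => S.memK x (e.inK_iff.2 hx)).toEquiv, e.card_K,
      S.card, Subgroup.index_eq_card] at h
    omega
  have h := card_le_cube (fun v => by
    obtain ⟨r, rfl⟩ := QuotientGroup.mk'_surjective K v
    rw [← map_pow, show r ^ 3 = 1 from Subtype.ext (by push_cast; exact S.cube r r.2), map_one]) σ (fun v => by
    obtain ⟨r, rfl⟩ := QuotientGroup.mk'_surjective K v
    show σ (σ (σ (r : R ⧸ K))) = (r : R ⧸ K)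
    rw [hσ, hσ, hσ]
    refine congrArg _ (Subtype.ext ?_)
    show f 72 * (f 72 * (f 72 * r * (f 72)⁻¹) * (f 72)⁻¹) * (f 72)⁻¹ = r
    rw [show f 72 * (f 72 * (f 72 * (r : G) * (f 72)⁻¹) * (f 72)⁻¹) * (f 72)⁻¹ =
      (f 72 * (f 72 * f 72)) * r * (f 72 * (f 72 * f 72))⁻¹ by group, ← pow_three, e.f72_three]
    group)
  have hfix : 3 * Nat.card {v : R ⧸ K // σ v = v} ≤ Nat.card A := by
    rw [← e.card_K, ← Nat.card_prod]
    have key : ∀ v : {v : R ⧸ K // σ v = v}, ∃ a ∈ A, ∃ ha : a ∈ R, ((⟨a, ha⟩ : R) : R ⧸ K) = v.1 := by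
      rintro ⟨v, hv⟩
      obtain ⟨r, rfl⟩ := QuotientGroup.mk_surjective v
      rw [hσ, QuotientGroup.eq] at hv
      obtain ⟨c', i, hri, hc', hi, hiz⟩ := S.split r r.2
      have hm : (c r : G)⁻¹ * r ∈ Subgroup.zpowers (f 6) := hv
      have hc72 : f 72 * c' * (f 72)⁻¹ = c' := by
        have := (Subgroup.mem_inf.1 (S.le_fix e (e.inK_iff.1 hc'))).2
        rw [← Subgroup.mem_centralizer_singleton_iff.1 this, mul_inv_cancel_right]
      have hk : (f 72 * i * (f 72)⁻¹)⁻¹ * i ∈ Subgroup.zpowers (f 6) := by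
        rwa [show ((c r : R) : G) = f 72 * r * (f 72)⁻¹ from rfl, hri,
          show f 72 * (c' * i) * (f 72)⁻¹ = (f 72 * c' * (f 72)⁻¹) * (f 72 * i * (f 72)⁻¹) by group, hc72,
          mul_inv_rev, mul_assoc, inv_mul_cancel_left] at hm
      set k := (f 72 * i * (f 72)⁻¹)⁻¹ * i with hkd
      have hi2 : f 72 * i * (f 72)⁻¹ = i * k⁻¹ := by rw [hkd]; group
      have hzk : z * k * z⁻¹ = k := by
        rcases e.inK_iff.2 hk with h | h | h <;> rw [h]
        · group
        all_goals rw [← (e.comm (by norm_num)).eq, mul_inv_cancel_right]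
      have hz72 : z * f 72 = f 72 * z := (e.comm (by norm_num)).eq.symm
      have h1 := congrArg (fun w => z * w * z⁻¹) hi2
      rw [show z * (f 72 * i * (f 72)⁻¹) * z⁻¹ = (z * f 72) * i * (z * f 72)⁻¹ by group, hz72,
        show f 72 * z * i * (f 72 * z)⁻¹ = f 72 * (z * i * z⁻¹) * (f 72)⁻¹ by group, hiz, ← conj_inv, hi2,
        show z * (i * k⁻¹) * z⁻¹ = (z * i * z⁻¹) * (z * k * z⁻¹)⁻¹ by group, hiz, hzk, mul_inv_rev, inv_inv,
        (S.kcen e (e.inK_iff.2 hk) (inv_mem hi)).eq] at h1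
      have hk1 : k = 1 := eq_one_of_sq (odd_orderOf S.odd (S.memK k (e.inK_iff.2 hk)))
        (eq_inv_iff_mul_eq_one.1 (mul_left_cancel h1))
      rw [hk1, inv_one, mul_one] at hi2
      refine ⟨i, Subgroup.mem_inf.2 ⟨hi, Subgroup.mem_centralizer_singleton_iff.2
        (mul_inv_eq_iff_eq_mul.1 hi2).symm⟩, hi, ?_⟩
      rw [QuotientGroup.eq]
      show (i⁻¹ * (r : G)) ∈ Subgroup.zpowers (f 6)
      rw [hri, (S.kcen e hc' hi).eq, inv_mul_cancel_left]
      exact e.inK_iff.1 hc'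
    choose g hg hgR hgv using key
    refine Nat.card_le_card_of_injective (fun p : Subgroup.zpowers (f 6) × {v : R ⧸ K // σ v = v} =>
      (⟨p.1.1 * g p.2, mul_mem (S.le_fix e p.1.2) (hg p.2)⟩ : A)) ?_
    rintro ⟨⟨k, hk⟩, v⟩ ⟨⟨k', hk'⟩, v'⟩ h
    have h' : k * g v = k' * g v' := congrArg Subtype.val h
    have hv : v = v' := by
      refine Subtype.ext ?_
      rw [← hgv v, ← hgv v', QuotientGroup.eq]
      show (g v)⁻¹ * g v' ∈ Subgroup.zpowers (f 6)
      have hgg : g v' = (k'⁻¹ * k) * g v := by rw [mul_assoc, h', inv_mul_cancel_left]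
      rw [hgg, ← mul_assoc, ← ((S.kcen e (e.inK_iff.2 (mul_mem (inv_mem hk') hk)) (hgR v)).inv_right).eq,
        inv_mul_cancel_right]
      exact mul_mem (inv_mem hk') hk
    subst hv
    simpa using h'
  rw [hcard] at h
  refine (Nat.mul_le_mul_left _ h).trans ?_
  rw [← mul_pow]
  exact Nat.pow_le_pow_left hfix 3

theorem card_fix : Nat.card (R ⊓ Subgroup.centralizer ({f 72} : Set G) : Subgroup G) = 3 * d := by
  have hu := S.fix_upper e
  have hl := S.fix_lower e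
  have hd : Nat.card (R ⊓ Subgroup.centralizer ({f 72} : Set G) : Subgroup G) ∣ 3 * (d * d) :=
    S.card ▸ Subgroup.card_dvd_of_le inf_le_left
  generalize Nat.card (R ⊓ Subgroup.centralizer ({f 72} : Set G) : Subgroup G) = a at hu hl hd ⊢
  rcases S.dval with rfl | rfl | rfl <;> interval_cases a <;> first | rfl | (exfalso; omega) | (exfalso; norm_num at hl) | (exfalso; norm_num at hd)

theorem decompP {g : G} (h6 : Commute g (f 6)) (h72 : Commute g (f 72)) :
    ∃ r ∈ R, Commute r (f 72) ∧ ∃ i ∈ six, g = r * f i := by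
  obtain ⟨-, -, -, h4, -⟩ := six_data
  obtain ⟨r, hr, b, hb, rfl⟩ := S.decomp g h6
  obtain ⟨hsl, hsC⟩ := snd_data.1 b hb
  set h := f (snd b) with hh
  -- the commutator of h and x2 lies in R and commutes with z
  have hc6 : h * f 6 * h⁻¹ = f 6 := by
    rw [e.rel hsl (by norm_num) (by norm_num) hsl (beq_iff_eq.1 hsC), mul_inv_cancel_right]
  have hcomm : h * f 72 * h⁻¹ * (f 72)⁻¹ = (r⁻¹ * (f 72 * r * (f 72)⁻¹)) := by
    calc _ = r⁻¹ * ((r * h) * f 72) * (r * h)⁻¹ * r * (f 72)⁻¹ := by group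
      _ = _ := by rw [h72.eq]; group
  have hR : h * f 72 * h⁻¹ * (f 72)⁻¹ ∈ R := hcomm ▸ mul_mem (inv_mem hr) (S.conj72 e r hr)
  have hz : Commute (h * f 72 * h⁻¹ * (f 72)⁻¹) z :=
    (((e.comm hsl).mul_left (e.comm (by norm_num))).mul_left (e.comm hsl).inv_left).mul_left
      (e.comm (by norm_num)).inv_left
  obtain ⟨a, ha, hae⟩ := e.inK_idx (S.fixz _ hR hz)
  have ha' : a < 576 := by simp only [List.mem_cons, List.not_mem_nil, or_false] at ha; omega
  have ha0 : a = 0 := h4 b hb a ha (e.inj _ (mulM_lt hsl) _ (mulM_lt ha') (by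
    rw [e.mul _ hsl _ (by norm_num), e.mul _ ha' _ (mulM_lt (by norm_num)), e.mul _ (by norm_num) _ hsl, hae]
    rw [← hh]; group))
  rw [ha0, e.one] at hae
  have hc : Commute h (f 72) := mul_inv_eq_iff_eq_mul.1 (mul_inv_eq_one.1 hae.symm)
  have hr' : Commute r (f 72) := by
    have := h72.mul_left hc.inv_left
    rwa [mul_inv_cancel_right] at this
  exact ⟨r, hr, hr', _, snd_data.2.2 b hb (e.inj _ (mulM_lt hsl) _ (mulM_lt (by norm_num)) (by
    rw [e.mul _ hsl _ (by norm_num), e.mul _ (by norm_num) _ hsl]; exact hc.eq)), rfl⟩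

theorem card_CP : Nat.card (Subgroup.centralizer ({f 6} : Set G) ⊓ Subgroup.centralizer ({f 72} : Set G) :
    Subgroup G) = 18 * d := by
  classical
  obtain ⟨hsix, hinj, -, -, -, -, hnd, -⟩ := six_data
  rw [show 18 * d = 3 * d * six.toFinset.card by rw [List.toFinset_card_of_nodup hnd]; simp [six]; ring,
    ← S.card_fix e, ← Nat.card_eq_finsetCard, ← Nat.card_prod]
  refine (Nat.card_congr (Equiv.ofBijective
    (fun p : (R ⊓ Subgroup.centralizer ({f 72} : Set G) : Subgroup G) × six.toFinset =>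
      (⟨p.1.1 * f p.2.1, Subgroup.mem_inf.2 ⟨Subgroup.mem_centralizer_singleton_iff.2 ?_,
        Subgroup.mem_centralizer_singleton_iff.2 ?_⟩⟩ :
        (Subgroup.centralizer ({f 6} : Set G) ⊓ Subgroup.centralizer ({f 72} : Set G) : Subgroup G))) ⟨?_, ?_⟩)).symm
  · obtain ⟨hi, hiC, -⟩ := hsix _ (List.mem_toFinset.1 p.2.2)
    exact ((S.le _ (Subgroup.mem_inf.1 p.1.2).1).mul_left
      (e.rel hi (by norm_num) (by norm_num) hi (beq_iff_eq.1 hiC))).eq
  · obtain ⟨hi, -, hi72⟩ := hsix _ (List.mem_toFinset.1 p.2.2)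
    exact ((show Commute p.1.1 (f 72) from Subgroup.mem_centralizer_singleton_iff.1
      (Subgroup.mem_inf.1 p.1.2).2).mul_left (e.rel hi (by norm_num) (by norm_num) hi hi72)).eq
  · rintro ⟨a, i⟩ ⟨a', i'⟩ h
    have h' : a.1 * f i.1 = a'.1 * f i'.1 := congrArg Subtype.val h
    obtain ⟨hi, -, -⟩ := hsix _ (List.mem_toFinset.1 i.2)
    obtain ⟨hi', -, -⟩ := hsix _ (List.mem_toFinset.1 i'.2)
    have hd : a'.1⁻¹ * a.1 ∈ R := mul_mem (inv_mem (Subgroup.mem_inf.1 a'.2).1) (Subgroup.mem_inf.1 a.2).1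
    have hde : a'.1⁻¹ * a.1 = f i'.1 * (f i.1)⁻¹ := by
      rw [inv_mul_eq_iff_eq_mul, ← mul_assoc, eq_mul_inv_iff_mul_eq, h']
    obtain ⟨k, hk, hke⟩ := e.inK_idx (S.fixz _ hd (hde ▸ (e.comm hi').mul_left (e.comm hi).inv_left))
    have hk' : k < 576 := by simp only [List.mem_cons, List.not_mem_nil, or_false] at hk; omega
    have hii : i = i' := Subtype.ext (hinj _ (List.mem_toFinset.1 i.2) _ (List.mem_toFinset.1 i'.2) k hk
      (e.inj _ (mulM_lt hk') _ hi' (by rw [e.mul _ hk' _ hi, hke, hde, inv_mul_cancel_right])))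
    subst hii
    exact Prod.ext (Subtype.ext (mul_right_cancel h')) rfl
  · intro g
    obtain ⟨r, hr, hr', i, hi, hg⟩ := S.decompP e
      (Subgroup.mem_centralizer_singleton_iff.1 (Subgroup.mem_inf.1 g.2).1)
      (Subgroup.mem_centralizer_singleton_iff.1 (Subgroup.mem_inf.1 g.2).2)
    exact ⟨⟨⟨r, Subgroup.mem_inf.2 ⟨hr, Subgroup.mem_centralizer_singleton_iff.2 hr'.eq⟩⟩,
      ⟨i, List.mem_toFinset.2 hi⟩⟩, Subtype.ext hg.symm⟩

theorem d_eq {R' : Subgroup G} {d' : ℕ} (S' : Side (fun x => f (swapI x)) z R' d') : d = d' := by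
  have h' := S'.card_CP e.swap
  simp only [swapI_data.2.2.2.1, swapI_data.2.2.2.2.1] at h'
  rw [inf_comm, S.card_CP e] at h'
  omega

theorem ne_one (hG : Nat.card G = 4245696) : d ≠ 1 := by
  intro hd
  subst hd
  haveI : Fact (Nat.Prime 3) := ⟨Nat.prime_three⟩
  obtain ⟨-, -, hinv, -, -, -, -, -⟩ := six_data
  obtain ⟨P, hP, h6, h72, hPm⟩ := e.exists_P
  have hR : ∀ r ∈ R, InK f r := by
    intro r hr
    refine e.inK_iff.2 ?_
    have he : Subgroup.zpowers (f 6) = R :=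
      Subgroup.eq_of_le_of_card_ge (fun x hx => S.memK x (e.inK_iff.2 hx)) (by rw [S.card, e.card_K])
    rw [he]; exact hr
  have hle : Subgroup.normalizer (P : Set G) ≤ Subgroup.centralizer ({z} : Set G) := by
    intro g hg
    have hP' : ∀ x ∈ P, Commute (g * z * g⁻¹) x := by
      intro x hx
      obtain ⟨p, hp, hpe⟩ := hPm _ ((Subgroup.mem_normalizer_iff'.1 hg (g⁻¹ * x)).2 (by
        rwa [mul_inv_cancel_left]))
      obtain ⟨hp', -⟩ := six_data.2.2.2.2.2.1 p hp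
      have := (Commute.conj_iff g).2 (e.comm hp').symm
      rwa [hpe, show g * (g⁻¹ * x * g) * g⁻¹ = x by group] at this
    obtain ⟨r, hr, -, i, hi, hge⟩ := S.decompP e (hP' _ h6) (hP' _ h72)
    obtain ⟨a, ha, rfl⟩ := e.inK_idx (hR r hr)
    have ha' : a < 576 := by simp only [List.mem_cons, List.not_mem_nil, or_false] at ha; omega
    have hi' := (six_data.1 i hi).1
    rw [← e.mul a ha' i hi'] at hge
    have hsq : g * z * g⁻¹ * (g * z * g⁻¹) = 1 := by
      rw [show g * z * g⁻¹ * (g * z * g⁻¹) = g * (z * z) * g⁻¹ by group, e.z_sq, mul_one, mul_inv_cancel]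
    rw [hge, ← e.mul _ (mulM_lt ha') _ (mulM_lt ha')] at hsq
    rcases hinv a ha i hi (e.inj _ (mulM_lt (mulM_lt ha')) 0 (by norm_num) (by rw [hsq, e.one])) with h | h
    · rw [h, e.one] at hge; exact absurd (conj_eq_one_iff.1 hge) e.z_ne
    · rw [h, e.hz] at hge
      exact Subgroup.mem_centralizer_singleton_iff.2 (mul_inv_eq_iff_eq_mul.1 hge)
  have h3 := (Sylow.prime_pow_dvd_card_normalizer (p := 3) (n := 2) (by rw [hG]; norm_num) hP).trans
    (Subgroup.card_dvd_of_le hle)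
  rw [e.card_cent] at h3
  norm_num at h3

end Side

end CfsgG23Two
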