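import Cfsg.Agent.Lib.G23Two.Setup

/-!
The 2-local subgroup and the outer involution.
-/

set_option autoImplicit false

namespace CfsgG23Two

variable {G : Type*} [Group G] [Finite G]

/-- The elements with coordinates. -/
def Has (g1 g2 : ℕ → G) (x : G) : Prop := ∃ a < 24, ∃ b < 24, g1 a * g2 b = x

/-- The elements with quaternion coordinates. -/
def HasQ (g1 g2 : ℕ → G) (x : G) : Prop := ∃ a < 24, ∃ b < 24, inQ a = true ∧ inQ b = true ∧ g1 a * g2 b = x

/-- The 2-local subgroup. -/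
structure MData (z : G) (M E : Subgroup G) (π : ↥M →* L32) : Prop where
  surj : Function.Surjective π
  ker : ∀ m : M, π m = 1 ↔ (m : G) ∈ E
  EM : E ≤ M
  cardE : Nat.card E = 8
  sqE : ∀ x ∈ E, x * x = 1
  commE : ∀ x ∈ E, ∀ y ∈ E, Commute x y
  zE : z ∈ E

/-- The data of the centraliser. -/
structure HData (H H12 : Subgroup G) (g1 g2 : ℕ → G) (z : G) : Prop where
  pair : Pair H g1 g2 z
  mem : ∀ x, x ∈ H12 ↔ Has g1 g2 x
  le : H12 ≤ H
  card : Nat.card H = 576
  card12 : Nat.card H12 = 288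
  norm1 : ∀ h ∈ H, ∀ a < 24, ∃ a' < 24, h * g1 a * h⁻¹ = g1 a'
  norm2 : ∀ h ∈ H, ∀ b < 24, ∃ b' < 24, h * g2 b * h⁻¹ = g2 b'

namespace HData

variable {H H12 : Subgroup G} {g1 g2 : ℕ → G} {z : G} (D : HData H H12 g1 g2 z)
include D

theorem g1_zero : g1 0 = 1 := by
  have := D.pair.m1 0 (by norm_num) 0 (by norm_num)
  rw [(sl_neg 0 (by norm_num)).2.2.2.2.2.1] at this
  exact left_eq_mul.1 this

theorem g2_zero : g2 0 = 1 := by
  have := D.pair.m2 0 (by norm_num) 0 (by norm_num)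
  rw [(sl_neg 0 (by norm_num)).2.2.2.2.2.1] at this
  exact left_eq_mul.1 this

theorem g1_inv {a : ℕ} (ha : a < 24) : g1 (slInv a) = (g1 a)⁻¹ := by
  rw [eq_inv_iff_mul_eq_one, ← D.pair.m1 _ (sl_neg a ha).2.2.1 _ ha, (sl_neg a ha).2.2.2.2.1, D.g1_zero]

theorem g2_inv {a : ℕ} (ha : a < 24) : g2 (slInv a) = (g2 a)⁻¹ := by
  rw [eq_inv_iff_mul_eq_one, ← D.pair.m2 _ (sl_neg a ha).2.2.1 _ ha, (sl_neg a ha).2.2.2.2.1, D.g2_zero]

theorem z_comm {x : G} (hx : x ∈ H) : Commute x z := by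
  rw [D.pair.hH] at hx
  exact Subgroup.mem_centralizer_singleton_iff.1 hx

theorem z_sq : z * z = 1 := by
  rw [← D.pair.z1, ← D.pair.m1 12 (by norm_num) 12 (by norm_num), sl_q_basic.2.2.2.1, D.g1_zero]

theorem z_ne : z ≠ 1 := fun h => by
  have := D.pair.i1 12 (by norm_num) 0 (by norm_num) (by rw [D.pair.z1, h, D.g1_zero])
  omega

theorem has_mul {a b a' b' : ℕ} (ha : a < 24) (hb : b < 24) (ha' : a' < 24) (hb' : b' < 24) :
    g1 a * g2 b * (g1 a' * g2 b') = g1 (slMul a a') * g2 (slMul b b') := by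
  rw [D.pair.m1 a ha a' ha', D.pair.m2 b hb b' hb', mul_assoc, ← mul_assoc (g2 b),
    ← (D.pair.comm a' ha' b hb).eq]
  simp [mul_assoc]

theorem has_conj {a b a' b' : ℕ} (ha : a < 24) (hb : b < 24) (ha' : a' < 24) (hb' : b' < 24) :
    g1 a * g2 b * (g1 a' * g2 b') * (g1 a * g2 b)⁻¹ = g1 (slConj a a') * g2 (slConj b b') := by
  have hi : (g1 a * g2 b)⁻¹ = g1 (slInv a) * g2 (slInv b) := by
    rw [mul_inv_rev, D.g1_inv ha, D.g2_inv hb]
    exact ((D.pair.comm a ha b hb).symm.inv_inv).eq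
  rw [hi, D.has_mul ha hb ha' hb', D.has_mul (sl_lt a ha a' ha') (sl_lt b hb b' hb') (sl_neg a ha).2.2.1
    (sl_neg b hb).2.2.1]
  rfl

theorem has_eq {a b a' b' : ℕ} (ha : a < 24) (hb : b < 24) (ha' : a' < 24) (hb' : b' < 24)
    (h : g1 a * g2 b = g1 a' * g2 b') : slMul (slInv a') a = 0 ∨ slMul (slInv a') a = 12 := by
  refine D.pair.meet _ (sl_lt _ (sl_neg a' ha').2.2.1 a ha) (slMul b' (slInv b))
    (sl_lt b' hb' _ (sl_neg b hb).2.2.1) ?_
  rw [D.pair.m1 _ (sl_neg a' ha').2.2.1 _ ha, D.pair.m2 _ hb' _ (sl_neg b hb).2.2.1, D.g1_inv ha', D.g2_inv hb,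
    inv_mul_eq_iff_eq_mul, ← mul_assoc, eq_mul_inv_iff_mul_eq, h]

theorem sq_one {a b : ℕ} (ha : a < 24) (hb : b < 24) (h : g1 a * g2 b * (g1 a * g2 b) = 1) :
    inQ a = true ∧ inQ b = true := by
  rw [D.has_mul ha hb ha hb] at h
  have h2 : g1 (slMul a a) = g2 (slInv (slMul b b)) := by
    rw [D.g2_inv (sl_lt b hb b hb)]; exact eq_inv_of_mul_eq_one_left h
  have hi := (sl_neg _ (sl_lt b hb b hb)).2.2.1
  have hA := D.pair.meet _ (sl_lt a ha a ha) _ hi h2
  refine ⟨sl_square a ha hA, sl_square b hb ?_⟩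
  rcases hA with e | e <;> rw [e] at h
  · rw [D.g1_zero, one_mul] at h
    exact Or.inl (D.pair.i2 _ (sl_lt b hb b hb) 0 (by norm_num) (by rw [h, D.g2_zero]))
  · refine Or.inr (D.pair.i2 _ (sl_lt b hb b hb) 12 (by norm_num) ?_)
    rw [D.pair.z2, eq_inv_of_mul_eq_one_right h, D.pair.z1, inv_eq_of_mul_eq_one_right D.z_sq]

theorem hasQ_of_two {x : G} (hx : x ∈ H12) (h8 : x ^ 8 = 1) : HasQ g1 g2 x := by
  obtain ⟨a, ha, b, hb, rfl⟩ := (D.mem x).1 hx
  set a2 := slMul a a
  set b2 := slMul b b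
  set a4 := slMul a2 a2
  set b4 := slMul b2 b2
  have la2 := sl_lt a ha a ha
  have lb2 := sl_lt b hb b hb
  have la4 := sl_lt _ la2 _ la2
  have lb4 := sl_lt _ lb2 _ lb2
  have e8 : (g1 a * g2 b) ^ 8 = g1 (slMul a4 a4) * g2 (slMul b4 b4) := by
    rw [show (g1 a * g2 b) ^ 8 = g1 a * g2 b * (g1 a * g2 b) * (g1 a * g2 b * (g1 a * g2 b)) *
      (g1 a * g2 b * (g1 a * g2 b) * (g1 a * g2 b * (g1 a * g2 b))) by simp [pow_succ, mul_assoc]]
    rw [D.has_mul ha hb ha hb, D.has_mul la2 lb2 la2 lb2, D.has_mul la4 lb4 la4 lb4]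
  rw [e8] at h8
  have l8 := sl_lt _ la4 _ la4
  have m8 := sl_lt _ lb4 _ lb4
  have hA := D.pair.meet _ l8 _ (sl_neg _ m8).2.2.1 (by rw [D.g2_inv m8]; exact eq_inv_of_mul_eq_one_left h8)
  refine ⟨a, ha, b, hb, sl_eight a ha hA, sl_eight b hb ?_, rfl⟩
  rcases hA with e | e <;> rw [e] at h8
  · rw [D.g1_zero, one_mul] at h8
    exact Or.inl (D.pair.i2 _ m8 0 (by norm_num) (by rw [h8, D.g2_zero]))
  · refine Or.inr (D.pair.i2 _ m8 12 (by norm_num) ?_)
    rw [D.pair.z2, eq_inv_of_mul_eq_one_right h8, D.pair.z1, inv_eq_of_mul_eq_one_right D.z_sq]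

theorem pow_eight {a b : ℕ} {x : G} (ha : a < 24) (hb : b < 24) (h : g1 a * g2 b = x) (h64 : x ^ 64 = 1) :
    x ^ 8 = 1 := by
  subst h
  have h24 : ∀ c < 24, g1 c ^ 24 = 1 ∧ g2 c ^ 24 = 1 := fun c hc => by
    have chk : ((List.range 24).all fun c =>
        let c3 := slMul (slMul c c) c
        let c6 := slMul c3 c3
        let c12 := slMul c6 c6
        slMul c12 c12 == 0) = true := by decide +kernel
    simp only [List.all_eq_true, List.mem_range, beq_iff_eq] at chk
    have l3 := sl_lt _ (sl_lt c hc c hc) c hc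
    have l6 := sl_lt _ l3 _ l3
    have l12 := sl_lt _ l6 _ l6
    constructor
    · rw [← D.g1_zero, ← chk c hc, D.pair.m1 _ l12 _ l12, D.pair.m1 _ l6 _ l6, D.pair.m1 _ l3 _ l3,
        D.pair.m1 _ (sl_lt c hc c hc) c hc, D.pair.m1 c hc c hc]
      simp [pow_succ, mul_assoc]
    · rw [← D.g2_zero, ← chk c hc, D.pair.m2 _ l12 _ l12, D.pair.m2 _ l6 _ l6, D.pair.m2 _ l3 _ l3,
        D.pair.m2 _ (sl_lt c hc c hc) c hc, D.pair.m2 c hc c hc]
      simp [pow_succ, mul_assoc]
  have h1 : (g1 a * g2 b) ^ 24 = 1 := by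
    rw [(D.pair.comm a ha b hb).mul_pow, (h24 a ha).1, (h24 b hb).2, one_mul]
  exact pow_eq_one_iff_modEq.2 ((Nat.modEq_zero_iff_dvd).2 (by
    have e1 := orderOf_dvd_of_pow_eq_one h1
    have e2 := orderOf_dvd_of_pow_eq_one h64
    simpa using Nat.dvd_gcd e2 e1))

/-- The normal form with first coordinate less than 12. -/
theorem normalForm {x : G} (hx : Has g1 g2 x) : ∃ a < 12, ∃ b < 24, g1 a * g2 b = x := by
  obtain ⟨a, ha, b, hb, rfl⟩ := hx
  by_cases h : a < 12
  · exact ⟨a, h, b, hb, rfl⟩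
  · refine ⟨a - 12, by omega, (b + 12) % 24, Nat.mod_lt _ (by norm_num), ?_⟩
    rw [← (sl_neg b hb).1, D.pair.m2 12 (by norm_num) b hb, D.pair.z2, ← mul_assoc, ← D.pair.z1,
      ← D.pair.m1 (a - 12) (by omega) 12 (by norm_num), (sl_neg (a - 12) (by omega)).2.1,
      show (a - 12 + 12) % 24 = a by omega]

theorem hasQ_normalForm {x : G} (hx : HasQ g1 g2 x) :
    ∃ a < 12, ∃ b < 24, inQ a = true ∧ inQ b = true ∧ g1 a * g2 b = x := by
  obtain ⟨a, ha, b, hb, qa, qb, rfl⟩ := hx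
  by_cases h : a < 12
  · exact ⟨a, h, b, hb, qa, qb, rfl⟩
  · have e1 := sl_q_mul 12 (by norm_num) a ha sl_q_basic.2.1 qa
    have e2 := sl_q_mul 12 (by norm_num) b hb sl_q_basic.2.1 qb
    rw [(sl_neg a ha).1, show (a + 12) % 24 = a - 12 by omega] at e1
    rw [(sl_neg b hb).1] at e2
    refine ⟨a - 12, by omega, (b + 12) % 24, Nat.mod_lt _ (by norm_num), e1, e2, ?_⟩
    rw [← (sl_neg b hb).1, D.pair.m2 12 (by norm_num) b hb, D.pair.z2, ← mul_assoc, ← D.pair.z1,
      ← D.pair.m1 (a - 12) (by omega) 12 (by norm_num), (sl_neg (a - 12) (by omega)).2.1,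
      show (a - 12 + 12) % 24 = a by omega]

theorem normalForm_inj {a b a' b' : ℕ} (ha : a < 12) (hb : b < 24) (ha' : a' < 12) (hb' : b' < 24)
    (h : g1 a * g2 b = g1 a' * g2 b') : a = a' ∧ b = b' := by
  have key : a = a' := by
    rcases D.has_eq (by omega) hb (by omega) hb' h with e | e
    · have h' := congrArg g1 e
      rw [D.pair.m1 _ (sl_neg a' (by omega)).2.2.1 a (by omega), D.g1_inv (by omega : a' < 24), D.g1_zero,
        inv_mul_eq_one] at h'
      exact (D.pair.i1 _ (by omega) _ (by omega) h').symm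
    · exfalso
      have h' := congrArg g1 e
      rw [D.pair.m1 _ (sl_neg a' (by omega)).2.2.1 a (by omega), D.g1_inv (by omega : a' < 24),
        inv_mul_eq_iff_eq_mul, ← D.pair.m1 a' (by omega) 12 (by norm_num), (sl_neg a' (by omega)).2.1] at h'
      have := D.pair.i1 _ (by omega) _ (Nat.mod_lt _ (by norm_num)) h'
      omega
  subst key
  exact ⟨rfl, D.pair.i2 _ hb _ hb' (mul_left_cancel h)⟩

theorem outer_sq {h : G} (hh : h ∈ H) : h * h ∈ H12 := by
  have h1 : (H12.subgroupOf H).index = 2 := by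
    have := Subgroup.card_mul_index (H12.subgroupOf H)
    rw [Nat.card_congr (Subgroup.subgroupOfEquivOfLe D.le).toEquiv, D.card, D.card12] at this
    omega
  exact Subgroup.mem_subgroupOf.1 (Subgroup.mul_self_mem_of_index_two h1 ⟨h, hh⟩)

theorem outer_mul {h k : G} (hh : h ∈ H) (hk : k ∈ H) (nh : h ∉ H12) (nk : k ∉ H12) : h * k ∈ H12 := by
  have h1 : (H12.subgroupOf H).index = 2 := by
    have := Subgroup.card_mul_index (H12.subgroupOf H)
    rw [Nat.card_congr (Subgroup.subgroupOfEquivOfLe D.le).toEquiv, D.card, D.card12] at this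
    omega
  have := (Subgroup.mul_mem_iff_of_index_two h1 (a := ⟨h, hh⟩) (b := ⟨k, hk⟩)).2
    (by simp [Subgroup.mem_subgroupOf, nh, nk])
  exact Subgroup.mem_subgroupOf.1 this

theorem fusion_q {x y : G} (hx : HasQ g1 g2 x) (hy : HasQ g1 g2 y) (x1 : x ≠ 1) (xz : x ≠ z) (xx : x * x = 1)
    (y1 : y ≠ 1) (yz : y ≠ z) (yy : y * y = 1) : IsConj x y := by
  have key : ∀ {a b : ℕ}, a < 24 → b < 24 → inQ a = true → inQ b = true → g1 a * g2 b ≠ 1 → g1 a * g2 b ≠ z →
      g1 a * g2 b * (g1 a * g2 b) = 1 → slMul a a = 12 ∧ slMul b b = 12 := by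
    intro a b ha hb qa qb n1 n2 hsq
    rw [D.has_mul ha hb ha hb] at hsq
    have hz' := inv_eq_of_mul_eq_one_right D.z_sq
    have bad : slMul a a = 0 → False := fun ea => by
      rw [ea, D.g1_zero, one_mul] at hsq
      have eb : slMul b b = 0 := D.pair.i2 _ (sl_lt b hb b hb) 0 (by norm_num) (by rw [hsq, D.g2_zero])
      rcases sl_sq_one a ha ea with rfl | rfl <;> rcases sl_sq_one b hb eb with rfl | rfl
      · exact n1 (by rw [D.g1_zero, D.g2_zero, one_mul])
      · exact n2 (by rw [D.g1_zero, D.pair.z2, one_mul])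
      · exact n2 (by rw [D.pair.z1, D.g2_zero, mul_one])
      · exact n1 (by rw [D.pair.z1, D.pair.z2, D.z_sq])
    rcases sl_q_square a ha qa with ea | ea
    · exact (bad ea).elim
    · rcases sl_q_square b hb qb with eb | eb
      · rw [eb, ea, D.g2_zero, mul_one, D.pair.z1] at hsq
        exact absurd hsq D.z_ne
      · exact ⟨ea, eb⟩
  obtain ⟨a, ha, b, hb, qa, qb, rfl⟩ := hx
  obtain ⟨a', ha', b', hb', qa', qb', rfl⟩ := hy
  obtain ⟨sa, sb⟩ := key ha hb qa qb x1 xz xx
  obtain ⟨sa', sb'⟩ := key ha' hb' qa' qb' y1 yz yy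
  obtain ⟨c, hc, hce⟩ := List.any_eq_true.1 (sl_q_trans a ha a' ha' qa qa' sa sa')
  obtain ⟨d, hd, hde⟩ := List.any_eq_true.1 (sl_q_trans b hb b' hb' qb qb' sb sb')
  refine isConj_iff.2 ⟨g1 c * g2 d, ?_⟩
  rw [D.has_conj (List.mem_range.1 hc) (List.mem_range.1 hd) ha hb, beq_iff_eq.1 hce, beq_iff_eq.1 hde]

/-- An elementary abelian subgroup normalised by an element with one quaternion coordinate. -/
theorem no_mixed {u v a b : ℕ} (hu : u < 24) (hv : v < 24) (ha : a < 24) (hb : b < 24) (qu : inQ u = true)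
    (qv : inQ v = true) (nu : u ≠ 0 ∧ u ≠ 12) (na : inQ a = false) (qb : inQ b = true)
    (hcomm : g1 u * g2 v * (g1 (slConj a u) * g2 (slConj b v)) *
      (g1 u * g2 v * (g1 (slConj a u) * g2 (slConj b v))) = 1) : False := by
  have la : slConj a u < 24 := sl_lt _ (sl_lt a ha u hu) _ (sl_neg a ha).2.2.1
  have lb : slConj b v < 24 := sl_lt _ (sl_lt b hb v hv) _ (sl_neg b hb).2.2.1
  rw [D.has_mul hu hv la lb, D.has_mul (sl_lt u hu _ la) (sl_lt v hv _ lb) (sl_lt u hu _ la) (sl_lt v hv _ lb),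
    sl_moves ha na hu qu nu.1 nu.2, D.pair.z1] at hcomm
  rcases sl_q_fix b hb v hv qb qv with e | e <;> rw [e] at hcomm
  · rw [(sl_neg 0 (by norm_num)).2.2.2.2.2.1, D.g2_zero, mul_one] at hcomm
    exact D.z_ne hcomm
  · rw [sl_q_basic.2.2.2.1, D.g2_zero, mul_one] at hcomm
    exact D.z_ne hcomm

/-- The same with the coordinates exchanged. -/
theorem no_mixed' {u v a b : ℕ} (hu : u < 24) (hv : v < 24) (ha : a < 24) (hb : b < 24) (qu : inQ u = true)
    (qv : inQ v = true) (nv : v ≠ 0 ∧ v ≠ 12) (qa : inQ a = true) (nb : inQ b = false)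
    (hcomm : g1 u * g2 v * (g1 (slConj a u) * g2 (slConj b v)) *
      (g1 u * g2 v * (g1 (slConj a u) * g2 (slConj b v))) = 1) : False := by
  have la : slConj a u < 24 := sl_lt _ (sl_lt a ha u hu) _ (sl_neg a ha).2.2.1
  have lb : slConj b v < 24 := sl_lt _ (sl_lt b hb v hv) _ (sl_neg b hb).2.2.1
  rw [D.has_mul hu hv la lb, D.has_mul (sl_lt u hu _ la) (sl_lt v hv _ lb) (sl_lt u hu _ la) (sl_lt v hv _ lb),
    sl_moves hb nb hv qv nv.1 nv.2, D.pair.z2] at hcomm
  rcases sl_q_fix a ha u hu qa qu with e | e <;> rw [e] at hcomm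
  · rw [(sl_neg 0 (by norm_num)).2.2.2.2.2.1, D.g1_zero, one_mul] at hcomm
    exact D.z_ne hcomm
  · rw [sl_q_basic.2.2.2.1, D.g1_zero, one_mul] at hcomm
    exact D.z_ne hcomm

/-- The result of the local analysis. -/
theorem exists_outer {M E : Subgroup G} {π : ↥M →* L32} (P : MData z M E π) :
    ∃ t, t ∈ H ∧ t ∉ H12 ∧ t * t = 1 ∧ IsConj z t ∧
      (∀ x, HasQ g1 g2 x → x ≠ 1 → x ≠ z → x * x = 1 → IsConj z x) ∧
      (∀ u v, u < 24 → v < 24 → t * g1 6 * t⁻¹ = g1 u → t * g2 6 * t⁻¹ = g2 v →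
        inQ (slMul u 6) = true ∧ inQ (slMul v 6) = true) := by
  classical
  have hEsub : ∀ e ∈ E, Commute e z := fun e he => P.commE e he z P.zE
  have hEH : E ≤ H := fun e he => by
    rw [D.pair.hH]; exact Subgroup.mem_centralizer_singleton_iff.2 (hEsub e he).eq
  have hconjE : ∀ m ∈ M, ∀ e ∈ E, m * e * m⁻¹ ∈ E := fun m hm e he => by
    have := (P.ker (⟨m, hm⟩ * ⟨e, P.EM he⟩ * ⟨m, hm⟩⁻¹)).1 (by
      rw [map_mul, map_mul, (P.ker ⟨e, P.EM he⟩).2 he, mul_one, ← map_mul, mul_inv_cancel, map_one])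
    simpa using this
  have cM : Nat.card M = 1344 := by
    have h1 := Subgroup.card_mul_index π.ker
    rw [Subgroup.index_ker, MonoidHom.range_eq_top.2 P.surj, Subgroup.card_top, l32_card] at h1
    have h2 : Nat.card π.ker = 8 := by
      rw [← P.cardE]
      exact Nat.card_congr
        { toFun := fun m => ⟨m.1.1, (P.ker _).1 m.2⟩
          invFun := fun e => ⟨⟨e.1, P.EM e.2⟩, (P.ker _).2 e.2⟩
          left_inv := fun _ => rfl
          right_inv := fun _ => rfl }
    omega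
  set C := M ⊓ H with hC
  -- the orbit of z
  let orb : (↥M ⧸ C.subgroupOf M) → {e : E // e.1 ≠ 1} := Quotient.lift
    (fun m : M => ⟨⟨m.1 * z * m.1⁻¹, hconjE _ m.2 _ P.zE⟩, fun h => D.z_ne (conj_eq_one_iff.1 h)⟩) (fun m n h => by
      have h' := QuotientGroup.leftRel_apply.1 h
      simp only [Subgroup.mem_subgroupOf, hC, Subgroup.mem_inf, Subgroup.coe_mul, InvMemClass.coe_inv] at h'
      apply Subtype.ext; apply Subtype.ext
      show m.1 * z * m.1⁻¹ = n.1 * z * n.1⁻¹
      have hc := D.z_comm h'.2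
      calc m.1 * z * m.1⁻¹ = m.1 * (z * (m.1⁻¹ * n.1)) * n.1⁻¹ := by group
        _ = m.1 * ((m.1⁻¹ * n.1) * z) * n.1⁻¹ := by rw [hc.eq]
        _ = n.1 * z * n.1⁻¹ := by group)
  have orb_inj : Function.Injective orb := by
    rintro ⟨m⟩ ⟨n⟩ h
    refine Quotient.sound (QuotientGroup.leftRel_apply.2 ?_)
    have h' : m.1 * z * m.1⁻¹ = n.1 * z * n.1⁻¹ := congrArg (fun e => e.1.1) h
    refine Subgroup.mem_subgroupOf.2 (Subgroup.mem_inf.2 ⟨SetLike.coe_mem _, ?_⟩)
    rw [D.pair.hH, Subgroup.mem_centralizer_singleton_iff]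
    show m.1⁻¹ * n.1 * z = z * (m.1⁻¹ * n.1)
    calc m.1⁻¹ * n.1 * z = m.1⁻¹ * (n.1 * z * n.1⁻¹) * n.1 := by group
      _ = m.1⁻¹ * (m.1 * z * m.1⁻¹) * n.1 := by rw [h']
      _ = _ := by group
  have cE1 : Nat.card {e : E // e.1 ≠ 1} = 7 := by
    haveI := Fintype.ofFinite E
    rw [Nat.card_eq_fintype_card, Fintype.card_subtype_compl,
      ← Nat.card_eq_fintype_card, P.cardE]
    have : Fintype.card {e : E // e.1 = 1} = 1 := by
      rw [Fintype.card_eq_one_iff]
      exact ⟨⟨1, rfl⟩, fun e => Subtype.ext (Subtype.ext e.2)⟩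
    omega
  have hidx : (C.subgroupOf M).index ≤ 7 := by
    rw [Subgroup.index_eq_card, ← cE1]
    exact Nat.card_le_card_of_injective orb orb_inj
  have hmul : Nat.card C * (C.subgroupOf M).index = 1344 := by
    rw [← cM, ← Subgroup.card_mul_index (C.subgroupOf M)]
    rw [Nat.card_congr (Subgroup.subgroupOfEquivOfLe (inf_le_left : C ≤ M)).toEquiv]
  have hdvd : Nat.card C ∣ 576 := D.card ▸ Subgroup.card_dvd_of_le inf_le_right
  obtain ⟨cC, hi7⟩ : Nat.card C = 192 ∧ (C.subgroupOf M).index = 7 := by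
    generalize Nat.card C = n at hmul hdvd ⊢
    generalize (C.subgroupOf M).index = i at hmul hidx ⊢
    have h192 : n ∣ Nat.gcd 576 1344 := Nat.dvd_gcd hdvd ⟨i, hmul.symm⟩
    have hn : n ≤ 192 := Nat.le_of_dvd (by norm_num) (by norm_num at h192; exact h192)
    have : n = 192 := by nlinarith
    subst this
    omega
  have htrans : ∀ e ∈ E, e ≠ 1 → IsConj z e := fun e he he1 => by
    have hb : Function.Bijective orb := (Nat.bijective_iff_injective_and_card _).2
      ⟨orb_inj, by rw [cE1, ← Subgroup.index_eq_card, hi7]⟩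
    obtain ⟨q, hq⟩ := hb.2 ⟨⟨e, he⟩, he1⟩
    induction q using Quotient.inductionOn with
    | h m => exact isConj_iff.2 ⟨m.1, congrArg (fun e => e.1.1) hq⟩
  -- a Sylow subgroup of C
  haveI : Fact (Nat.Prime 2) := ⟨Nat.prime_two⟩
  haveI : Fact (Nat.Prime 3) := ⟨Nat.prime_three⟩
  obtain ⟨T0, hT0⟩ := Sylow.exists_subgroup_card_pow_prime 2 (show 2 ^ 6 ∣ Nat.card C by rw [cC]; norm_num)
  set T := T0.map C.subtype with hTd
  have cT : Nat.card T = 64 := by rw [hTd, Subgroup.card_map_of_injective C.subtype_injective, hT0]; norm_num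
  have hTC : T ≤ C := Subgroup.map_subtype_le _
  have hT12 : Nat.card (T ⊓ H12 : Subgroup G) ≥ 32 := by
    have h1 := Subgroup.card_mul_index ((T ⊓ H12).subgroupOf T)
    rw [Nat.card_congr (Subgroup.subgroupOfEquivOfLe inf_le_left).toEquiv, cT] at h1
    have h2 : ((T ⊓ H12).subgroupOf T).index ≤ 2 := by
      rw [← Subgroup.relIndex, Subgroup.inf_relIndex_left]
      have : H12.relIndex H = 2 := by
        have := Subgroup.card_mul_index (H12.subgroupOf H)
        rw [Nat.card_congr (Subgroup.subgroupOfEquivOfLe D.le).toEquiv, D.card, D.card12] at this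
        rw [Subgroup.relIndex]; omega
      rw [← this]
      exact Subgroup.relIndex_le_of_le_right (hTC.trans inf_le_right) (by rw [this]; norm_num)
    nlinarith
  let Qs : Finset (ℕ × ℕ) := (Finset.range 12 ×ˢ Finset.range 24).filter fun p => inQ p.1 = true ∧ inQ p.2 = true
  have hQs : Qs.card = 32 := by decide +kernel
  have hQinT : ∀ x, HasQ g1 g2 x → x ∈ T := by
    have hx : ∀ x : (T ⊓ H12 : Subgroup G), ∃ a < 12, ∃ b < 24, inQ a = true ∧ inQ b = true ∧ g1 a * g2 b = x.1 :=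
      fun x => D.hasQ_normalForm (D.hasQ_of_two x.2.2 (by
        have hpow : x.1 ^ 64 = 1 := by
          have := congrArg Subtype.val (pow_card_eq_one' (x := (⟨x.1, x.2.1⟩ : T)))
          rw [cT] at this; exact this
        obtain ⟨a, ha, b, hb, hab⟩ := (D.mem _).1 x.2.2
        exact D.pow_eight ha hb hab hpow))
    choose A hA B hB qA qB hAB using hx
    let F : (T ⊓ H12 : Subgroup G) → Qs := fun x => ⟨(A x, B x), by simp [Qs, hA x, hB x, qA x, qB x]⟩
    have hF : ∀ x, g1 (F x).1.1 * g2 (F x).1.2 = x.1 := hAB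
    have hFi : Function.Injective F := fun x y h => Subtype.ext (by rw [← hF x, ← hF y, h])
    have hFb : Function.Bijective F := (Nat.bijective_iff_injective_and_card _).2 ⟨hFi, le_antisymm
      (Nat.card_le_card_of_injective F hFi) (by rw [Nat.card_eq_finsetCard, hQs]; exact hT12)⟩
    intro x hx
    obtain ⟨a, ha, b, hb, qa, qb, rfl⟩ := D.hasQ_normalForm hx
    obtain ⟨y, hy⟩ := hFb.2 ⟨(a, b), by simp [Qs, ha, hb, qa, qb]⟩
    rw [show g1 a * g2 b = y.1 by rw [← hF y, hy]]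
    exact y.2.1
  -- a noncentral element of E
  obtain ⟨e0, he0, he01, he0z, u, hu, v, hv, qu, qv, heuv⟩ :
      ∃ e ∈ E, e ≠ 1 ∧ e ≠ z ∧ ∃ u < 24, ∃ v < 24, inQ u = true ∧ inQ v = true ∧ g1 u * g2 v = e := by
    have h1 := Subgroup.card_mul_index ((E ⊓ H12).subgroupOf E)
    rw [Nat.card_congr (Subgroup.subgroupOfEquivOfLe inf_le_left).toEquiv, P.cardE] at h1
    have h2 : ((E ⊓ H12).subgroupOf E).index ≤ 2 := by
      rw [← Subgroup.relIndex, Subgroup.inf_relIndex_left]
      have : H12.relIndex H = 2 := by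
        have := Subgroup.card_mul_index (H12.subgroupOf H)
        rw [Nat.card_congr (Subgroup.subgroupOfEquivOfLe D.le).toEquiv, D.card, D.card12] at this
        rw [Subgroup.relIndex]; omega
      rw [← this]
      exact Subgroup.relIndex_le_of_le_right hEH (by rw [this]; norm_num)
    by_contra hne
    push Not at hne
    have hsub : ((E ⊓ H12 : Subgroup G) : Set G) ⊆ {1, z} := fun x hx => by
      by_contra hx'
      simp only [Set.mem_insert_iff, Set.mem_singleton_iff, not_or] at hx'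
      obtain ⟨a, ha, b, hb, rfl⟩ := (D.mem x).1 hx.2
      obtain ⟨qa, qb⟩ := D.sq_one ha hb (P.sqE _ hx.1)
      exact hne _ hx.1 hx'.1 hx'.2 a ha b hb qa qb rfl
    have h3 := Nat.card_mono (Set.toFinite _) hsub
    have h4 : Nat.card ({1, z} : Set G) ≤ 2 := by
      rw [Nat.card_coe_set_eq]
      exact (Set.ncard_insert_le _ _).trans (by simp)
    have h5 : Nat.card (E ⊓ H12 : Subgroup G) ≤ 2 := h3.trans h4
    nlinarith
  obtain ⟨nu, nv⟩ : (u ≠ 0 ∧ u ≠ 12) ∧ (v ≠ 0 ∧ v ≠ 12) := by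
    have hsq := P.sqE _ he0
    rw [← heuv, D.has_mul hu hv hu hv] at hsq
    have hz' := inv_eq_of_mul_eq_one_right D.z_sq
    refine ⟨⟨fun h => ?_, fun h => ?_⟩, fun h => ?_, fun h => ?_⟩ <;> subst h
    · rw [(sl_neg 0 (by norm_num)).2.2.2.2.2.1, D.g1_zero, one_mul] at hsq
      rw [D.g1_zero, one_mul] at heuv
      rcases sl_sq_one v hv (D.pair.i2 _ (sl_lt v hv v hv) 0 (by norm_num) (by rw [hsq, D.g2_zero])) with rfl | rfl
      · exact he01 (by rw [← heuv, D.g2_zero])
      · exact he0z (by rw [← heuv, D.pair.z2])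
    · rw [sl_q_basic.2.2.2.1, D.g1_zero, one_mul] at hsq
      rw [D.pair.z1] at heuv
      rcases sl_sq_one v hv (D.pair.i2 _ (sl_lt v hv v hv) 0 (by norm_num) (by rw [hsq, D.g2_zero])) with rfl | rfl
      · exact he0z (by rw [← heuv, D.g2_zero, mul_one])
      · exact he01 (by rw [← heuv, D.pair.z2, D.z_sq])
    · rw [(sl_neg 0 (by norm_num)).2.2.2.2.2.1, D.g2_zero, mul_one] at hsq
      rw [D.g2_zero, mul_one] at heuv
      rcases sl_sq_one u hu (D.pair.i1 _ (sl_lt u hu u hu) 0 (by norm_num) (by rw [hsq, D.g1_zero])) with rfl | rfl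
      · exact he01 (by rw [← heuv, D.g1_zero])
      · exact he0z (by rw [← heuv, D.pair.z1])
    · rw [sl_q_basic.2.2.2.1, D.g2_zero, mul_one] at hsq
      rw [D.pair.z2] at heuv
      rcases sl_sq_one u hu (D.pair.i1 _ (sl_lt u hu u hu) 0 (by norm_num) (by rw [hsq, D.g1_zero])) with rfl | rfl
      · exact he0z (by rw [← heuv, D.g1_zero, one_mul])
      · exact he01 (by rw [← heuv, D.pair.z1, D.z_sq])
  have hQz : ∀ x, HasQ g1 g2 x → x ≠ 1 → x ≠ z → x * x = 1 → IsConj z x := fun x hx h1 h2 h3 =>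
    (htrans e0 he0 he01).trans (D.fusion_q ⟨u, hu, v, hv, qu, qv, heuv⟩ hx he01 he0z (P.sqE _ he0) h1 h2 h3)
  -- elements of C in the product
  have nomix : ∀ a < 24, ∀ b < 24, g1 a * g2 b ∈ C → inQ a = inQ b := by
    intro a ha b hb hab
    have la : slConj a u < 24 := sl_lt _ (sl_lt a ha u hu) _ (sl_neg a ha).2.2.1
    have lb : slConj b v < 24 := sl_lt _ (sl_lt b hb v hv) _ (sl_neg b hb).2.2.1
    have hcomm : g1 u * g2 v * (g1 (slConj a u) * g2 (slConj b v)) *
        (g1 u * g2 v * (g1 (slConj a u) * g2 (slConj b v))) = 1 := by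
      rw [← D.has_conj ha hb hu hv, heuv]
      exact P.sqE _ (mul_mem he0 (hconjE _ hab.1 _ he0))
    cases ea : inQ a <;> cases eb : inQ b
    · rfl
    · exact (D.no_mixed hu hv ha hb qu qv nu ea eb hcomm).elim
    · exact (D.no_mixed' hu hv ha hb qu qv nv ea eb hcomm).elim
    · rfl
  -- an element of order 3
  obtain ⟨x0, hx0⟩ := exists_prime_orderOf_dvd_card' (G := C) 3 (by rw [cC]; norm_num)
  set x := x0.1 with hxd
  have hx3 : x * x * x = 1 := by
    have := congrArg Subtype.val (pow_orderOf_eq_one x0)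
    rw [hx0, Subgroup.coe_pow, Subgroup.coe_one, pow_succ, pow_two] at this
    exact this
  have hx1 : x ≠ 1 := fun h => by
    have : x0 = 1 := Subtype.ext h
    rw [this, orderOf_one] at hx0
    norm_num at hx0
  have hx12 : x ∈ H12 := by
    have e : x = x * x * (x * x) := by
      rw [show x * x * (x * x) = (x * x * x) * x by group, hx3, one_mul]
    rw [e]
    exact mul_mem (D.outer_sq x0.2.2) (D.outer_sq x0.2.2)
  obtain ⟨a, ha, b, hb, hab⟩ := (D.mem x).1 hx12
  have habne : inQ a = false ∧ inQ b = false := by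
    have hh := nomix a ha b hb (hab ▸ x0.2)
    cases ea : inQ a
    · exact ⟨rfl, by rw [← hh, ea]⟩
    · exfalso
      have hxT := hQinT x ⟨a, ha, b, hb, ea, by rw [← hh, ea], hab⟩
      have h64 := congrArg Subtype.val (pow_card_eq_one' (x := (⟨x, hxT⟩ : T)))
      rw [cT, Subgroup.coe_pow, Subgroup.coe_one, show (64 : ℕ) = 21 * 3 + 1 by norm_num, pow_succ, mul_comm 21 3,
        pow_mul, show x ^ 3 = x * x * x by rw [pow_succ, pow_two], hx3, one_pow, one_mul] at h64
      exact hx1 h64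
  -- E lies in the product
  have hE12 : ∀ e ∈ E, e ∈ H12 := by
    by_contra hne
    push Not at hne
    obtain ⟨f, hf, hf12⟩ := hne
    have hmem : x * e0 * x⁻¹ ∈ E := hconjE x x0.2.1 e0 he0
    have he012 : e0 ∈ H12 := (D.mem _).2 ⟨u, hu, v, hv, heuv⟩
    -- the intersection has four elements
    have h4 : ∀ y ∈ E, y ∈ H12 → y = 1 ∨ y = z ∨ y = e0 ∨ y = e0 * z := by
      by_contra hc
      push Not at hc
      obtain ⟨y, hy, hy12, n1, n2, n3, n4⟩ := hc
      have hz12 : z ∈ H12 := (D.mem _).2 ⟨12, by norm_num, 0, by norm_num, by rw [D.pair.z1, D.g2_zero, mul_one]⟩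
      let S : Finset G := {1, z, e0, e0 * z, y}
      have hS : S.card = 5 := by
        have n5 : e0 * z ≠ 1 := fun h => he0z (by
          rw [eq_inv_of_mul_eq_one_left h, inv_eq_of_mul_eq_one_right D.z_sq])
        have n6 : e0 * z ≠ z := fun h => he01 (by simpa using h)
        have n7 : e0 * z ≠ e0 := fun h => D.z_ne (by simpa using h)
        simp [S, Finset.card_insert_of_notMem, D.z_ne.symm, he01.symm, he0z.symm, n5.symm, n6.symm, n7.symm,
          n1.symm, n2.symm, n3.symm, n4.symm]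
      let F : S ⊕ S → E := Sum.elim
        (fun s => ⟨s.1, by
          obtain ⟨s, hs⟩ := s
          simp only [S, Finset.mem_insert, Finset.mem_singleton] at hs
          rcases hs with rfl | rfl | rfl | rfl | rfl
          exacts [one_mem _, P.zE, he0, mul_mem he0 P.zE, hy]⟩)
        (fun s => ⟨f * s.1, by
          obtain ⟨s, hs⟩ := s
          simp only [S, Finset.mem_insert, Finset.mem_singleton] at hs
          rcases hs with rfl | rfl | rfl | rfl | rfl
          exacts [mul_mem hf (one_mem _), mul_mem hf P.zE, mul_mem hf he0, mul_mem hf (mul_mem he0 P.zE),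
            mul_mem hf hy]⟩)
      have in12 : ∀ s : S, s.1 ∈ H12 := fun s => by
        obtain ⟨s, hs⟩ := s
        simp only [S, Finset.mem_insert, Finset.mem_singleton] at hs
        rcases hs with rfl | rfl | rfl | rfl | rfl
        exacts [one_mem _, hz12, he012, mul_mem he012 hz12, hy12]
      have hF : Function.Injective F := by
        rintro (s | s) (r | r) h <;> simp only [F, Sum.elim_inl, Sum.elim_inr, Subtype.mk.injEq] at h
        · rw [Subtype.ext h]
        · exact absurd ((Subgroup.mul_mem_cancel_right _ (in12 r)).1 (h ▸ in12 s)) hf12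
        · exact absurd ((Subgroup.mul_mem_cancel_right _ (in12 s)).1 (h.symm ▸ in12 r)) hf12
        · rw [Subtype.ext (mul_left_cancel h)]
      have := Nat.card_le_card_of_injective F hF
      rw [Nat.card_sum, Nat.card_eq_finsetCard, hS, P.cardE] at this
      omega
    have hc := h4 _ hmem (mul_mem (mul_mem hx12 he012) (inv_mem hx12))
    have hsq := P.sqE _ he0
    rw [← hab, ← heuv, D.has_conj ha hb hu hv] at hc
    have lu : slConj a u < 24 := sl_lt _ (sl_lt a ha u hu) _ (sl_neg a ha).2.2.1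
    have lv : slConj b v < 24 := sl_lt _ (sl_lt b hb v hv) _ (sl_neg b hb).2.2.1
    have hcases : slConj a u = u ∨ slConj a u = slMul u 12 ∨ slConj a u = 0 ∨ slConj a u = 12 := by
      rcases hc with h | h | h | h
      · have := D.has_eq lu lv (by norm_num : 0 < 24) (by norm_num : 0 < 24) (by rw [h, D.g1_zero, D.g2_zero, one_mul])
        rw [show slInv 0 = 0 by decide +kernel, (sl_neg _ lu).2.2.2.2.2.1] at this
        tauto
      · have := D.has_eq lu lv (by norm_num : 12 < 24) (by norm_num : 0 < 24)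
          (by rw [h, D.pair.z1, D.g2_zero, mul_one])
        rw [show slInv 12 = 12 by decide +kernel, (sl_neg _ lu).1] at this
        omega
      · have := D.has_eq lu lv hu hv h
        rcases this with e | e
        · left
          have h' := congrArg g1 e
          rw [D.pair.m1 _ (sl_neg u hu).2.2.1 _ lu, D.g1_inv hu, D.g1_zero, inv_mul_eq_one] at h'
          exact D.pair.i1 _ lu _ hu h'.symm
        · right; left
          have h' := congrArg g1 e
          rw [D.pair.m1 _ (sl_neg u hu).2.2.1 _ lu, D.g1_inv hu, inv_mul_eq_iff_eq_mul,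
            ← D.pair.m1 u hu 12 (by norm_num)] at h'
          exact D.pair.i1 _ lu _ (sl_lt u hu 12 (by norm_num)) h'
      · have := D.has_eq lu lv hu (sl_lt v hv 12 (by norm_num))
          (by rw [h, D.pair.m2 v hv 12 (by norm_num), D.pair.z2, mul_assoc])
        rcases this with e | e
        · left
          have h' := congrArg g1 e
          rw [D.pair.m1 _ (sl_neg u hu).2.2.1 _ lu, D.g1_inv hu, D.g1_zero, inv_mul_eq_one] at h'
          exact D.pair.i1 _ lu _ hu h'.symm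
        · right; left
          have h' := congrArg g1 e
          rw [D.pair.m1 _ (sl_neg u hu).2.2.1 _ lu, D.g1_inv hu, inv_mul_eq_iff_eq_mul,
            ← D.pair.m1 u hu 12 (by norm_num)] at h'
          exact D.pair.i1 _ lu _ (sl_lt u hu 12 (by norm_num)) h'
    have hm := sl_moves ha habne.1 hu qu nu.1 nu.2
    have chk : ((List.range 24).all fun u => !(inQ u) || ((slMul (slMul u u) (slMul u u) != 12) &&
        (slMul (slMul u (slMul u 12)) (slMul u (slMul u 12)) != 12) && (slMul (slMul u 0) (slMul u 0) != 12 || u != 0) &&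
        ((slMul u 0 == u) && (slMul u 12 == (u + 12) % 24)))) = true := by decide +kernel
    simp only [List.all_eq_true, List.mem_range] at chk
    have hc' := chk u hu
    simp only [qu, Bool.not_true, Bool.false_or, Bool.and_eq_true, bne_iff_ne] at hc'
    have back : ∀ w, (w = 0 ∨ w = 12) → slConj a u = w → False := fun w hw e => by
      have hinj : ((List.range 24).all fun a => (List.range 24).all fun u =>
          !((slConj a u == 0) || (slConj a u == 12)) || (u == 0) || (u == 12)) = true := by decide +kernel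
      simp only [List.all_eq_true, List.mem_range] at hinj
      have hh := hinj a ha u hu
      rcases hw with rfl | rfl <;> simp [e, nu.1, nu.2] at hh
    rcases hcases with e | e | e | e
    · rw [e] at hm; exact hc'.1.1.1 hm
    · rw [e] at hm; exact hc'.1.1.2 hm
    · exact back 0 (Or.inl rfl) e
    · exact back 12 (Or.inr rfl) e
  have hEQ : ∀ e ∈ E, e ∈ T := fun e he => by
    obtain ⟨c, hc, d, hd, rfl⟩ := (D.mem e).1 (hE12 e he)
    obtain ⟨qc, qd⟩ := D.sq_one hc hd (P.sqE _ he)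
    exact hQinT _ ⟨c, hc, d, hd, qc, qd, rfl⟩
  have hQ12 : ∀ y, HasQ g1 g2 y → y ∈ H12 := fun y ⟨c, hc, d, hd, _, _, e⟩ => (D.mem y).2 ⟨c, hc, d, hd, e⟩
  have hTQ : ∀ y ∈ T, y ∈ H12 → HasQ g1 g2 y := fun y hy hy12 => by
    obtain ⟨c, hc, d, hd, hcd⟩ := (D.mem y).1 hy12
    refine D.hasQ_of_two hy12 (D.pow_eight hc hd hcd ?_)
    have := congrArg Subtype.val (pow_card_eq_one' (x := (⟨y, hy⟩ : T)))
    rw [cT] at this; exact this
  have hQmul : ∀ y w, HasQ g1 g2 y → HasQ g1 g2 w → HasQ g1 g2 (y * w) := by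
    rintro _ _ ⟨c, hc, d, hd, qc, qd, rfl⟩ ⟨c', hc', d', hd', qc', qd', rfl⟩
    exact ⟨_, sl_lt c hc c' hc', _, sl_lt d hd d' hd', sl_q_mul c hc c' hc' qc qc', sl_q_mul d hd d' hd' qd qd',
      (D.has_mul hc hd hc' hd').symm⟩
  have hQsq : ∀ y, HasQ g1 g2 y → y * y ∈ E := by
    rintro _ ⟨c, hc, d, hd, qc, qd, rfl⟩
    rw [D.has_mul hc hd hc hd]
    rcases sl_q_square c hc qc with e | e <;> rcases sl_q_square d hd qd with e' | e' <;> rw [e, e'] <;>
      simp only [D.g1_zero, D.g2_zero, D.pair.z1, D.pair.z2, one_mul, mul_one, D.z_sq] <;>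
      first | exact one_mem _ | exact P.zE
  have hTM : ∀ y ∈ T, y ∈ M := fun y hy => (hTC hy).1
  have hTH : ∀ y ∈ T, y ∈ H := fun y hy => (hTC hy).2
  let p : G → L32 := fun y => if h : y ∈ M then π ⟨y, h⟩ else 1
  have p_mul : ∀ y ∈ M, ∀ w ∈ M, p (y * w) = p y * p w := fun y hy w hw => by
    simp only [p, dif_pos hy, dif_pos hw, dif_pos (mul_mem hy hw), ← map_mul]; rfl
  have p_one : ∀ y ∈ M, p y = 1 ↔ y ∈ E := fun y hy => by simp only [p, dif_pos hy]; exact P.ker _
  have p_inv : ∀ y ∈ M, p y⁻¹ = (p y)⁻¹ := fun y hy => by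
    rw [eq_inv_iff_mul_eq_one, ← p_mul _ (inv_mem hy) _ hy, inv_mul_cancel, (p_one 1 (one_mem _)).2 (one_mem _)]
  -- an outer involution modulo E
  obtain ⟨s, hsT, hs12⟩ : ∃ s ∈ T, s ∉ H12 := by
    by_contra hne
    push Not at hne
    have := Subgroup.card_dvd_of_le hne
    rw [cT, D.card12] at this
    norm_num at this
  obtain ⟨q, hq, hq1, hqz, hqq, hqE⟩ : ∃ q, HasQ g1 g2 q ∧ q ≠ 1 ∧ q ≠ z ∧ q * q = 1 ∧ q ∉ E := by
    by_contra hne
    push Not at hne
    let I : Finset (ℕ × ℕ) := (Finset.range 12 ×ˢ Finset.range 24).filter fun p =>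
      inQ p.1 = true ∧ inQ p.2 = true ∧ slMul p.1 p.1 = slMul p.2 p.2
    have hI : I.card = 20 := by decide +kernel
    let F : I → E := fun i => ⟨g1 i.1.1 * g2 i.1.2, by
      obtain ⟨⟨c, d⟩, hi⟩ := i
      simp only [I, Finset.mem_filter, Finset.mem_product, Finset.mem_range] at hi
      obtain ⟨⟨hc, hd⟩, qc, qd, e⟩ := hi
      dsimp only
      by_cases h1 : g1 c * g2 d = 1
      · rw [h1]; exact one_mem _
      by_cases h2 : g1 c * g2 d = z
      · rw [h2]; exact P.zE
      refine hne _ ⟨c, by omega, d, hd, qc, qd, rfl⟩ h1 h2 ?_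
      rw [D.has_mul (by omega) hd (by omega) hd]
      rcases sl_q_square d hd qd with e' | e' <;> rw [e, e'] <;>
        simp only [D.g1_zero, D.g2_zero, D.pair.z1, D.pair.z2, one_mul, D.z_sq]⟩
    have hF : Function.Injective F := fun i j h => by
      obtain ⟨⟨c, d⟩, hi⟩ := i
      obtain ⟨⟨c', d'⟩, hj⟩ := j
      simp only [I, Finset.mem_filter, Finset.mem_product, Finset.mem_range] at hi hj
      obtain ⟨rfl, rfl⟩ := D.normalForm_inj hi.1.1 hi.1.2 hj.1.1 hj.1.2 (congrArg Subtype.val h)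
      rfl
    have := Nat.card_le_card_of_injective F hF
    rw [Nat.card_eq_finsetCard, hI, P.cardE] at this
    omega
  obtain ⟨s', hs'T, hs'12, hs'2⟩ : ∃ s' ∈ T, s' ∉ H12 ∧ p s' * p s' = 1 := by
    by_cases h2 : p s * p s = 1
    · exact ⟨s, hsT, hs12, h2⟩
    have hs2Q := hTQ _ (mul_mem hsT hsT) (D.outer_sq (hTH s hsT))
    have h4 : p s * p s * (p s * p s) = 1 := by
      rw [← p_mul _ (hTM s hsT) _ (hTM s hsT), ← p_mul _ (hTM _ (mul_mem hsT hsT)) _ (hTM _ (mul_mem hsT hsT)),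
        p_one _ (hTM _ (mul_mem (mul_mem hsT hsT) (mul_mem hsT hsT)))]
      exact hQsq _ hs2Q
    obtain ⟨w, hw, hwne⟩ : ∃ w, HasQ g1 g2 w ∧ p w ≠ 1 ∧ p w ≠ p s * p s := by
      by_contra hne
      push Not at hne
      have hsub : ∀ y : (T ⊓ H12 : Subgroup G), y.1 ∈ E ∨ (s * s)⁻¹ * y.1 ∈ E := fun y => by
        by_cases h : p y.1 = 1
        · exact Or.inl ((p_one _ (hTM _ y.2.1)).1 h)
        · refine Or.inr ((p_one _ (mul_mem (inv_mem (hTM _ (mul_mem hsT hsT))) (hTM _ y.2.1))).1 ?_)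
          rw [p_mul _ (inv_mem (hTM _ (mul_mem hsT hsT))) _ (hTM _ y.2.1), p_inv _ (hTM _ (mul_mem hsT hsT)),
            p_mul _ (hTM s hsT) _ (hTM s hsT), hne _ (hTQ _ y.2.1 y.2.2) h, inv_mul_cancel]
      let F : (T ⊓ H12 : Subgroup G) → E ⊕ E := fun y =>
        if h : y.1 ∈ E then Sum.inl ⟨y.1, h⟩ else Sum.inr ⟨(s * s)⁻¹ * y.1, (hsub y).resolve_left h⟩
      have hF : Function.Injective F := by
        intro y w h
        simp only [F] at h
        by_cases h1 : y.1 ∈ E <;> by_cases h2 : w.1 ∈ E <;> simp only [h1, h2, dite_true, dite_false,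
          Sum.inl.injEq, Sum.inr.injEq, Subtype.mk.injEq, reduceCtorEq] at h
        · exact Subtype.ext h
        · exact Subtype.ext (mul_left_cancel h)
      have := Nat.card_le_card_of_injective F hF
      rw [Nat.card_sum, P.cardE] at this
      omega
    have hwT := hQinT w hw
    refine ⟨s * w, mul_mem hsT hwT, fun h => hs12 ((Subgroup.mul_mem_cancel_right _ (hQ12 w hw)).1 h), ?_⟩
    rw [p_mul _ (hTM s hsT) _ (hTM w hwT)]
    refine l32_dihedral (p s) h4 h2 (p w) ?_ ?_ hwne.1 hwne.2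
    · rw [← p_mul _ (hTM w hwT) _ (hTM w hwT), p_one _ (hTM _ (mul_mem hwT hwT))]
      exact hQsq w hw
    · have hss := hTM _ (mul_mem hsT hsT)
      have sq1 : ∀ y, HasQ g1 g2 y → p y * p y = 1 := fun y hy => by
        rw [← p_mul _ (hTM y (hQinT y hy)) _ (hTM y (hQinT y hy)),
          p_one _ (hTM _ (mul_mem (hQinT y hy) (hQinT y hy)))]
        exact hQsq y hy
      rw [← p_mul _ (hTM s hsT) _ (hTM s hsT)]
      have h12' := sq1 _ (hQmul _ _ hw hs2Q)
      rw [p_mul _ (hTM w hwT) _ hss] at h12'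
      calc p w * p (s * s) = (p w * p (s * s))⁻¹ := eq_inv_of_mul_eq_one_left h12'
        _ = p (s * s) * p w := by
          rw [mul_inv_rev, inv_eq_of_mul_eq_one_right (sq1 w hw), inv_eq_of_mul_eq_one_right (sq1 _ hs2Q)]
  -- the outer involution
  have hqT := hQinT q hq
  have hpq : p q * p q = 1 := by
    rw [← p_mul _ (hTM q hqT) _ (hTM q hqT), hqq]; exact (p_one 1 (one_mem _)).2 (one_mem _)
  obtain ⟨m0, hm0⟩ := isConj_iff.1 (l32_invol_conj hpq (fun h => hqE ((p_one q (hTM q hqT)).1 h)) hs'2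
    (fun h => hs'12 (hE12 _ ((p_one s' (hTM s' hs'T)).1 h))))
  obtain ⟨m, rfl⟩ := P.surj m0
  set t := m.1 * q * m.1⁻¹ with htd
  have htM : t ∈ M := mul_mem (mul_mem m.2 (hTM q hqT)) (inv_mem m.2)
  have hpt : p t = p s' := by
    rw [htd, p_mul _ (mul_mem m.2 (hTM q hqT)) _ (inv_mem m.2), p_mul _ m.2 _ (hTM q hqT), p_inv _ m.2,
      show p m.1 = π m from dif_pos m.2, hm0]
  have hst : s'⁻¹ * t ∈ E := by
    rw [← p_one _ (mul_mem (inv_mem (hTM s' hs'T)) htM), p_mul _ (inv_mem (hTM s' hs'T)) _ htM,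
      p_inv _ (hTM s' hs'T), hpt, inv_mul_cancel]
  have htT : t ∈ T := by
    have := mul_mem hs'T (hEQ _ hst); simpa using this
  have ht12 : t ∉ H12 := fun h => hs'12 (by
    have := mul_mem h (inv_mem (hE12 _ hst))
    simpa using this)
  have ht2 : t * t = 1 := by rw [htd, ← pow_two, conj_pow, pow_two, hqq, mul_one, mul_inv_cancel]
  refine ⟨t, hTH t htT, ht12, ht2,
    (hQz q hq hq1 hqz hqq).trans (isConj_iff.2 ⟨m.1, rfl⟩), hQz, fun u6 v6 hu6 hv6 e1 e2 => ?_⟩
  -- the action on the order 3 element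
  obtain ⟨a', ha', ea'⟩ := D.norm1 t (hTH t htT) a ha
  obtain ⟨b', hb', eb'⟩ := D.norm2 t (hTH t htT) b hb
  have htx : t * x * t⁻¹ = g1 a' * g2 b' := by
    rw [← hab, ← ea', ← eb']; group
  have hia := (sl_neg a ha).2.2.1
  have hib := (sl_neg b hb).2.2.1
  have q4 : ∀ {c : ℕ}, c < 24 → inQ c = true → ∀ {c' : ℕ}, c' < 24 → t * g1 c * t⁻¹ = g1 c' → inQ c' = true := by
    intro c hc qc c' hc' e
    have h4 : slMul (slMul c c) (slMul c c) = 0 := by simpa [inQ] using qc
    have := congrArg g1 h4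
    rw [D.pair.m1 _ (sl_lt c hc c hc) _ (sl_lt c hc c hc), D.pair.m1 c hc c hc, D.g1_zero] at this
    have he : g1 (slMul (slMul c' c') (slMul c' c')) = g1 0 := by
      rw [D.pair.m1 _ (sl_lt c' hc' c' hc') _ (sl_lt c' hc' c' hc'), D.pair.m1 c' hc' c' hc', D.g1_zero, ← e]
      calc t * g1 c * t⁻¹ * (t * g1 c * t⁻¹) * (t * g1 c * t⁻¹ * (t * g1 c * t⁻¹))
          = t * (g1 c * g1 c * (g1 c * g1 c)) * t⁻¹ := by group
        _ = 1 := by rw [this, mul_one, mul_inv_cancel]
    simpa [inQ] using D.pair.i1 _ (sl_lt _ (sl_lt c' hc' c' hc') _ (sl_lt c' hc' c' hc')) 0 (by norm_num) he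
  have q4' : ∀ {c : ℕ}, c < 24 → inQ c = true → ∀ {c' : ℕ}, c' < 24 → t * g2 c * t⁻¹ = g2 c' → inQ c' = true := by
    intro c hc qc c' hc' e
    have h4 : slMul (slMul c c) (slMul c c) = 0 := by simpa [inQ] using qc
    have := congrArg g2 h4
    rw [D.pair.m2 _ (sl_lt c hc c hc) _ (sl_lt c hc c hc), D.pair.m2 c hc c hc, D.g2_zero] at this
    have he : g2 (slMul (slMul c' c') (slMul c' c')) = g2 0 := by
      rw [D.pair.m2 _ (sl_lt c' hc' c' hc') _ (sl_lt c' hc' c' hc'), D.pair.m2 c' hc' c' hc', D.g2_zero, ← e]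
      calc t * g2 c * t⁻¹ * (t * g2 c * t⁻¹) * (t * g2 c * t⁻¹ * (t * g2 c * t⁻¹))
          = t * (g2 c * g2 c * (g2 c * g2 c)) * t⁻¹ := by group
        _ = 1 := by rw [this, mul_one, mul_inv_cancel]
    simpa [inQ] using D.pair.i2 _ (sl_lt _ (sl_lt c' hc' c' hc') _ (sl_lt c' hc' c' hc')) 0 (by norm_num) he
  have hC2 : g1 (slMul a' a) * g2 (slMul b' b) ∈ C := by
    rw [← D.has_mul ha' hb' ha hb, ← htx, hab]
    exact mul_mem (mul_mem (mul_mem (hTC htT) x0.2) (inv_mem (hTC htT))) x0.2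
  have hm1 := nomix _ (sl_lt a' ha' a ha) _ (sl_lt b' hb' b hb) hC2
  have back1 : t * g1 a' * t⁻¹ = g1 a := by
    rw [← ea', inv_eq_of_mul_eq_one_right ht2]
    calc t * (t * g1 a * t) * t = t * t * g1 a * (t * t) := by group
      _ = g1 a := by rw [ht2, one_mul, mul_one]
  have back2 : t * g2 b' * t⁻¹ = g2 b := by
    rw [← eb', inv_eq_of_mul_eq_one_right ht2]
    calc t * (t * g2 b * t) * t = t * t * g2 b * (t * t) := by group
      _ = g2 b := by rw [ht2, one_mul, mul_one]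
  have na' : inQ a' = false := by
    cases h : inQ a'
    · rfl
    · exact absurd (q4 ha' h ha back1) (by simp [habne.1])
  have nb' : inQ b' = false := by
    cases h : inQ b'
    · rfl
    · exact absurd (q4' hb' h hb back2) (by simp [habne.2])
  cases hA : inQ (slMul a' a)
  · -- t commutes with x modulo Q
    exfalso
    rw [hA] at hm1
    have c1 := sl_coset a ha a' ha' habne.1
    have c2 := sl_coset b hb b' hb' habne.2
    simp only [na', hA, Bool.false_or] at c1
    simp only [nb', ← hm1, Bool.false_or] at c2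
    set y := g1 (slMul a' (slInv a)) * g2 (slMul b' (slInv b)) with hyd
    have hyQ : HasQ g1 g2 y := ⟨_, sl_lt a' ha' _ hia, _, sl_lt b' hb' _ hib, c1, c2, rfl⟩
    have hxy : t * x * t⁻¹ = y * x := by
      rw [htx, hyd, ← hab, D.has_mul (sl_lt a' ha' _ hia) (sl_lt b' hb' _ hib) ha hb,
        D.pair.m1 _ (sl_lt a' ha' _ hia) _ ha, D.pair.m1 _ ha' _ hia, D.g1_inv ha, inv_mul_cancel_right,
        D.pair.m2 _ (sl_lt b' hb' _ hib) _ hb, D.pair.m2 _ hb' _ hib, D.g2_inv hb, inv_mul_cancel_right]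
    have hxM : x ∈ M := x0.2.1
    have hpx3 : p x * p x * p x = 1 := by
      rw [← p_mul _ hxM _ hxM, ← p_mul _ (mul_mem hxM hxM) _ hxM, hx3]
      exact (p_one 1 (one_mem _)).2 (one_mem _)
    have hpx1 : p x ≠ 1 := fun h => by
      have h2 := P.sqE _ ((p_one x hxM).1 h)
      exact hx1 (by rw [h2, one_mul] at hx3; exact hx3)
    let A : Subgroup L32 :=
      { carrier := {k | ∃ w, HasQ g1 g2 w ∧ p w = k}
        one_mem' := ⟨1, ⟨0, by norm_num, 0, by norm_num, sl_q_basic.1, sl_q_basic.1,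
          by rw [D.g1_zero, D.g2_zero, one_mul]⟩, (p_one 1 (one_mem _)).2 (one_mem _)⟩
        mul_mem' := by
          rintro _ _ ⟨w1, h1, rfl⟩ ⟨w2, h2, rfl⟩
          exact ⟨_, hQmul _ _ h1 h2, p_mul _ (hTM _ (hQinT _ h1)) _ (hTM _ (hQinT _ h2))⟩
        inv_mem' := by
          rintro _ ⟨w1, ⟨c, hc, d, hd, qc, qd, e⟩, rfl⟩
          refine ⟨w1⁻¹, ⟨slInv c, (sl_neg c hc).2.2.1, slInv d, (sl_neg d hd).2.2.1,
            sl_q_basic.2.2.2.2 c hc qc, sl_q_basic.2.2.2.2 d hd qd, ?_⟩, p_inv _ ?_⟩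
          · rw [D.g1_inv hc, D.g2_inv hd, ← e, mul_inv_rev]
            exact ((D.pair.comm c hc d hd).inv_inv).eq
          · exact hTM _ (hQinT _ ⟨c, hc, d, hd, qc, qd, e⟩) }
    have hAsq : ∀ k ∈ A, k * k = 1 := by
      rintro _ ⟨w, hw, rfl⟩
      have hw' := hTM _ (hQinT _ hw)
      rw [← p_mul _ hw' _ hw', p_one _ (mul_mem hw' hw')]
      exact hQsq w hw
    have hAconj : ∀ k ∈ A, p x * k * (p x)⁻¹ ∈ A := by
      rintro _ ⟨w, hw, rfl⟩
      have hw' := hTM _ (hQinT _ hw)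
      refine ⟨x * w * x⁻¹, ?_, by rw [p_mul _ (mul_mem hxM hw') _ (inv_mem hxM), p_mul _ hxM _ hw', p_inv _ hxM]⟩
      obtain ⟨c, hc, d, hd, qc, qd, rfl⟩ := hw
      rw [← hab, D.has_conj ha hb hc hd]
      exact ⟨_, sl_lt _ (sl_lt a ha c hc) _ hia, _, sl_lt _ (sl_lt b hb d hd) _ hib, sl_q_conj a ha c hc qc,
        sl_q_conj b hb d hd qd, rfl⟩
    have hAcomm : ∀ k ∈ A, ∀ l ∈ A, k * l = l * k := fun k hk l hl => by
      calc k * l = (k * l)⁻¹ := eq_inv_of_mul_eq_one_left (hAsq _ (mul_mem hk hl))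
        _ = l * k := by
          rw [mul_inv_rev, inv_eq_of_mul_eq_one_right (hAsq k hk), inv_eq_of_mul_eq_one_right (hAsq l hl)]
    have hAx : ∀ k ∈ A, p x * k = k * p x → k = 1 := fun k hk h => by
      rcases l32_cent_three (p x) hpx3 hpx1 k h with e | e | e
      · exact e
      · have := hAsq k hk
        rw [e] at this
        exact absurd (by rw [this, one_mul] at hpx3; exact hpx3) hpx1
      · have := hAsq k hk
        rw [e, show p x * p x * (p x * p x) = p x * p x * p x * p x by group, hpx3, one_mul] at this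
        exact absurd this hpx1
    have key : ∀ k : A, k.1 * (p x * k.1⁻¹ * (p x)⁻¹) ∈ A := fun k => mul_mem k.2 (hAconj _ (inv_mem k.2))
    let φ : A → A := fun k => ⟨k.1 * (p x * k.1⁻¹ * (p x)⁻¹), key k⟩
    have hφ : Function.Injective φ := by
      intro k l h
      have h' : k.1 * (p x * k.1⁻¹ * (p x)⁻¹) = l.1 * (p x * l.1⁻¹ * (p x)⁻¹) := congrArg Subtype.val h
      have c1 := hAcomm _ (inv_mem l.2) _ (key k)
      have e : l.1⁻¹ * k.1 = p x * (l.1⁻¹ * k.1) * (p x)⁻¹ := by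
        calc l.1⁻¹ * k.1 = l.1⁻¹ * (k.1 * (p x * k.1⁻¹ * (p x)⁻¹)) * (p x * k.1 * (p x)⁻¹) := by group
          _ = l.1⁻¹ * (l.1 * (p x * l.1⁻¹ * (p x)⁻¹)) * (p x * k.1 * (p x)⁻¹) := by rw [h']
          _ = _ := by group
      have := hAx _ (mul_mem (inv_mem l.2) k.2) (mul_inv_eq_iff_eq_mul.1 e.symm)
      exact Subtype.ext (inv_mul_eq_one.1 this).symm
    obtain ⟨k, hk⟩ := (Finite.injective_iff_surjective.1 hφ) ⟨p y, y, hyQ, rfl⟩
    have hk' : k.1 * (p x * k.1⁻¹ * (p x)⁻¹) = p y := congrArg Subtype.val hk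
    have hconj : p t * p x * (p t)⁻¹ = p y * p x := by
      rw [← p_inv _ htM, ← p_mul _ htM _ hxM, ← p_mul _ (mul_mem htM hxM) _ (inv_mem htM),
        ← p_mul _ (hTM _ (hQinT _ hyQ)) _ hxM, hxy]
    have hcomm : p x * (k.1⁻¹ * p t) = k.1⁻¹ * p t * p x := by
      calc p x * (k.1⁻¹ * p t) = k.1⁻¹ * (k.1 * (p x * k.1⁻¹ * (p x)⁻¹) * p x) * p t := by group
        _ = k.1⁻¹ * (p y * p x) * p t := by rw [hk']
        _ = k.1⁻¹ * (p t * p x * (p t)⁻¹) * p t := by rw [hconj]
        _ = _ := by group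
    obtain ⟨w, hw, hwk⟩ := k.2
    have hwM := hTM _ (hQinT _ hw)
    have hxp := l32_cent_three (p x) hpx3 hpx1 _ hcomm
    have ex : ∃ r, r ∈ M ∧ r ∈ H12 ∧ p r = k.1⁻¹ * p t := by
      rcases hxp with e | e | e
      · exact ⟨1, one_mem _, one_mem _, by rw [e]; exact (p_one 1 (one_mem _)).2 (one_mem _)⟩
      · exact ⟨x, hxM, hx12, e.symm⟩
      · exact ⟨x * x, mul_mem hxM hxM, mul_mem hx12 hx12, by rw [e, p_mul _ hxM _ hxM]⟩
    obtain ⟨r, hrM, hr12, hr⟩ := ex
    have hE' : (w * r)⁻¹ * t ∈ E := by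
      rw [← p_one _ (mul_mem (inv_mem (mul_mem hwM hrM)) htM), p_mul _ (inv_mem (mul_mem hwM hrM)) _ htM,
        p_inv _ (mul_mem hwM hrM), p_mul _ hwM _ hrM, hwk, hr, mul_inv_cancel_left, inv_mul_cancel]
    have := mul_mem (mul_mem (hQ12 _ hw) hr12) (hE12 _ hE')
    rw [mul_inv_cancel_left] at this
    exact ht12 this
  · -- t inverts x modulo Q
    rw [hA] at hm1
    constructor
    · have c0 := sl_coset a ha 6 (by norm_num) habne.1
      simp only [sl_q_basic.2.2.1, Bool.false_or, Bool.or_eq_true] at c0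
      rcases c0 with c0 | c0
      · -- 6 = q a⁻¹
        set q0 := slMul 6 a with hq0
        have lq : q0 < 24 := sl_lt 6 (by norm_num) a ha
        obtain ⟨q', hq', eq'⟩ := D.norm1 t (hTH t htT) q0 lq
        have qq' := q4 lq c0 hq' eq'
        have hu' : u6 = slMul q' (slInv a') := by
          refine D.pair.i1 _ hu6 _ (sl_lt q' hq' _ (sl_neg a' ha').2.2.1) ?_
          rw [D.pair.m1 _ hq' _ (sl_neg a' ha').2.2.1, D.g1_inv ha', ← eq', ← ea', ← e1, hq0,
            D.pair.m1 6 (by norm_num) a ha]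
          group
        have h6 : (6 : ℕ) = slMul q0 (slInv a) := by
          refine D.pair.i1 _ (by norm_num) _ (sl_lt q0 lq _ hia) ?_
          rw [D.pair.m1 _ lq _ hia, D.g1_inv ha, hq0, D.pair.m1 6 (by norm_num) a ha, mul_inv_cancel_right]
        have hinv := (sl_q_inv a' ha' a ha hA).2
        have chk : ((List.range 24).all fun q => !(inQ q) || (List.range 24).all fun r => !(inQ r) ||
            (List.range 24).all fun x => (List.range 24).all fun y => !(inQ (slMul x y)) ||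
              inQ (slMul (slMul r x) (slMul q y))) = true := by decide +kernel
        simp only [List.all_eq_true, List.mem_range, Bool.or_eq_true] at chk
        rw [hu', h6]
        simpa [c0, qq', hinv] using ((((chk q0 lq).resolve_left (by simp [c0])) q' hq').resolve_left
          (by simp [qq']) (slInv a') (sl_neg a' ha').2.2.1 (slInv a) hia).resolve_left (by simp [hinv])
      · set q0 := slMul 6 (slInv a) with hq0
        have lq : q0 < 24 := sl_lt 6 (by norm_num) _ hia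
        obtain ⟨q', hq', eq'⟩ := D.norm1 t (hTH t htT) q0 lq
        have qq' := q4 lq c0 hq' eq'
        have hu' : u6 = slMul q' a' := by
          refine D.pair.i1 _ hu6 _ (sl_lt q' hq' _ ha') ?_
          rw [D.pair.m1 _ hq' _ ha', ← eq', ← ea', ← e1, hq0, D.pair.m1 6 (by norm_num) _ hia, D.g1_inv ha]
          group
        have h6 : (6 : ℕ) = slMul q0 a := by
          refine D.pair.i1 _ (by norm_num) _ (sl_lt q0 lq _ ha) ?_
          rw [D.pair.m1 _ lq _ ha, hq0, D.pair.m1 6 (by norm_num) _ hia, D.g1_inv ha, inv_mul_cancel_right]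
        have chk : ((List.range 24).all fun q => !(inQ q) || (List.range 24).all fun r => !(inQ r) ||
            (List.range 24).all fun x => (List.range 24).all fun y => !(inQ (slMul x y)) ||
              inQ (slMul (slMul r x) (slMul q y))) = true := by decide +kernel
        simp only [List.all_eq_true, List.mem_range, Bool.or_eq_true] at chk
        rw [hu', h6]
        simpa [c0, qq', hA] using ((((chk q0 lq).resolve_left (by simp [c0])) q' hq').resolve_left
          (by simp [qq']) a' ha' a ha).resolve_left (by simp [hA])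
    · have hB : inQ (slMul b' b) = true := hm1.symm
      have c0 := sl_coset b hb 6 (by norm_num) habne.2
      simp only [sl_q_basic.2.2.1, Bool.false_or, Bool.or_eq_true] at c0
      rcases c0 with c0 | c0
      · set q0 := slMul 6 b with hq0
        have lq : q0 < 24 := sl_lt 6 (by norm_num) b hb
        obtain ⟨q', hq', eq'⟩ := D.norm2 t (hTH t htT) q0 lq
        have qq' := q4' lq c0 hq' eq'
        have hv' : v6 = slMul q' (slInv b') := by
          refine D.pair.i2 _ hv6 _ (sl_lt q' hq' _ (sl_neg b' hb').2.2.1) ?_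
          rw [D.pair.m2 _ hq' _ (sl_neg b' hb').2.2.1, D.g2_inv hb', ← eq', ← eb', ← e2, hq0,
            D.pair.m2 6 (by norm_num) b hb]
          group
        have h6 : (6 : ℕ) = slMul q0 (slInv b) := by
          refine D.pair.i2 _ (by norm_num) _ (sl_lt q0 lq _ hib) ?_
          rw [D.pair.m2 _ lq _ hib, D.g2_inv hb, hq0, D.pair.m2 6 (by norm_num) b hb, mul_inv_cancel_right]
        have hinv := (sl_q_inv b' hb' b hb hB).2
        have chk : ((List.range 24).all fun q => !(inQ q) || (List.range 24).all fun r => !(inQ r) ||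
            (List.range 24).all fun x => (List.range 24).all fun y => !(inQ (slMul x y)) ||
              inQ (slMul (slMul r x) (slMul q y))) = true := by decide +kernel
        simp only [List.all_eq_true, List.mem_range, Bool.or_eq_true] at chk
        rw [hv', h6]
        simpa [c0, qq', hinv] using ((((chk q0 lq).resolve_left (by simp [c0])) q' hq').resolve_left
          (by simp [qq']) (slInv b') (sl_neg b' hb').2.2.1 (slInv b) hib).resolve_left (by simp [hinv])
      · set q0 := slMul 6 (slInv b) with hq0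
        have lq : q0 < 24 := sl_lt 6 (by norm_num) _ hib
        obtain ⟨q', hq', eq'⟩ := D.norm2 t (hTH t htT) q0 lq
        have qq' := q4' lq c0 hq' eq'
        have hv' : v6 = slMul q' b' := by
          refine D.pair.i2 _ hv6 _ (sl_lt q' hq' _ hb') ?_
          rw [D.pair.m2 _ hq' _ hb', ← eq', ← eb', ← e2, hq0, D.pair.m2 6 (by norm_num) _ hib, D.g2_inv hb]
          group
        have h6 : (6 : ℕ) = slMul q0 b := by
          refine D.pair.i2 _ (by norm_num) _ (sl_lt q0 lq _ hb) ?_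
          rw [D.pair.m2 _ lq _ hb, hq0, D.pair.m2 6 (by norm_num) _ hib, D.g2_inv hb, inv_mul_cancel_right]
        have chk : ((List.range 24).all fun q => !(inQ q) || (List.range 24).all fun r => !(inQ r) ||
            (List.range 24).all fun x => (List.range 24).all fun y => !(inQ (slMul x y)) ||
              inQ (slMul (slMul r x) (slMul q y))) = true := by decide +kernel
        simp only [List.all_eq_true, List.mem_range, Bool.or_eq_true] at chk
        rw [hv', h6]
        simpa [c0, qq', hB] using ((((chk q0 lq).resolve_left (by simp [c0])) q' hq').resolve_left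
          (by simp [qq']) b' hb' b hb).resolve_left (by simp [hB])

end HData

end CfsgG23Two
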