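import Cfsg.Agent.Lib.G23Two.Two
import Cfsg.Prelude.Def_Amalgam

/-!
The normalizer of the subgroup of order three, and its sections.
-/

set_option autoImplicit false
set_option maxRecDepth 100000

namespace CfsgG23Two

open scoped Pointwise commutatorElement

variable {G : Type*} [Group G]

/-- The normalizer of the subgroup generated by f 6. -/
def A1 (f : ℕ → G) : Subgroup G := Subgroup.normalizer ((Subgroup.zpowers (f 6) : Subgroup G) : Set G)

/-- The centre of R inside R. -/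
def Zc (R : Subgroup G) : Subgroup G := R ⊓ Subgroup.centralizer (R : Set G)

theorem mem_Zc {R : Subgroup G} {x : G} : x ∈ Zc R ↔ x ∈ R ∧ ∀ r ∈ R, Commute r x :=
  Subgroup.mem_inf.trans (and_congr_right fun _ => Subgroup.mem_centralizer_iff.trans Iff.rfl)

theorem Zc_le (R : Subgroup G) : Zc R ≤ R := inf_le_left

variable {f : ℕ → G} {z : G}

namespace Emb

variable (e : Emb f z)
include e

theorem mem_A1 {g : G} : g ∈ A1 f ↔ g * f 6 * g⁻¹ = f 6 ∨ g * f 6 * g⁻¹ = f 9 := by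
  constructor
  · intro hg
    rcases e.inK_iff.2 ((Subgroup.mem_normalizer_iff.1 hg _).1 (Subgroup.mem_zpowers _)) with h | h | h
    · exact absurd (conj_eq_one_iff.1 h) e.f6_ne
    · exact Or.inl h
    · exact Or.inr h
  · intro hg
    have hm : ∀ k : G, (k * f 6 * k⁻¹ = f 6 ∨ k * f 6 * k⁻¹ = f 9) →
        ∀ x ∈ Subgroup.zpowers (f 6), k * x * k⁻¹ ∈ Subgroup.zpowers (f 6) := by
      intro k hk x hx
      obtain ⟨n, rfl⟩ := Subgroup.mem_zpowers_iff.1 hx
      rw [← conj_zpow]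
      refine Subgroup.zpow_mem _ ?_ n
      rcases hk with h | h <;> rw [h]
      · exact Subgroup.mem_zpowers _
      · rw [e.f9]; exact inv_mem (Subgroup.mem_zpowers _)
    have hinv : g⁻¹ * f 6 * g⁻¹⁻¹ = f 6 ∨ g⁻¹ * f 6 * g⁻¹⁻¹ = f 9 := by
      rcases hg with h | h
      · exact Or.inl (by nth_rw 1 [← h]; group)
      · refine Or.inr ?_
        have h' := congrArg (fun x => x⁻¹) h
        simp only [e.f9, inv_inv, ← conj_inv] at h'
        rw [e.f9]; nth_rw 1 [← h']; group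
    refine Subgroup.mem_normalizer_iff.2 fun x => ⟨hm g hg x, fun hx => ?_⟩
    have := hm _ hinv _ hx
    rwa [inv_inv, show g⁻¹ * (g * x * g⁻¹) * g = x by group] at this

theorem snd_A1 {c : ℕ} (hc : c < 24) : f (snd c) ∈ A1 f := e.mem_A1.2 (Or.inl (e.snd_f6 hc))

theorem z_A1 : z ∈ A1 f := e.snd_z ▸ e.snd_A1 (by norm_num : 12 < 24)

theorem t_A1 : f 288 ∈ A1 f :=
  e.mem_A1.2 (Or.inr (by
    rw [e.rel (by norm_num) (by norm_num) (by norm_num) (by norm_num) const_data.2.1, mul_inv_cancel_right]))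

end Emb

variable [Finite G]

namespace Side

variable {R : Subgroup G} {d : ℕ} (S : Side f z R d) (e : Emb f z)
include S e

theorem le_A1 : R ≤ A1 f := fun r hr => e.mem_A1.2 (Or.inl (by rw [(S.le r hr).eq, mul_inv_cancel_right]))

theorem Zc_conj {a : G} (ha : a ∈ A1 f) {x : G} (hx : x ∈ Zc R) : a * x * a⁻¹ ∈ Zc R := by
  obtain ⟨hxR, hxc⟩ := mem_Zc.1 hx
  refine mem_Zc.2 ⟨S.conj a (e.mem_A1.1 ha) x hxR, fun r hr => ?_⟩
  have h0 := S.conj a⁻¹ (e.mem_A1.1 (inv_mem ha)) r hr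
  rw [inv_inv] at h0
  have := (Commute.conj_iff a).2 (hxc _ h0)
  rwa [show a * (a⁻¹ * r * a) * a⁻¹ = r by group] at this

theorem K_le_Zc : Subgroup.zpowers (f 6) ≤ Zc R := fun x hx =>
  mem_Zc.2 ⟨S.memK x (e.inK_iff.2 hx), fun r hr => (S.kcen e (e.inK_iff.2 hx) hr).symm⟩

theorem normal_in {X : Subgroup G} (hKX : Subgroup.zpowers (f 6) ≤ X) (hXR : X ≤ R) {r x : G} (hr : r ∈ R)
    (hx : x ∈ X) : r * x * r⁻¹ ∈ X := by
  rw [show r * x * r⁻¹ = (r * x * r⁻¹ * x⁻¹) * x by group]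
  exact mul_mem (hKX (e.inK_iff.1 (S.comm r hr x (hXR hx)))) hx

/-- There are no invariant sections of order three. -/
theorem step {X Y : Subgroup G} (hKX : Subgroup.zpowers (f 6) ≤ X) (hXY : X ≤ Y) (hYR : Y ≤ R)
    (hX : ∀ a ∈ A1 f, ∀ x ∈ X, a * x * a⁻¹ ∈ X) (hY : ∀ a ∈ A1 f, ∀ y ∈ Y, a * y * a⁻¹ ∈ Y) :
    Nat.card Y ≠ 3 * Nat.card X := by
  intro hc
  haveI : Fact (Nat.Prime 3) := ⟨Nat.prime_three⟩
  obtain ⟨y, hy, hyX⟩ : ∃ y ∈ Y, y ∉ X := by
    by_contra hcon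
    have := Subgroup.card_le_of_le (show Y ≤ X from fun y hy => not_not.1 fun h => hcon ⟨y, hy, h⟩)
    have := Nat.card_pos (α := X)
    omega
  obtain ⟨c, i, hyi, hcK, hiR, hiz⟩ := S.split y (hYR hy)
  have hcX : c ∈ X := hKX (e.inK_iff.1 hcK)
  have hiY : i ∈ Y := (Subgroup.mul_mem_cancel_left _ (hXY hcX)).1 (hyi ▸ hy)
  have hiX : i ∉ X := fun h => hyX (hyi ▸ mul_mem hcX h)
  have hi3 : i ^ 3 = 1 := S.cube i hiR
  have hcov : ∀ v ∈ Y, ∃ x ∈ X, v = x ∨ v = i * x ∨ v = i⁻¹ * x := by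
    have h := CfsgLib.Signalizer.card_mul_mul_card_inf (Subgroup.zpowers i) X
    have hi : Nat.card (Subgroup.zpowers i ⊓ X : Subgroup G) = 1 := by
      rw [Subgroup.card_eq_one, eq_bot_iff]
      intro v hv
      obtain ⟨h1, h2⟩ := Subgroup.mem_inf.1 hv
      rcases pow_three_cases hi3 h1 with rfl | rfl | rfl
      · exact one_mem _
      · exact False.elim (hiX h2)
      · exact False.elim (hiX (inv_inv i ▸ inv_mem h2))
    have hi1 : i ≠ 1 := fun h => hiX (h ▸ one_mem X)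
    rw [hi, mul_one, Nat.card_zpowers, orderOf_eq_prime hi3 hi1, ← hc] at h
    have hset : ((Subgroup.zpowers i : Set G) * (X : Set G)) = (Y : Set G) := by
      refine Set.eq_of_subset_of_ncard_le ?_ ?_ (Set.toFinite _)
      · rintro _ ⟨a, ha, b, hb, rfl⟩; exact mul_mem (Subgroup.zpowers_le.2 hiY ha) (hXY hb)
      · rw [← Nat.card_coe_set_eq, ← Nat.card_coe_set_eq]; exact h.ge
    intro v hv
    rw [← SetLike.mem_coe, ← hset] at hv
    obtain ⟨a, ha, b, hb, rfl⟩ := hv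
    refine ⟨b, hb, ?_⟩
    rcases pow_three_cases hi3 ha with rfl | rfl | rfl
    exacts [Or.inl (one_mul _), Or.inr (Or.inl rfl), Or.inr (Or.inr rfl)]
  have tr : ∀ g ∈ A1 f, g ^ 3 = 1 → i⁻¹ * (g * i * g⁻¹) ∈ X := by
    intro g hg hg3
    obtain ⟨x, hx, h | h | h⟩ := hcov _ (hY g hg i hiY)
    · refine absurd ?_ hiX
      have := hX g⁻¹ (inv_mem hg) _ hx
      rwa [← h, inv_inv, show g⁻¹ * (g * i * g⁻¹) * g = i by group] at this
    · rw [h, inv_mul_cancel_left]; exact hx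
    · exfalso
      refine hiX ?_
      set x1 := g * x * g⁻¹ with hx1d
      have hx1 : x1 ∈ X := hX g hg x hx
      have h2 : g * (g * i * g⁻¹) * g⁻¹ = x⁻¹ * i * x1 := by
        rw [h, show g * (i⁻¹ * x) * g⁻¹ = (g * i * g⁻¹)⁻¹ * x1 by rw [hx1d]; group, h, mul_inv_rev, inv_inv]
      have hg3' : g * g = g⁻¹ := eq_inv_of_mul_eq_one_left (by rw [← hg3, pow_three, mul_assoc])
      have h3 : i = (g * x⁻¹ * g⁻¹) * (i⁻¹ * x) * (g * x1 * g⁻¹) := by
        calc i = g * ((g * g) * i * (g * g)⁻¹) * g⁻¹ := by rw [hg3']; group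
          _ = g * (g * (g * i * g⁻¹) * g⁻¹) * g⁻¹ := by group
          _ = (g * x⁻¹ * g⁻¹) * (g * i * g⁻¹) * (g * x1 * g⁻¹) := by rw [h2]; group
          _ = _ := by rw [h]
      set p := g * x⁻¹ * g⁻¹ with hp
      have hpX : p ∈ X := hX g hg _ (inv_mem hx)
      set q := x * (g * x1 * g⁻¹) with hq
      have hqX : q ∈ X := mul_mem hx (hX g hg _ hx1)
      have h4 : i = p * i⁻¹ * q := by
        calc i = p * (i⁻¹ * x) * (g * x1 * g⁻¹) := h3
          _ = _ := by rw [hq]; group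
      have hii : i * i ∈ X := by
        rw [show i * i = (i * p * i⁻¹) * q by nth_rw 2 [h4]; group]
        exact mul_mem (S.normal_in e hKX (hXY.trans hYR) hiR hpX) hqX
      rw [show i = (i * i) * (i * i) by
        calc i = i * i ^ 3 := by rw [hi3, mul_one]
          _ = _ := by rw [pow_three]; simp only [mul_assoc]]
      exact mul_mem hii hii
  have hmul : ∀ g h : G, g ∈ A1 f → i⁻¹ * (g * i * g⁻¹) ∈ X → i⁻¹ * (h * i * h⁻¹) ∈ X →
      i⁻¹ * (g * h * i * (g * h)⁻¹) ∈ X := by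
    intro g h hgA hg hh
    rw [show i⁻¹ * (g * h * i * (g * h)⁻¹) =
      (i⁻¹ * (g * i * g⁻¹)) * (g * (i⁻¹ * (h * i * h⁻¹)) * g⁻¹) by group]
    exact mul_mem hg (hX g hgA _ hh)
  have m72 : f 72 ∈ A1 f := snd_table.2.2.2.1 ▸ e.snd_A1 (by norm_num : 6 < 24)
  have s60 : snd 5 = 60 := by decide +kernel
  have m60 : f 60 ∈ A1 f := s60 ▸ e.snd_A1 (by norm_num : 5 < 24)
  have h60 : f 60 ^ 3 = 1 := by rw [← e.pow (by norm_num), show powM 60 3 = 0 by decide +kernel, e.one]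
  have t72 := tr _ m72 e.f72_three
  have t60 := tr _ m60 h60
  obtain ⟨c0, c1, c2, c3, c4, c5, c6, c7, c8, c9, c10, c11, c12, c13, c14, c15, c16, c17, c18, c19, c20, c21, c22, c23⟩ :=
    const_data
  have hz : i⁻¹ * (z * i * z⁻¹) ∈ X := by
    rw [← e.hz, ← c19, e.mul _ (mulM_lt (mulM_lt (mulM_lt (mulM_lt (by norm_num))))) _ (by norm_num),
      e.mul _ (mulM_lt (mulM_lt (mulM_lt (by norm_num)))) _ (by norm_num),
      e.mul _ (mulM_lt (mulM_lt (by norm_num))) _ (by norm_num), e.mul _ (mulM_lt (by norm_num)) _ (by norm_num),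
      e.mul _ (by norm_num) _ (by norm_num)]
    have a1 := hmul _ _ m72 t72 t72
    have a2 := hmul _ _ (mul_mem m72 m72) a1 t60
    have a3 := hmul _ _ (mul_mem (mul_mem m72 m72) m60) a2 t72
    have a4 := hmul _ _ (mul_mem (mul_mem (mul_mem m72 m72) m60) m72) a3 t72
    exact hmul _ _ (mul_mem (mul_mem (mul_mem (mul_mem m72 m72) m60) m72) m72) a4 t60
  rw [hiz] at hz
  refine hiX ?_
  rw [show i = i⁻¹ * i⁻¹ by
    calc i = i ^ 3 * (i⁻¹ * i⁻¹) := by group
      _ = _ := by rw [hi3, one_mul]]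
  exact hz

/-- The kernel of a section of order nine. -/
theorem section_kernel {X Y : Subgroup G} (hKX : Subgroup.zpowers (f 6) ≤ X) (hXY : X ≤ Y) (hYR : Y ≤ R)
    (hne : Nat.card X < Nat.card Y) (hX : ∀ a ∈ A1 f, ∀ x ∈ X, a * x * a⁻¹ ∈ X)
    (hY : ∀ a ∈ A1 f, ∀ y ∈ Y, a * y * a⁻¹ ∈ Y) (hRY : ∀ r ∈ R, ∀ y ∈ Y, r * y * r⁻¹ * y⁻¹ ∈ X)
    {a : G} (ha : a ∈ A1 f) : a ∈ R ↔ ∀ y ∈ Y, a * y * a⁻¹ * y⁻¹ ∈ X := by
  refine ⟨fun h y hy => hRY a h y hy, fun htriv => ?_⟩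
  set A := A1 f with hA
  let Kr : Subgroup A :=
    { carrier := {g : A | ∀ y ∈ Y, (g : G) * y * (g : G)⁻¹ * y⁻¹ ∈ X}
      one_mem' := fun y hy => by simp
      mul_mem' := by
        intro g h hg hh y hy
        show ((g * h : A) : G) * y * ((g * h : A) : G)⁻¹ * y⁻¹ ∈ X
        rw [Subgroup.coe_mul, show (g : G) * h * y * ((g : G) * h)⁻¹ * y⁻¹ =
          ((g : G) * ((h : G) * y * (h : G)⁻¹ * y⁻¹) * (g : G)⁻¹) * ((g : G) * y * (g : G)⁻¹ * y⁻¹) by group]
        exact mul_mem (hX g g.2 _ (hh y hy)) (hg y hy)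
      inv_mem' := by
        intro g hg y hy
        show ((g⁻¹ : A) : G) * y * ((g⁻¹ : A) : G)⁻¹ * y⁻¹ ∈ X
        rw [Subgroup.coe_inv, show (g : G)⁻¹ * y * (g : G)⁻¹⁻¹ * y⁻¹ =
          (g : G)⁻¹ * ((g : G) * y * (g : G)⁻¹ * y⁻¹)⁻¹ * (g : G)⁻¹⁻¹ by group]
        exact hX _ (inv_mem g.2) _ (inv_mem (hg y hy)) }
  haveI hKn : Kr.Normal := ⟨fun k hk g y hy => by
    have hy' : (g : G)⁻¹ * y * g ∈ Y := by
      have := hY _ (inv_mem g.2) y hy
      rwa [inv_inv] at this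
    show ((g * k * g⁻¹ : A) : G) * y * ((g * k * g⁻¹ : A) : G)⁻¹ * y⁻¹ ∈ X
    rw [Subgroup.coe_mul, Subgroup.coe_mul, Subgroup.coe_inv,
      show (g : G) * k * (g : G)⁻¹ * y * ((g : G) * k * (g : G)⁻¹)⁻¹ * y⁻¹ =
      (g : G) * ((k : G) * ((g : G)⁻¹ * y * g) * (k : G)⁻¹ * ((g : G)⁻¹ * y * g)⁻¹) * (g : G)⁻¹ by group]
    exact hX g g.2 _ (hk _ hy')⟩
  have hzK : (⟨z, e.z_A1⟩ : A) ∉ Kr := by
    intro h
    obtain ⟨y, hy, hyX⟩ : ∃ y ∈ Y, y ∉ X := by
      by_contra hcon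
      have := Subgroup.card_le_of_le (show Y ≤ X from fun y hy => not_not.1 fun h => hcon ⟨y, hy, h⟩)
      omega
    obtain ⟨c, i, hyi, hcK, hiR, hiz⟩ := S.split y (hYR hy)
    have hcX : c ∈ X := hKX (e.inK_iff.1 hcK)
    have hiY : i ∈ Y := (Subgroup.mul_mem_cancel_left _ (hXY hcX)).1 (hyi ▸ hy)
    have h2 : z * i * z⁻¹ * i⁻¹ ∈ X := h i hiY
    rw [hiz] at h2
    refine hyX (hyi ▸ mul_mem hcX ?_)
    rw [show i = i⁻¹ * i⁻¹ by
      calc i = i ^ 3 * (i⁻¹ * i⁻¹) := by group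
        _ = _ := by rw [S.cube i hiR, one_mul]]
    exact h2
  set π := QuotientGroup.mk' Kr
  have πeq : ∀ g : A, π g = 1 ↔ g ∈ Kr := fun g => QuotientGroup.eq_one_iff g
  have hR : ∀ r (hr : r ∈ R), π ⟨r, S.le_A1 e hr⟩ = 1 := fun r hr => (πeq _).2 fun y hy => hRY r hr y hy
  have hker : ∀ b (hb : b < 24), π ⟨f (snd b), e.snd_A1 hb⟩ = 1 → b = 0 := by
    intro b hb h
    refine e.ker_trivial (Kr := Kr.map A.subtype) ?_ ?_ hb ⟨_, (πeq _).1 h, rfl⟩
    · rintro c hc _ ⟨k, hk, rfl⟩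
      exact ⟨_, hKn.conj_mem k hk ⟨f (snd c), e.snd_A1 hc⟩, rfl⟩
    · rintro ⟨g, hg, hge⟩
      exact hzK (by rw [show (⟨z, e.z_A1⟩ : A) = g from Subtype.ext hge.symm]; exact hg)
  have hdec : ∀ g : A, Commute (g : G) (f 6) → ∃ b, ∃ hb : b < 24,
      π g = π ⟨f (snd b), e.snd_A1 hb⟩ ∧ ∃ r ∈ R, (g : G) = r * f (snd b) := by
    intro g hg
    obtain ⟨r, hr, b, hb, hgb⟩ := S.decomp g hg
    refine ⟨b, hb, ?_, r, hr, hgb⟩
    rw [show g = ⟨r, S.le_A1 e hr⟩ * ⟨f (snd b), e.snd_A1 hb⟩ from Subtype.ext hgb, map_mul, hR r hr, one_mul]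
  have haK : π ⟨a, ha⟩ = 1 := (πeq _).2 htriv
  rcases e.mem_A1.1 ha with h6 | h9
  · obtain ⟨b, hb, hπ, r, hr, hgb⟩ := hdec ⟨a, ha⟩ (mul_inv_eq_iff_eq_mul.1 h6)
    have hgb' : a = r * f (snd b) := hgb
    obtain rfl := hker b hb (hπ.symm.trans haK)
    rw [hgb', snd_table.2.1, e.one, mul_one]
    exact hr
  · exfalso
    obtain ⟨c0, c1, c2, c3, c4, c5, c6, c7, c8, c9, c10, c11, c12, c13, c14, c15, c16, c17, c18, c19, c20, c21, c22, c23⟩ :=
      const_data
    set T : A := ⟨f 288, e.t_A1⟩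
    have hT2 : T * T = 1 := Subtype.ext (e.rel0 (by norm_num) (by norm_num) c0)
    have hc : Commute (a * f 288) (f 6) := by
      refine mul_inv_eq_iff_eq_mul.1 ?_
      rw [show a * f 288 * f 6 * (a * f 288)⁻¹ = a * (f 288 * f 6 * (f 288)⁻¹) * a⁻¹ by group,
        e.rel (show 288 < 576 by norm_num) (show 6 < 576 by norm_num) (show 9 < 576 by norm_num)
          (show 288 < 576 by norm_num) c1, mul_inv_cancel_right, e.f9, ← conj_inv, h9, e.f9, inv_inv]
    obtain ⟨b, hb, hπ, -⟩ := hdec (⟨a, ha⟩ * T) hc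
    rw [map_mul, haK, one_mul] at hπ
    have hzA : (⟨f (snd 12), e.snd_A1 (by norm_num)⟩ : A) = ⟨z, e.z_A1⟩ := Subtype.ext e.snd_z
    have hsq : slMul b b = 0 := by
      refine hker _ (sl_lt b hb b hb) ?_
      rw [show (⟨f (snd (slMul b b)), e.snd_A1 (sl_lt b hb b hb)⟩ : A) =
        ⟨f (snd b), e.snd_A1 hb⟩ * ⟨f (snd b), e.snd_A1 hb⟩ from Subtype.ext (e.snd_mul hb hb), map_mul, ← hπ,
        ← map_mul, hT2, map_one]
    set B : A := ⟨f 12, e.mem_A1.2 (Or.inl (by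
      rw [e.rel (by norm_num) (by norm_num) (by norm_num) (by norm_num) c6, mul_inv_cancel_right]))⟩
    have hBT : B * T * B⁻¹ = ⟨z, e.z_A1⟩ * T := Subtype.ext (by
      show f 12 * f 288 * (f 12)⁻¹ = z * f 288
      rw [e.rel (show 12 < 576 by norm_num) (show 288 < 576 by norm_num) (show 432 < 576 by norm_num)
        (show 12 < 576 by norm_num) c5, mul_inv_cancel_right, ← e.hz, ← e.mul _ (by norm_num [zM]) _ (by norm_num), c4])
    have hBz : B * ⟨z, e.z_A1⟩ * B⁻¹ = ⟨z, e.z_A1⟩ := Subtype.ext (by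
      show f 12 * z * (f 12)⁻¹ = z
      rw [(e.comm (show 12 < 576 by norm_num)).eq, mul_inv_cancel_right])
    have hcon := congrArg π hBT
    rw [map_mul, map_mul, map_inv, map_mul] at hcon
    rcases sl_sq_one b hb hsq with rfl | rfl
    · have h1 : π T = 1 := hπ.trans ((πeq _).2 (by
        intro y hy; show f (snd 0) * y * (f (snd 0))⁻¹ * y⁻¹ ∈ X
        rw [snd_table.2.1, e.one]; simp))
      rw [h1, mul_one, mul_one, mul_inv_cancel] at hcon
      exact hzK ((πeq _).1 hcon.symm)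
    · have h1 : π T = π ⟨z, e.z_A1⟩ := by rw [hπ, hzA]
      have h2 := congrArg π hBz
      rw [map_mul, map_mul, map_inv] at h2
      rw [h1, h2] at hcon
      exact hzK ((πeq _).1 (mul_eq_left.1 hcon.symm))

theorem cardA1 : Nat.card (A1 f) = 48 * Nat.card R := by
  obtain ⟨c0, c1, -⟩ := const_data
  set C := Subgroup.centralizer ({f 6} : Set G)
  have hCA : C ≤ A1 f := fun g hg => e.mem_A1.2 (Or.inl (by
    rw [Subgroup.mem_centralizer_singleton_iff.1 hg, mul_inv_cancel_right]))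
  have ht : f 288 * f 288 = 1 := e.rel0 (by norm_num) (by norm_num) c0
  have n288 : f 288 * f 6 * (f 288)⁻¹ = f 9 := by
    rw [e.rel (show 288 < 576 by norm_num) (show 6 < 576 by norm_num) (show 9 < 576 by norm_num)
      (show 288 < 576 by norm_num) c1, mul_inv_cancel_right]
  have hne : f 6 ≠ f 9 := fun h => by have := e.inj 6 (by norm_num) 9 (by norm_num) h; omega
  have eqv : C ⊕ C ≃ A1 f := Equiv.ofBijective
    (Sum.elim (fun c => ⟨c.1, hCA c.2⟩) (fun c => ⟨c.1 * f 288, mul_mem (hCA c.2) e.t_A1⟩)) ⟨?_, ?_⟩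
  · rw [← Nat.card_congr eqv, Nat.card_sum, S.cardC]; ring
  · have hx : ∀ c c' : C, c.1 ≠ c'.1 * f 288 := fun c c' h => by
      have hc : f 288 ∈ C := by
        rw [show f 288 = c'.1⁻¹ * c.1 by rw [h, inv_mul_cancel_left]]
        exact mul_mem (inv_mem c'.2) c.2
      rw [Subgroup.mem_centralizer_singleton_iff.1 hc, mul_inv_cancel_right] at n288
      exact hne n288
    rintro (c | c) (c' | c') h <;> have h' := congrArg Subtype.val h <;> simp only [Sum.elim_inl, Sum.elim_inr] at h'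
    · exact congrArg Sum.inl (Subtype.ext h')
    · exact absurd h' (hx c c')
    · exact absurd h'.symm (hx c' c)
    · exact congrArg Sum.inr (Subtype.ext (mul_right_cancel h'))
  · rintro ⟨g, hg⟩
    rcases e.mem_A1.1 hg with h | h
    · exact ⟨Sum.inl ⟨g, Subgroup.mem_centralizer_singleton_iff.2 (mul_inv_eq_iff_eq_mul.1 h)⟩, rfl⟩
    · refine ⟨Sum.inr ⟨g * f 288, Subgroup.mem_centralizer_singleton_iff.2 (mul_inv_eq_iff_eq_mul.1 ?_)⟩,
        Subtype.ext (by show g * f 288 * f 288 = g; rw [mul_assoc, ht, mul_one])⟩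
      rw [show g * f 288 * f 6 * (g * f 288)⁻¹ = g * (f 288 * f 6 * (f 288)⁻¹) * g⁻¹ by group, n288, e.f9,
        ← conj_inv, h, e.f9, inv_inv]

theorem core_eq (hR : Nat.card R = 243) (hG : Nat.card G = 4245696) : Cfsg.pCoreOf 3 (A1 f) = R := by
  haveI : Fact (Nat.Prime 3) := ⟨Nat.prime_three⟩
  refine le_antisymm ?_ ?_
  · unfold Cfsg.pCoreOf Cfsg.pCore
    rw [Subgroup.map_le_iff_le_comap]
    refine sSup_le fun P hP => ?_
    obtain ⟨hPn, hPp⟩ := hP
    intro a ha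
    by_contra hnot
    obtain ⟨n, hn⟩ := hPp.exists_card_eq
    set Q := P.map (A1 f).subtype with hQ
    have hQc : Nat.card Q = 3 ^ n := by rw [hQ, Subgroup.card_map_of_injective (A1 f).subtype_injective, hn]
    have hQA : Q ≤ A1 f := Subgroup.map_subtype_le _
    have hQn : ∀ c ∈ A1 f, ∀ x ∈ Q, c * x * c⁻¹ ∈ Q := by
      rintro c hc _ ⟨x, hx, rfl⟩
      exact ⟨⟨c, hc⟩ * x * ⟨c, hc⟩⁻¹, hPn.conj_mem x hx ⟨c, hc⟩, rfl⟩
    have sub : ∀ T : Subgroup G, Nat.card T = 729 → T ≤ A1 f → Q ≤ T := fun T hT hTA =>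
      le_of_normal hG hTA hT hQA hQc hQn
    obtain ⟨T, hRT, h72T, cT, hT, hT6⟩ := S.exists_S1 e
    rw [hR] at cT
    have hTA : T ≤ A1 f := fun x hx => e.mem_A1.2 (Or.inl (by rw [(hT6 x hx).eq, mul_inv_cancel_right]))
    have haT := sub T cT hTA ⟨a, ha, rfl⟩
    obtain ⟨r, hr, k, hak, hk⟩ := hT _ haT
    have hak' : (a : G) = r * k := hak
    have c18 : mulM 12 72 = mulM 60 12 := by decide +kernel
    have hb : f 12 ∈ A1 f := e.mem_A1.2 (Or.inl (by
      rw [e.rel (show 12 < 576 by norm_num) (show 6 < 576 by norm_num) (show 6 < 576 by norm_num)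
        (show 12 < 576 by norm_num) const_data.2.2.2.2.2.2.1, mul_inv_cancel_right]))
    have hb' : (f 12)⁻¹ * (a : G) * f 12 ∈ T := by
      refine sub T cT hTA ?_
      have := hQn _ (inv_mem hb) _ ⟨a, ha, rfl⟩
      simpa using this
    obtain ⟨r', hr', k', hak2, hk'⟩ := hT _ hb'
    rcases hk with rfl | hk
    · exact hnot (show (a : G) ∈ R by rw [hak', mul_one]; exact hr)
    -- conjugating gives the other element of order three
    have hbR : (f 12)⁻¹ * r * f 12 ∈ R := by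
      have := S.conj _ (e.mem_A1.1 (inv_mem hb)) r hr
      rwa [inv_inv] at this
    have hkk : (f 12)⁻¹ * k * f 12 = ((f 12)⁻¹ * r * f 12)⁻¹ * r' * k' := by
      calc (f 12)⁻¹ * k * f 12 = ((f 12)⁻¹ * r * f 12)⁻¹ * ((f 12)⁻¹ * a * f 12) := by rw [hak']; group
        _ = _ := by rw [hak2]; group
    have hm : (f 12)⁻¹ * k * f 12 * k'⁻¹ ∈ R := by
      rw [hkk, mul_inv_cancel_right]; exact mul_mem (inv_mem hbR) hr'
    have h108 : f 108 = (f 72)⁻¹ :=
      (inv_eq_of_mul_eq_one_right (e.rel0 (by norm_num) (by norm_num) const_data.2.2.2.2.2.2.2.2.1)).symm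
    obtain ⟨i, hi, hik⟩ : ∃ i ∈ [72, 108], f i = k := by
      rcases hk with h | h <;> rw [h]
      exacts [⟨72, by simp, rfl⟩, ⟨108, by simp, h108⟩]
    obtain ⟨j, hj, hjk⟩ : ∃ j ∈ [0, 72, 108], f j = k'⁻¹ := by
      rcases hk' with h | h | h <;> rw [h]
      exacts [⟨0, by simp, by rw [e.one, inv_one]⟩, ⟨108, by simp, h108⟩, ⟨72, by simp, (inv_inv _).symm⟩]
    have hi' : i < 576 := by simp only [List.mem_cons, List.not_mem_nil, or_false] at hi; omega
    have hj' : j < 576 := by simp only [List.mem_cons, List.not_mem_nil, or_false] at hj; omega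
    have hbi : f 156 = (f 12)⁻¹ :=
      (inv_eq_of_mul_eq_one_right (e.rel0 (by norm_num) (by norm_num) (by decide +kernel))).symm
    rw [← hik, ← hjk, ← hbi, ← e.mul _ (by norm_num) _ hi', ← e.mul _ (mulM_lt (by norm_num)) _ (by norm_num),
      ← e.mul _ (mulM_lt (mulM_lt (by norm_num))) _ hj'] at hm
    have tbl : ∀ i ∈ [72, 108], ∀ j ∈ [0, 72, 108], ∀ a ∈ [0, 6, 9], mulM (mulM (mulM 156 i) 12) j ≠ a := by
      decide +kernel
    obtain ⟨c, hc, hce⟩ := e.inK_idx (S.fixz _ hm (e.comm (mulM_lt (mulM_lt (mulM_lt (by norm_num))))))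
    refine tbl i hi j hj c hc (e.inj _ (mulM_lt (mulM_lt (mulM_lt (by norm_num)))) c ?_ hce.symm)
    simp only [List.mem_cons, List.not_mem_nil, or_false] at hc
    omega
  · intro r hr
    refine ⟨⟨r, S.le_A1 e hr⟩, ?_, rfl⟩
    have hmem : R.subgroupOf (A1 f) ∈ {N : Subgroup (A1 f) | N.Normal ∧ IsPGroup 3 N} := by
      refine ⟨⟨fun x hx g => S.conj g.1 (e.mem_A1.1 g.2) x.1 hx⟩, ?_⟩
      exact IsPGroup.of_card (n := 5) (by
        rw [Nat.card_congr (Subgroup.subgroupOfEquivOfLe (S.le_A1 e)).toEquiv, hR]; norm_num)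
    exact (le_sSup hmem : R.subgroupOf (A1 f) ≤ _) (show (⟨r, S.le_A1 e hr⟩ : A1 f) ∈ R.subgroupOf (A1 f) from hr)

end Side

namespace Duo

variable {f' : ℕ → G} {z' : G} {R R' S1 : Subgroup G} (D : Duo f f' z z' R R' S1)
include D

theorem cardR : Nat.card R = 243 := by rw [D.S.card]

theorem f'6_Zc : f' 6 ∈ Zc R := mem_Zc.2 D.f'6_mem

theorem card_Zc : Nat.card (Zc R) = 27 := by
  haveI : Fact (Nat.Prime 3) := ⟨Nat.prime_three⟩
  obtain ⟨j, hj, hje⟩ := (Nat.dvd_prime_pow Nat.prime_three (m := 5)).1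
    (show Nat.card (Zc R) ∣ 3 ^ 5 by
      rw [show (3 : ℕ) ^ 5 = Nat.card R by rw [D.cardR]; norm_num]; exact Subgroup.card_dvd_of_le (Zc_le R))
  have hgt : 3 < Nat.card (Zc R) := by
    rw [← D.e.card_K]
    refine lt_of_le_of_ne (Subgroup.card_le_of_le (D.S.K_le_Zc D.e)) fun h => ?_
    rcases D.e.inK_iff.2 ((Subgroup.eq_of_le_of_card_ge (D.S.K_le_Zc D.e) h.ge).symm ▸ D.f'6_Zc) with h1 | h1 | h1
    · exact D.e'.f6_ne h1
    · exact D.nc 1 (Or.inl (by rw [h1]; group))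
    · exact D.nc 1 (Or.inr (by rw [D.e'.f9, h1, D.e.f9]; group))
  have h9 : Nat.card (Zc R) ≠ 9 := by
    intro h
    exact D.S.step D.e le_rfl (D.S.K_le_Zc D.e) (Zc_le R)
      (fun a ha x hx => (Subgroup.mem_normalizer_iff.1 ha x).1 hx) (fun a ha x hx => D.S.Zc_conj D.e ha hx)
      (by rw [h, D.e.card_K])
  have h81 : Nat.card (Zc R) ≠ 81 := by
    intro h
    obtain ⟨r, hr, hrZ⟩ : ∃ r ∈ R, r ∉ Zc R := by
      by_contra hcon
      have := Subgroup.card_le_of_le (show R ≤ Zc R from fun r hr => not_not.1 fun hh => hcon ⟨r, hr, hh⟩)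
      rw [D.cardR, h] at this
      omega
    set B := R ⊓ Subgroup.centralizer ({r} : Set G)
    have hZB : Zc R ≤ B := fun x hx =>
      Subgroup.mem_inf.2 ⟨(mem_Zc.1 hx).1, Subgroup.mem_centralizer_singleton_iff.2 ((mem_Zc.1 hx).2 r hr).symm.eq⟩
    have hBR : B = R := by
      refine Subgroup.eq_of_le_of_card_ge inf_le_left ?_
      obtain ⟨i, hi, hie⟩ := (Nat.dvd_prime_pow Nat.prime_three (m := 5)).1
        (show Nat.card B ∣ 3 ^ 5 by
          rw [show (3 : ℕ) ^ 5 = Nat.card R by rw [D.cardR]; norm_num]; exact Subgroup.card_dvd_of_le inf_le_left)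
      have hlt : 81 < Nat.card B := by
        rw [← h]
        refine lt_of_le_of_ne (Subgroup.card_le_of_le hZB) fun hh => hrZ ?_
        exact (Subgroup.eq_of_le_of_card_ge hZB hh.ge).symm ▸
          Subgroup.mem_inf.2 ⟨hr, Subgroup.mem_centralizer_singleton_iff.2 rfl⟩
      rw [D.cardR]
      rw [hie] at hlt ⊢
      interval_cases i <;> omega
    refine hrZ (mem_Zc.2 ⟨hr, fun s hs => ?_⟩)
    exact Subgroup.mem_centralizer_singleton_iff.1 (Subgroup.mem_inf.1 (hBR.symm ▸ hs)).2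
  have h243 : Nat.card (Zc R) ≠ 243 := by
    intro h
    have he : Zc R = R := Subgroup.eq_of_le_of_card_ge (Zc_le R) (by rw [h, D.cardR])
    exact D.not_abelian fun r hr s hs => (mem_Zc.1 (he.symm ▸ hs)).2 r hr
  rw [hje] at hgt h9 h81 h243 ⊢
  interval_cases j <;> omega

theorem derived : ⁅R, R⁆ = Subgroup.zpowers (f 6) := by
  haveI : Fact (Nat.Prime 3) := ⟨Nat.prime_three⟩
  have hle : ⁅R, R⁆ ≤ Subgroup.zpowers (f 6) := Subgroup.commutator_le.2 fun a ha b hb => by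
    rw [commutatorElement_def]; exact D.e.inK_iff.1 (D.S.comm a ha b hb)
  rcases (Nat.dvd_prime Nat.prime_three).1 (D.e.card_K ▸ Subgroup.card_dvd_of_le hle) with h | h
  · rw [Subgroup.card_eq_one, Subgroup.commutator_eq_bot_iff_le_centralizer] at h
    exact absurd (fun r hr s hs => (Subgroup.mem_centralizer_iff.1 (h hr) s hs).symm) D.not_abelian
  · exact Subgroup.eq_of_le_of_card_ge hle (by rw [h, D.e.card_K])

theorem mem_R_iff_low {a : G} (ha : a ∈ A1 f) :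
    a ∈ R ↔ ∀ y ∈ Zc R, a * y * a⁻¹ * y⁻¹ ∈ Subgroup.zpowers (f 6) := by
  refine D.S.section_kernel D.e le_rfl (D.S.K_le_Zc D.e) (Zc_le R) (by rw [D.e.card_K, D.card_Zc]; norm_num)
    (fun b hb x hx => (Subgroup.mem_normalizer_iff.1 hb x).1 hx) (fun b hb x hx => D.S.Zc_conj D.e hb hx) ?_ ha
  exact fun r hr y hy => D.e.inK_iff.1 (D.S.comm r hr y (Zc_le R hy))

theorem mem_R_iff_high {a : G} (ha : a ∈ A1 f) : a ∈ R ↔ ∀ y ∈ R, a * y * a⁻¹ * y⁻¹ ∈ Zc R := by
  refine D.S.section_kernel D.e (D.S.K_le_Zc D.e) (Zc_le R) le_rfl (by rw [D.card_Zc, D.cardR]; norm_num)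
    (fun b hb x hx => D.S.Zc_conj D.e hb hx) (fun b hb x hx => D.S.conj b (D.e.mem_A1.1 hb) x hx) ?_ ha
  exact fun r hr y hy => D.S.K_le_Zc D.e (D.e.inK_iff.1 (D.S.comm r hr y hy))

/-- The quotient is GL2(3). -/
theorem quotient [hn : (R.subgroupOf (A1 f)).Normal] :
    Nonempty (↥(A1 f) ⧸ R.subgroupOf (A1 f) ≃* GL (Fin 2) (ZMod 3)) := by
  haveI : Fact (Nat.Prime 3) := ⟨Nat.prime_three⟩
  set A := A1 f
  set K := (Subgroup.zpowers (f 6)).subgroupOf (Zc R) with hK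
  have hcomm : ∀ a b : Zc R, a * b = b * a := fun a b =>
    Subtype.ext ((mem_Zc.1 b.2).2 _ (Zc_le R a.2)).eq
  haveI hKn : K.Normal := ⟨fun k hk g => by rw [hcomm g k, mul_inv_cancel_right]; exact hk⟩
  let V := Zc R ⧸ K
  letI : CommGroup V :=
    { (inferInstance : Group (Zc R ⧸ K)) with
      mul_comm := fun a b => by
        obtain ⟨x, rfl⟩ := QuotientGroup.mk'_surjective K a
        obtain ⟨y, rfl⟩ := QuotientGroup.mk'_surjective K b
        rw [← map_mul, ← map_mul, hcomm x y] }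
  let W := Additive V
  have h3 : ∀ x : W, 3 • x = 0 := by
    intro x
    obtain ⟨y, hy⟩ := QuotientGroup.mk'_surjective K x.toMul
    apply Additive.toMul.injective
    rw [toMul_nsmul, toMul_zero, ← hy, ← map_pow,
      show y ^ 3 = 1 from Subtype.ext (by push_cast; exact D.S.cube y (Zc_le R y.2)), map_one]
  letI : Module (ZMod 3) W := AddCommGroup.zmodModule h3
  haveI : Finite W := inferInstanceAs (Finite (Zc R ⧸ K))
  haveI : FiniteDimensional (ZMod 3) W := Module.Finite.of_finite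
  have hW : Nat.card W = 9 := by
    show Nat.card (Zc R ⧸ K) = 9
    have h := Subgroup.card_mul_index K
    rw [Nat.card_congr (Subgroup.subgroupOfEquivOfLe (D.S.K_le_Zc D.e)).toEquiv, D.e.card_K, D.card_Zc,
      Subgroup.index_eq_card] at h
    omega
  have hd : Module.finrank (ZMod 3) W = 2 := by
    have h := Module.natCard_eq_pow_finrank (K := ZMod 3) (V := W)
    rw [hW, Nat.card_zmod, show 9 = 3 ^ 2 by norm_num] at h
    exact (Nat.pow_right_injective (by norm_num : 2 ≤ 3) h).symm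
  let cj : A → Zc R →* Zc R := fun a =>
    MonoidHom.mk' (fun y => ⟨(a : G) * y * (a : G)⁻¹, D.S.Zc_conj D.e a.2 y.2⟩)
      fun x y => Subtype.ext (by push_cast; group)
  have hcj : ∀ a, K ≤ K.comap (cj a) := fun a k hk => (Subgroup.mem_normalizer_iff.1 a.2 _).1 hk
  let q : A → W →+ W := fun a => MonoidHom.toAdditive (QuotientGroup.map K K (cj a) (hcj a))
  have hq : ∀ a (y : Zc R), q a (Additive.ofMul ((y : V))) = Additive.ofMul ((cj a y : Zc R) : V) := fun a y => rfl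
  have hsurj : ∀ x : W, ∃ y : Zc R, Additive.ofMul ((y : V)) = x := fun x => by
    obtain ⟨y, hy⟩ := QuotientGroup.mk'_surjective K x.toMul
    exact ⟨y, congrArg Additive.ofMul hy⟩
  have hmul : ∀ a b x, q (a * b) x = q a (q b x) := by
    intro a b x
    obtain ⟨y, rfl⟩ := hsurj x
    rw [hq, hq, hq]
    refine congrArg (fun w : Zc R => Additive.ofMul (w : V)) (Subtype.ext ?_)
    show ((a * b : A) : G) * (y : G) * ((a * b : A) : G)⁻¹ = (a : G) * ((b : G) * y * (b : G)⁻¹) * (a : G)⁻¹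
    push_cast; group
  have hone : ∀ x, q 1 x = x := by
    intro x
    obtain ⟨y, rfl⟩ := hsurj x
    rw [hq]
    refine congrArg (fun w : Zc R => Additive.ofMul (w : V)) (Subtype.ext ?_)
    show ((1 : A) : G) * (y : G) * ((1 : A) : G)⁻¹ = y
    push_cast; group
  let L : A → (W ≃ₗ[ZMod 3] W) := fun a =>
    AddEquiv.toLinearEquiv
      { toFun := q a, invFun := q a⁻¹
        left_inv := fun x => by rw [← hmul, inv_mul_cancel, hone]
        right_inv := fun x => by rw [← hmul, mul_inv_cancel, hone]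
        map_add' := map_add (q a) }
      fun c x => ZMod.map_smul (q a) c x
  let ρ : A →* (W ≃ₗ[ZMod 3] W) := MonoidHom.mk' L fun a b => LinearEquiv.ext fun x => hmul a b x
  let B := Module.finBasisOfFinrankEq (ZMod 3) W hd
  let eW : (W ≃ₗ[ZMod 3] W) ≃* GL (Fin 2) (ZMod 3) :=
    (LinearMap.GeneralLinearGroup.generalLinearEquiv (ZMod 3) W).symm.trans
      (Units.mapEquiv (LinearMap.toMatrixAlgEquiv B).toRingEquiv.toMulEquiv)
  let φ : A →* GL (Fin 2) (ZMod 3) := eW.toMonoidHom.comp ρ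
  have hker : φ.ker = R.subgroupOf A := by
    ext a
    rw [MonoidHom.mem_ker, Subgroup.mem_subgroupOf, D.mem_R_iff_low a.2]
    show eW (ρ a) = 1 ↔ _
    rw [map_eq_one_iff eW eW.injective]
    constructor
    · intro h y hy
      have h' : q a (Additive.ofMul ((⟨y, hy⟩ : Zc R) : V)) = Additive.ofMul ((⟨y, hy⟩ : Zc R) : V) :=
        congrArg (fun l : W ≃ₗ[ZMod 3] W => l (Additive.ofMul ((⟨y, hy⟩ : Zc R) : V))) h
      rw [hq] at h'
      have h'' := QuotientGroup.eq.1 (Additive.ofMul.injective h')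
      have h3 : ((a : G) * y * (a : G)⁻¹)⁻¹ * y ∈ Subgroup.zpowers (f 6) := h''
      have h4 := inv_mem h3
      rw [mul_inv_rev, inv_inv] at h4
      have hc : Commute y (y⁻¹ * ((a : G) * y * (a : G)⁻¹)) :=
        ((mem_Zc.1 (D.S.K_le_Zc D.e h4)).2 y (Zc_le R hy))
      rw [show (a : G) * y * (a : G)⁻¹ * y⁻¹ = y * (y⁻¹ * ((a : G) * y * (a : G)⁻¹)) * y⁻¹ by group, hc.eq,
        mul_inv_cancel_right]
      exact h4
    · intro h
      refine LinearEquiv.ext fun x => ?_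
      obtain ⟨y, rfl⟩ := hsurj x
      show q a (Additive.ofMul ((y : V))) = Additive.ofMul ((y : V))
      rw [hq]
      refine congrArg Additive.ofMul (QuotientGroup.eq.2 ?_)
      show ((a : G) * y * (a : G)⁻¹)⁻¹ * y ∈ Subgroup.zpowers (f 6)
      have h1 := inv_mem (h y y.2)
      rw [mul_inv_rev, inv_inv] at h1
      have hc : Commute (y : G) ((y : G) * ((a : G) * y * (a : G)⁻¹)⁻¹) :=
        ((mem_Zc.1 (D.S.K_le_Zc D.e h1)).2 y (Zc_le R y.2))
      rw [show ((a : G) * y * (a : G)⁻¹)⁻¹ * y = (y : G)⁻¹ * ((y : G) * ((a : G) * y * (a : G)⁻¹)⁻¹) * y by group,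
        mul_assoc, ← hc.eq, inv_mul_cancel_left]
      exact h1
  have c48 : Nat.card (GL (Fin 2) (ZMod 3)) = 48 := by
    rw [Matrix.card_GL_field]; simp [Fin.prod_univ_two]
  have hq48 : Nat.card (A ⧸ R.subgroupOf A) = 48 := by
    have h := Subgroup.card_mul_index (R.subgroupOf A)
    rw [Nat.card_congr (Subgroup.subgroupOfEquivOfLe (D.S.le_A1 D.e)).toEquiv, D.cardR, Subgroup.index_eq_card,
      show Nat.card A = 48 * Nat.card R from D.S.cardA1 D.e, D.cardR] at h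
    omega
  let ψ : A ⧸ R.subgroupOf A →* GL (Fin 2) (ZMod 3) := QuotientGroup.lift _ φ hker.ge
  have hinj : Function.Injective ψ := by
    refine (injective_iff_map_eq_one ψ).2 fun x hx => ?_
    obtain ⟨a, rfl⟩ := QuotientGroup.mk'_surjective _ x
    refine (QuotientGroup.eq_one_iff a).2 ?_
    rw [← hker]
    exact hx
  exact ⟨MulEquiv.ofBijective ψ ((Nat.bijective_iff_injective_and_card ψ).2 ⟨hinj, by rw [hq48, c48]⟩)⟩

end Duo

end CfsgG23Two
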