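import Mathlib
import Cfsg.Agent.Lib.G23Two.Check

/-!
Every configuration of multiplicities is one of those found by the search.
-/

set_option autoImplicit false

namespace CfsgG23Two

section

variable {ι : Type*} (a : ι → ℕ → ℤ)

/-- The first t entries of a column. -/
def colA (t : ℕ) (χ : ι) : List ℤ := (List.range t).map (a χ)

theorem colA_succ (t : ℕ) (χ : ι) : colA a (t + 1) χ = colA a t χ ++ [a χ t] := by
  simp [colA, List.range_succ]

theorem colA_getD {t j : ℕ} (hj : j < t) (χ : ι) : (colA a t χ).getD j 0 = a χ j := by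
  simp [colA, List.getD_eq_getElem?_getD, hj]

theorem colA_take {t n : ℕ} (h : t ≤ n) (χ : ι) : (colA a n χ).take t = colA a t χ := by
  simp [colA, List.take_range, ← List.map_take, min_eq_left h]

theorem signOK_append_left : ∀ (p q : List ℤ), signOK (p ++ q) = true → signOK p = true
  | [], _, _ => rfl
  | v :: p, q, h => by
    simp only [List.cons_append, signOK] at h ⊢
    split_ifs with hv
    · rw [if_pos hv] at h; exact signOK_append_left p q h
    · rw [if_neg hv] at h; exact h

theorem signOK_zeros : ∀ (t : ℕ) (v : ℤ), signOK (List.replicate t 0 ++ [v]) = true → 0 ≤ v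
  | 0, v, h => by
    simp only [List.replicate_zero, List.nil_append, signOK] at h
    split_ifs at h with hv
    · omega
    · simp at h; omega
  | t + 1, v, h => by
    simp only [List.replicate_succ, List.cons_append, signOK, if_pos] at h
    exact signOK_zeros t v h

/-- A list of preimages of a permutation of an image. -/
theorem exists_preimage_list {α β : Type*} (f : α → β) :
    ∀ (L : List β) (s : Multiset α), s.map f = (↑L : Multiset β) → ∃ l : List α, (↑l : Multiset α) = s ∧ l.map f = L := by
  intro L
  induction L with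
  | nil => intro s h; exact ⟨[], (Multiset.map_eq_zero.1 h).symm, rfl⟩
  | cons b L ih =>
    intro s h
    obtain ⟨x, hx, hxb⟩ := Multiset.mem_map.1 (h ▸ (Multiset.mem_coe.2 List.mem_cons_self) : b ∈ s.map f)
    obtain ⟨r, rfl⟩ := Multiset.exists_cons_of_mem hx
    rw [Multiset.map_cons, hxb, ← Multiset.cons_coe, Multiset.cons_inj_right] at h
    obtain ⟨l, hl, hl'⟩ := ih r h
    exact ⟨x :: l, by rw [← Multiset.cons_coe, hl], by rw [List.map_cons, hl', hxb]⟩

theorem list_cauchy (a' : ι → ℤ) (b : ι → ℤ) : ∀ l : List ι,
    (l.map fun χ => a' χ * b χ).sum * (l.map fun χ => a' χ * b χ).sum ≤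
      (l.map fun χ => a' χ * a' χ).sum * (l.map fun χ => b χ * b χ).sum := by
  intro l
  have h := Finset.sum_mul_sq_le_sq_mul_sq Finset.univ (fun i : Fin l.length => a' (l.get i))
    (fun i => b (l.get i))
  have e : ∀ g : ι → ℤ, (l.map g).sum = ∑ i : Fin l.length, g (l.get i) := fun g => by
    rw [← List.sum_ofFn]; congr 1; exact (List.ofFn_getElem_eq_map l g).symm
  rw [e, e, e]
  simpa [pow_two] using h

theorem ext_sound (t : ℕ) : ∀ (l : List ι) (rs : List ℤ) (rem : ℕ) (acc : List (List ℤ)),
    ext t (l.map (colA a t)) rs rem acc = true →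
    (∀ χ ∈ l, (prefs.getD (t + 1) []).contains (colA a (t + 1) χ) = true) →
    (∀ χ ∈ l, a χ t = -2 ∨ a χ t = -1 ∨ a χ t = 0 ∨ a χ t = 1 ∨ a χ t = 2) →
    rs.length = t → (∀ j < t, (l.map fun χ => a χ t * a χ j).sum = rs.getD j 0) →
    ∀ n2 n1 : ℕ, (l.map fun χ => a χ t * a χ t).sum + ((4 * n2 + n1 : ℕ) : ℤ) = rem →
    (∀ q ∈ news t n2 n1, (prefs.getD (t + 1) []).contains q = true) →
    ∃ S ∈ states.getD (t + 1) [],
      (↑(acc ++ news t n2 n1) + ↑(l.map (colA a (t + 1))) : Multiset (List ℤ)) = ↑S := by
  intro l
  induction l with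
  | nil =>
    intro rs rem acc h _ _ hlen hrs n2 n1 hn hnew
    have hn' : 4 * n2 + n1 = rem := by simp at hn; omega
    have hz : rs.all (· == 0) = true := by
      rw [List.all_eq_true]
      intro x hx
      obtain ⟨j, hj, rfl⟩ := List.getElem_of_mem hx
      have := hrs j (hlen ▸ hj)
      simp [List.getD_eq_getElem?_getD, hj] at this
      simp [← this]
    simp only [List.map_nil, ext, hz, Bool.not_true, Bool.false_or, List.all_eq_true, List.mem_range] at h
    have h' := h n2 (by omega)
    rw [show rem - 4 * n2 = n1 by omega] at h'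
    simp only [List.all_eq_true.2 hnew, Bool.not_true, Bool.false_or, List.any_eq_true, List.isPerm_iff] at h'
    obtain ⟨S, hS, hp⟩ := h'
    exact ⟨S, hS, by simpa using (Multiset.coe_eq_coe.2 hp)⟩
  | cons χ l ih =>
    intro rs rem acc h hp hv hlen hrs n2 n1 hn hnew
    simp only [List.map_cons, ext, Bool.or_eq_true, List.any_eq_true, List.mem_range, List.all_eq_true] at h
    have hsq : (((χ :: l).map fun χ => a χ t * a χ t).sum : ℤ) ≤ rem := by omega
    rcases h with ⟨j, hj, hlt⟩ | h
    · exfalso
      simp only [decide_eq_true_eq, List.map_map, Function.comp_def, colA_getD a hj] at hlt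
      rw [← List.map_cons (f := fun χ => a χ j * a χ j)] at hlt
      have hc := list_cauchy (fun χ => a χ t) (fun χ => a χ j) (χ :: l)
      rw [hrs j hj] at hc
      have h0 : 0 ≤ ((χ :: l).map fun χ => a χ j * a χ j).sum :=
        List.sum_nonneg (by simp [mul_self_nonneg])
      nlinarith [mul_le_mul_of_nonneg_right hsq h0]
    · have hvm : a χ t ∈ [(-2 : ℤ), -1, 0, 1, 2] := by
        rcases hv χ List.mem_cons_self with e | e | e | e | e <;> simp [e]
      have hχ := h _ hvm
      simp only [List.map_cons, List.sum_cons] at hsq hn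
      have h0 : 0 ≤ (l.map fun χ => a χ t * a χ t).sum := List.sum_nonneg (by simp [mul_self_nonneg])
      have hc1 : decide (a χ t * a χ t ≤ (rem : ℤ)) = true := decide_eq_true (by omega)
      have hc2 := hp χ List.mem_cons_self
      rw [← colA_succ a t χ] at hχ
      simp only [hc1, hc2, Bool.and_self, Bool.not_true, Bool.false_eq_true, false_or] at hχ
      have habs : ((a χ t * a χ t).natAbs : ℤ) = a χ t * a χ t := Int.natAbs_of_nonneg (mul_self_nonneg _)
      obtain ⟨S, hS, e⟩ := ih _ _ _ hχ (fun x hx => hp x (List.mem_cons_of_mem _ hx))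
        (fun x hx => hv x (List.mem_cons_of_mem _ hx)) (by simp)
        (fun j hj => by
          have := hrs j hj
          simp [List.getD_eq_getElem?_getD, hj] at this ⊢
          simp [colA, hj]
          linarith)
        n2 n1 (by omega) hnew
      refine ⟨S, hS, ?_⟩
      rw [← e]
      simp only [List.map_cons, List.cons_append, ← Multiset.cons_coe, Multiset.add_cons, Multiset.cons_add]

variable [Fintype ι] [DecidableEq ι]

/-- The columns that do not vanish among the first t entries. -/
noncomputable def active (t : ℕ) : Finset ι := by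
  classical exact Finset.univ.filter fun χ => ∃ j < t, a χ j ≠ 0

theorem mem_active {t : ℕ} {χ : ι} : χ ∈ active a t ↔ ∃ j < t, a χ j ≠ 0 := by
  simp [active]

variable (hB : ∀ χ, ∀ t, t ≤ 11 → besselOK (colA a t χ) = true) (hs : ∀ χ, signOK (colA a 11 χ) = true)
  (hp : ∀ χ, parityOK (colA a 11 χ) = true) (hR : ∀ i < 11, ∀ j < 11, ∑ χ, a χ i * a χ j = res i j)
  (hP : ∀ χ, ∀ i < 11, a χ i * a χ i < 9)

include hB hs hp hP in
theorem pres_mem (χ : ι) : ∀ t ≤ 11, (pres.getD t []).contains (colA a t χ) = true := by
  have h := presOK_true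
  simp only [presOK, Bool.and_eq_true, List.all_eq_true, List.mem_range] at h
  intro t
  induction t with
  | zero => intro _; exact h.1.2
  | succ t ih =>
    intro ht
    have := h.1.1.1 t (by omega) _ (List.contains_iff_mem.1 (ih (by omega))) (a χ t) (by
      have := hP χ t (by omega)
      have h1 : -2 ≤ a χ t := by nlinarith
      have h2 : a χ t ≤ 2 := by nlinarith
      simp only [List.mem_cons, List.not_mem_nil, or_false]
      omega)
    rw [← colA_succ a t χ] at this
    have hsg : signOK (colA a (t + 1) χ) = true := signOK_append_left _ ((colA a 11 χ).drop (t + 1)) (by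
      rw [← colA_take a ht χ, List.take_append_drop]; exact hs χ)
    have hpar : (decide (t < 10) || parityOK (colA a (t + 1) χ)) = true := by
      by_cases h10 : t < 10
      · simp [h10]
      · obtain rfl : t = 10 := by omega
        simp [hp χ]
    simpa only [hsg, hB χ (t + 1) ht, hpar, Bool.and_self, Bool.not_true, Bool.false_or] using this

include hB hs hp hP in
theorem prefs_mem (χ : ι) (t : ℕ) (ht : t ≤ 11) : (prefs.getD t []).contains (colA a t χ) = true := by
  have h := presOK_true
  simp only [presOK, Bool.and_eq_true, List.all_eq_true, List.mem_range] at h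
  have := h.1.1.2 _ (List.contains_iff_mem.1 (pres_mem a hB hs hp hP χ 11 le_rfl)) t (by omega)
  rwa [colA_take a ht] at this

include hB hs hp hR hP in
theorem states_sound : ∀ t ≤ 11, ∃ S ∈ states.getD t [],
    (active a t).val.map (colA a t) = (↑S : Multiset (List ℤ)) := by
  classical
  have h := statesOK_true
  simp only [statesOK, Bool.and_eq_true, List.all_eq_true, List.mem_range, decide_eq_true_eq] at h
  intro t
  induction t with
  | zero =>
    intro _
    refine ⟨[], List.contains_iff_mem.1 h.2, ?_⟩
    rw [show active a 0 = ∅ from Finset.eq_empty_of_forall_notMem fun χ hχ => by simp [mem_active] at hχ]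
    rfl
  | succ t ih =>
    intro ht
    obtain ⟨S, hS, hSe⟩ := ih (by omega)
    obtain ⟨l, hl, hlS⟩ := exists_preimage_list (colA a t) S _ hSe
    obtain ⟨h0, hext⟩ := h.1 t (by omega)
    have hχ := hext S hS
    rw [← hlS] at hχ
    have hv : ∀ χ, a χ t = -2 ∨ a χ t = -1 ∨ a χ t = 0 ∨ a χ t = 1 ∨ a χ t = 2 := fun χ => by
      have := hP χ t (by omega)
      have h1 : -2 ≤ a χ t := by nlinarith
      have h2 : a χ t ≤ 2 := by nlinarith
      omega
    set new := Finset.univ.filter fun χ => χ ∉ active a t ∧ a χ t ≠ 0 with hnewd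
    have hzero : ∀ χ ∈ new, colA a t χ = List.replicate t 0 := fun χ hχ => by
      simp only [hnewd, Finset.mem_filter, Finset.mem_univ, true_and, mem_active, not_exists, not_and,
        not_not] at hχ
      exact List.eq_replicate_iff.2 ⟨by simp [colA], by simpa [colA] using fun j hj => hχ.1 j hj⟩
    have hpos : ∀ χ ∈ new, a χ t = 1 ∨ a χ t = 2 := fun χ hχ => by
      have hsg : signOK (colA a (t + 1) χ) = true := signOK_append_left _ ((colA a 11 χ).drop (t + 1)) (by
        rw [← colA_take a ht χ, List.take_append_drop]; exact hs χ)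
      rw [colA_succ, hzero χ hχ] at hsg
      have := signOK_zeros _ _ hsg
      have := (Finset.mem_filter.1 hχ).2.2
      have := hv χ
      omega
    set n2 := (new.filter fun χ => a χ t = 2).card
    set n1 := (new.filter fun χ => a χ t ≠ 2).card
    have hnews : new.val.map (colA a (t + 1)) = (↑(news t n2 n1) : Multiset (List ℤ)) := by
      rw [news, ← Multiset.coe_add, Multiset.coe_replicate, Multiset.coe_replicate,
        ← Multiset.filter_add_not (fun χ => a χ t = 2) new.val, Multiset.map_add]
      congr 1 <;> refine Multiset.eq_replicate.2 ⟨by rw [Multiset.card_map]; rfl, fun q hq => ?_⟩ <;>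
        obtain ⟨χ, hχ, rfl⟩ := Multiset.mem_map.1 hq <;> rw [Multiset.mem_filter] at hχ <;>
        rw [colA_succ, hzero χ hχ.1]
      · rw [hχ.2]
      · rw [(hpos χ hχ.1).resolve_right hχ.2]
    have hdis : Disjoint (active a t) new := by
      rw [Finset.disjoint_left]; intro χ h1 h2; exact (Finset.mem_filter.1 h2).2.1 h1
    have hun : active a (t + 1) = active a t ∪ new := by
      ext χ
      simp only [hnewd, Finset.mem_union, Finset.mem_filter, Finset.mem_univ, true_and, mem_active]
      constructor
      · rintro ⟨j, hj, hne⟩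
        by_cases hA : ∃ i < t, a χ i ≠ 0
        · exact Or.inl hA
        · refine Or.inr ⟨hA, ?_⟩
          rcases Nat.lt_succ_iff_lt_or_eq.1 hj with h' | rfl
          · exact absurd ⟨j, h', hne⟩ hA
          · exact hne
      · rintro (⟨j, hj, hne⟩ | ⟨-, hne⟩)
        · exact ⟨j, by omega, hne⟩
        · exact ⟨t, by omega, hne⟩
    have hsum : ∀ f : ι → ℤ, (∀ χ, χ ∉ active a (t + 1) → f χ = 0) →
        ∑ χ, f χ = (l.map f).sum + ∑ χ ∈ new, f χ := fun f hf => by
      rw [← Finset.sum_subset (Finset.subset_univ (active a (t + 1))) (fun χ _ h => hf χ h), hun,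
        Finset.sum_union hdis]
      congr 1
      rw [Finset.sum_eq_multiset_sum, ← hl, Multiset.map_coe, Multiset.sum_coe]
    have hout : ∀ χ, χ ∉ active a (t + 1) → a χ t = 0 := fun χ hχ => by
      by_contra hne; exact hχ ((mem_active a).2 ⟨t, by omega, hne⟩)
    have hnsq : ∑ χ ∈ new, a χ t * a χ t = ((4 * n2 + n1 : ℕ) : ℤ) := by
      rw [← Finset.sum_filter_add_sum_filter_not new (fun χ => a χ t = 2),
        Finset.sum_congr rfl (fun χ hχ => show a χ t * a χ t = 4 by rw [(Finset.mem_filter.1 hχ).2]; rfl),
        Finset.sum_congr rfl (fun χ hχ => show a χ t * a χ t = 1 by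
          obtain ⟨h1, h2⟩ := Finset.mem_filter.1 hχ
          rw [(hpos χ h1).resolve_right h2]; rfl)]
      simp [n2, n1]; ring
    have hmem : ∀ χ, (prefs.getD (t + 1) []).contains (colA a (t + 1) χ) = true :=
      fun χ => prefs_mem a hB hs hp hP χ (t + 1) ht
    obtain ⟨S', hS', e⟩ := ext_sound a t l _ _ [] hχ (fun χ _ => hmem χ) (fun χ _ => hv χ) (by simp [rowR])
      (fun j hj => by
        have hj' := hR t (by omega) j (by omega)
        rw [hsum _ (fun χ hχ => by rw [hout χ hχ, zero_mul])] at hj'
        rw [Finset.sum_eq_zero (s := new) (fun χ hχ => by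
          have : (colA a t χ).getD j 0 = 0 := by rw [hzero χ hχ]; simp [List.getD_eq_getElem?_getD, hj]
          rw [colA_getD a hj] at this
          rw [this, mul_zero]), add_zero] at hj'
        simp [rowR, List.getD_eq_getElem?_getD, hj, hj'])
      n2 n1 (by
        have := hR t (by omega) t (by omega)
        rw [hsum _ (fun χ hχ => by rw [hout χ hχ, zero_mul]), hnsq] at this
        rw [Int.toNat_of_nonneg h0, this])
      (fun q hq => by
        have : q ∈ new.val.map (colA a (t + 1)) := hnews ▸ Multiset.mem_coe.2 hq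
        obtain ⟨χ, -, rfl⟩ := Multiset.mem_map.1 this
        exact hmem χ)
    refine ⟨S', hS', ?_⟩
    rw [← e, List.nil_append, ← hnews, ← Multiset.map_coe, hl, hun, Finset.union_val,
      ← Multiset.map_add, Multiset.add_comm, Multiset.add_eq_union_iff_disjoint.2 (Finset.disjoint_val.2 hdis)]

include hB hs hp hR hP in
/-- The seven interesting columns. -/
theorem seven_cols :
    (Finset.univ.filter fun χ => live (colA a 11 χ) = true).val.map (fun χ => proj (colA a 11 χ)) =
      (↑seven : Multiset (List ℤ)) := by
  classical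
  obtain ⟨S, hS, e⟩ := states_sound a hB hs hp hR hP 11 le_rfl
  have h := finalOK_true
  simp only [finalOK, List.all_eq_true, List.isPerm_iff] at h
  have hf : (↑(S.filter live) : Multiset (List ℤ)) = Multiset.filter (fun q => live q = true) ↑S := by simp
  rw [← Multiset.coe_eq_coe.2 (h S hS), ← Multiset.map_coe, hf, ← e, Multiset.filter_map, Multiset.map_map]
  have e2 : (Finset.univ.filter fun χ => live (colA a 11 χ) = true) =
      (active a 11).filter fun χ => live (colA a 11 χ) = true := by
    ext χ
    simp only [Finset.mem_filter, Finset.mem_univ, true_and, iff_and_self, mem_active]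
    intro hl
    by_contra hne
    simp only [not_exists, not_and, not_not] at hne
    simp [live, colA, hne] at hl
  rw [e2]
  rfl

end

end CfsgG23Two
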