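import Cfsg.Agent.Lib.G23Two.Cert
import Cfsg.Agent.Lib.G23Two.Search
import Cfsg.Agent.Lib.G23Two.Dioph
import Cfsg.Agent.Lib.PositiveBound

/-!
The order of the group from the special classes.
-/

set_option autoImplicit false

namespace CfsgG23Two

open Cfsg CfsgLib.CharTheory CfsgLib.PositiveBound

open scoped ComplexConjugate

theorem vals_data :
    (∀ i < 11, ∀ j < 11, ((List.range 20).map fun c => (sizeOf' c : ℤ) * val i c * val j c).sum = 576 * gr i j) ∧
    (∀ i < 11, ((List.range 20).map fun c => (sizeOf' c : ℤ) * val i c).sum = 576 * prin.getD i 0) ∧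
    (∀ i < 11, ((List.range 20).map fun c => (sizeOf' c : ℤ) * val i c * (cnt.getD c 0 : ℤ)).sum = ksum.getD i 0) ∧
    (∀ c < 20, ((List.range 11).map fun i => wt.getD i 0 * val i c).sum = if c = 19 then 576 else 0) ∧
    (∀ c < 20, 32 * val 11 c = (if c = 18 then 576 else 0) + ((List.range 11).map fun i => cong32.getD i 0 * val i c).sum +
      cong32.getD 11 0 * delta 0 c + cong32.getD 12 0 * delta 5 c) ∧
    (∀ c < 20, 8 * val 12 c = 4 * (val 2 c + val 3 c + val 8 c + val 10 c) + cong8.getD 0 0 * delta 0 c +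
      cong8.getD 1 0 * delta 5 c) ∧ invol.contains 0 = true ∧ invol.contains 5 = true := by
  have h := valsOK_true
  simp only [valsOK, Bool.and_eq_true, List.all_eq_true, List.mem_range, beq_iff_eq] at h
  obtain ⟨⟨⟨⟨h1, h2⟩, h3⟩, h4⟩, h5⟩ := h
  exact ⟨h1, fun i hi => (h2 i hi).1, fun i hi => (h2 i hi).2, fun c hc => (h3 c hc).1.1, fun c hc => (h3 c hc).1.2,
    fun c hc => (h3 c hc).2, h4, h5⟩

theorem range_sum {M : Type*} [AddCommMonoid M] (F : ℕ → M) (n : ℕ) :
    ((List.range n).map F).sum = ∑ i ∈ Finset.range n, F i := rfl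

theorem supp_of_val {i c : ℕ} (hi : i < 11) (hc : c < 20) (h : val i c ≠ 0) : supp.contains c = true := by
  by_contra hs
  have h' := suppOK_true
  simp only [suppOK, Bool.and_eq_true, List.all_eq_true, List.mem_range] at h'
  have := h'.1.1 c hc
  rw [if_neg hs] at this
  simp only [List.all_eq_true, List.mem_range, beq_iff_eq] at this
  exact h (this i hi)

theorem not_supp : supp.contains 18 = false := by
  have h' := suppOK_true
  simp only [suppOK, Bool.and_eq_true, Bool.not_eq_true'] at h'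
  exact h'.2

theorem invol_data {c : ℕ} (hc : c < 20) : invol.contains c = true ↔ c ≠ 18 ∧ powM (repOf c) 2 = 0 := by
  have h' := suppOK_true
  simp only [suppOK, Bool.and_eq_true, List.all_eq_true, List.mem_range, beq_iff_eq] at h'
  rw [h'.1.2 c hc, Bool.and_eq_true, bne_iff_ne, beq_iff_eq]

theorem signOK_or_neg : ∀ q : List ℤ, signOK q = true ∨ signOK (q.map Neg.neg) = true
  | [] => Or.inl rfl
  | v :: q => by
    simp only [List.map_cons, signOK, neg_eq_zero]
    split_ifs
    · exact signOK_or_neg q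
    · simp only [decide_eq_true_eq]; omega

theorem dotL_map (x : List ℤ) (F : ℕ → ℤ) : ∀ n, x.length = n →
    dotL x ((List.range n).map F) = ∑ i ∈ Finset.range n, x.getD i 0 * F i := by
  induction x generalizing F with
  | nil => intro n hn; subst hn; simp [dotL]
  | cons v x ih =>
    intro n hn
    subst hn
    have h := ih (fun i => F (i + 1)) x.length rfl
    simp only [dotL] at h ⊢
    rw [List.length_cons, List.range_succ_eq_map, List.map_cons, List.map_map, List.zipWith_cons_cons,
      List.sum_cons, Finset.sum_range_succ']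
    simp only [List.getD_cons_succ, List.getD_cons_zero]
    rw [← h, add_comm]
    rfl

namespace Emb

variable {G : Type*} [Group G] [Finite G] {f : ℕ → G} {z : G} (e : Emb f z)

include e

theorem eq_of_cls {x c : ℕ} (hx : x < 576) (hc : cls x = c) (hs : sizeOf' c = 1) : x = repOf c := by
  have hc20 : c < 20 := hc ▸ (cls_data hx).1
  obtain ⟨a, ha⟩ := Finset.card_eq_one.1 (hs ▸ card_class hc20)
  have h1 : x ∈ ({a} : Finset ℕ) := ha ▸ Finset.mem_filter.2 ⟨Finset.mem_range.2 hx, hc⟩
  have h2 : repOf c ∈ ({a} : Finset ℕ) :=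
    ha ▸ Finset.mem_filter.2 ⟨Finset.mem_range.2 (rep_data.1 c hc20).1, (rep_data.1 c hc20).2.1⟩
  rw [Finset.mem_singleton.1 h1, Finset.mem_singleton.1 h2]

theorem f_rep18 : f (repOf 18) = 1 := by
  rw [← e.eq_of_cls (x := 0) (by norm_num) rep_data.2.1 rep_data.2.2.2.1, e.one]

theorem f_rep19 : f (repOf 19) = z := by
  rw [← e.eq_of_cls (x := zM) (by norm_num [zM]) rep_data.2.2.1 rep_data.2.2.2.2.1, e.hz]

theorem isConj_invol {c : ℕ} (hc : c < 20) (h : invol.contains c = true) : IsConj z (f (repOf c)) := by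
  obtain ⟨h1, h2⟩ := (invol_data hc).1 h
  obtain ⟨hr, hcr, -⟩ := rep_data.1 c hc
  refine e.fus _ hr (fun hone => h1 ?_) (by rw [← pow_two, ← e.pow hr, h2, e.one])
  rw [← hcr, e.inj _ hr 0 (by norm_num) (by rw [hone, e.one]), rep_data.2.1]

theorem invol_iff {x : ℕ} (hx : x < 576) :
    invol.contains (cls x) = true ↔ f x ≠ 1 ∧ f x * f x = 1 := by
  have hc := (cls_data hx).1
  have hr := (rep_data.1 _ hc).1
  rw [invol_data hc]
  have h18 : cls x = 18 ↔ f x = 1 := by
    constructor
    · intro h; rw [e.eq_of_cls hx h rep_data.2.2.2.1, e.f_rep18]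
    · intro h; rw [e.inj x hx 0 (by norm_num) (by rw [h, e.one]), rep_data.2.1]
  have hsq : powM (repOf (cls x)) 2 = 0 ↔ f x * f x = 1 := by
    rw [← pow_two, ← e.conj_rep hx, conj_pow, ← e.pow hr]
    constructor
    · intro h; rw [h, e.one, mul_one, mul_inv_cancel]
    · intro h
      refine e.inj _ (powM_lt 2) 0 (by norm_num) ?_
      rw [e.one]
      simpa [mul_inv_eq_one] using h
  rw [hsq, Ne, h18]

theorem card_class_z : (Nat.card {x : G // IsConj z x} : ℂ) * 576 = Nat.card G := by
  rw [show (576 : ℂ) = ((576 : ℕ) : ℂ) by norm_num, ← Nat.cast_mul]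
  congr 1
  rw [← class_mul_cc z]
  congr 1
  rw [cc, ← Nat.card_congr (Equiv.ofBijective (fun x : Fin 576 => (⟨f x.val,
    Subgroup.mem_centralizer_singleton_iff.2 (e.comm x.isLt).eq⟩ : Subgroup.centralizer ({z} : Set G))) ⟨fun x y h =>
      Fin.ext (e.inj _ x.isLt _ y.isLt (congrArg Subtype.val h)), fun g => by
      obtain ⟨x, hx, hxg⟩ := e.range g.1 (Subgroup.mem_centralizer_singleton_iff.1 g.2)
      exact ⟨⟨x, hx⟩, Subtype.ext hxg⟩⟩), Nat.card_eq_fintype_card, Fintype.card_fin]

theorem cc_eq {x : ℕ} (hx : x < 576) (hs : supp.contains (cls x) = true) :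
    sizeOf' (cls x) * cc (f x) = 576 := by
  classical
  have hc := (cls_data hx).1
  obtain ⟨hr, hcr, -, hcent⟩ := rep_data.1 _ hc
  have hcc : cc (f x) = cc (f (repOf (cls x))) := by
    have h1 := class_mul_cc (f x)
    have h2 := class_mul_cc (f (repOf (cls x)))
    have h3 : Nat.card {y : G // IsConj (f x) y} = Nat.card {y : G // IsConj (f (repOf (cls x))) y} :=
      Nat.card_congr (Equiv.subtypeEquivRight fun y =>
        ⟨(e.isConj_rep hx).trans, (e.isConj_rep hx).symm.trans⟩)
    rw [h3, ← h2] at h1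
    exact Nat.eq_of_mul_eq_mul_left (Nat.pos_of_mul_pos_right (h2 ▸ Nat.card_pos)) h1
  rw [hcc, mul_comm]
  refine Eq.trans (congrArg (· * sizeOf' (cls x)) ?_) hcent
  set r := repOf (cls x) with hrd
  have hsr : supp.contains (cls r) = true := by rw [hcr]; exact hs
  have hnd : ((List.range 576).filter fun y => mulM y r == mulM r y).Nodup := List.nodup_range.filter _
  rw [← List.toFinset_card_of_nodup hnd, ← Nat.card_eq_finsetCard]
  refine (Nat.card_congr (Equiv.ofBijective (fun y => (⟨f y.1,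
    Subgroup.mem_centralizer_singleton_iff.2 (by
      have hy := List.mem_filter.1 (List.mem_toFinset.1 y.2)
      have := congrArg f (beq_iff_eq.1 hy.2)
      rwa [e.mul _ (List.mem_range.1 hy.1) _ hr, e.mul _ hr _ (List.mem_range.1 hy.1)] at this)⟩ :
      Subgroup.centralizer ({f r} : Set G))) ⟨fun y y' h => ?_, fun g => ?_⟩)).symm
  · exact Subtype.ext (e.inj _ (List.mem_range.1 (List.mem_filter.1 (List.mem_toFinset.1 y.2)).1) _
      (List.mem_range.1 (List.mem_filter.1 (List.mem_toFinset.1 y'.2)).1) (congrArg Subtype.val h))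
  · have hg : Commute g.1 (f r) := Subgroup.mem_centralizer_singleton_iff.1 g.2
    obtain ⟨y, hy, hyg⟩ := e.range g.1 (e.centralizes hr hsr hg)
    refine ⟨⟨y, List.mem_toFinset.2 (List.mem_filter.2 ⟨List.mem_range.2 hy, beq_iff_eq.2 ?_⟩)⟩, Subtype.ext hyg⟩
    exact e.inj _ (mulM_lt hy) _ (mulM_lt hr) (by rw [e.mul _ hy _ hr, e.mul _ hr _ hy, hyg]; exact hg.eq)

theorem gram_pairing [Fintype G] {i j : ℕ} (hi : i < 11) (hj : j < 11) :
    ∑ χ : IrrCharacter G, pairing f i (χ : G → ℂ) * conj (pairing f j (χ : G → ℂ)) = 576 * 576 * (gr i j : ℂ) := by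
  classical
  calc ∑ χ : IrrCharacter G, pairing f i (χ : G → ℂ) * conj (pairing f j (χ : G → ℂ))
      = ∑ x ∈ Finset.range 576, ∑ y ∈ Finset.range 576, (val i (cls x) : ℂ) * val j (cls y) *
          ∑ χ : IrrCharacter G, (χ : G → ℂ) (f x) * conj ((χ : G → ℂ) (f y)) := by
        simp only [pairing, map_sum, map_mul, map_intCast, Finset.sum_mul_sum]
        simp only [Finset.mul_sum]
        rw [Finset.sum_comm]
        refine Finset.sum_congr rfl fun x _ => ?_
        rw [Finset.sum_comm]
        exact Finset.sum_congr rfl fun y _ => Finset.sum_congr rfl fun χ _ => by ring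
    _ = ∑ x ∈ Finset.range 576, (576 : ℂ) * (val i (cls x) * val j (cls x)) := by
        refine Finset.sum_congr rfl fun x hx => ?_
        have hx' := Finset.mem_range.1 hx
        have hc := (cls_data hx').1
        by_cases hv : val i (cls x) = 0
        · simp [hv]
        have hsx := supp_of_val hi hc hv
        rw [← Finset.sum_subset (Finset.filter_subset (fun y => cls y = cls x) _) (fun y hy hne => ?_)]
        · rw [Finset.sum_congr rfl (g := fun _ => (val i (cls x) : ℂ) * val j (cls x) * (cc (f x) : ℂ)) (fun y hy => ?_),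
            Finset.sum_const, card_class hc, nsmul_eq_mul]
          · have := congrArg (fun n : ℕ => (n : ℂ)) (e.cc_eq hx' hsx)
            push_cast at this
            linear_combination ((val i (cls x) : ℂ) * val j (cls x)) * this
          · obtain ⟨hy1, hy2⟩ := Finset.mem_filter.1 hy
            rw [hy2, sum_irr_mul_conj, if_pos ((e.isConj_rep hx').symm.trans
              (hy2 ▸ e.isConj_rep (Finset.mem_range.1 hy1)))]
            rfl
        · by_cases hw : val j (cls y) = 0
          · simp [hw]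
          rw [sum_irr_mul_conj, if_neg, mul_zero]
          intro hcj
          exact hne (Finset.mem_filter.2 ⟨hy, (e.fusion hx' (Finset.mem_range.1 hy) hsx
            (supp_of_val hj (cls_data (Finset.mem_range.1 hy)).1 hw) hcj).symm⟩)
    _ = _ := by
        rw [← Finset.mul_sum, mul_assoc]
        refine congrArg (fun w : ℂ => 576 * w) ?_
        have h := class_values e (F := fun _ => (1 : ℂ)) (fun _ _ => rfl) (fun c => (val i c : ℂ) * val j c)
        simp only [mul_one] at h
        rw [h]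
        have h2 := vals_data.1 i hi j hj
        rw [range_sum] at h2
        have h3 := congrArg (fun n : ℤ => (n : ℂ)) h2
        push_cast at h3
        rw [← h3]
        exact Finset.sum_congr rfl fun c _ => by ring

theorem degree_sum [Fintype G] {i : ℕ} (hi : i < 11) :
    ∑ χ : IrrCharacter G, pairing f i (χ : G → ℂ) * (χ : G → ℂ) 1 = 0 := by
  classical
  simp only [pairing, Finset.sum_mul]
  rw [Finset.sum_comm]
  refine Finset.sum_eq_zero fun x hx => ?_
  simp only [mul_assoc, ← Finset.mul_sum]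
  rw [sum_irr_apply_mul_degree]
  by_cases hv : val i (cls x) = 0
  · simp [hv]
  rw [if_neg, mul_zero]
  intro h1
  have hx' := Finset.mem_range.1 hx
  have := supp_of_val hi (cls_data hx').1 hv
  rw [e.inj x hx' 0 (by norm_num) (by rw [h1, e.one]), rep_data.2.1, not_supp] at this
  exact Bool.false_ne_true this

theorem value_z {F : G → ℂ} (hF : IsClassFunction G F) :
    ∑ i ∈ Finset.range 11, (wt.getD i 0 : ℂ) * pairing f i F = 576 * F z := by
  simp only [pairing, Finset.mul_sum, ← mul_assoc]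
  rw [Finset.sum_comm]
  simp only [← Finset.sum_mul]
  rw [class_values e hF (fun c => ∑ i ∈ Finset.range 11, (wt.getD i 0 : ℂ) * val i c)]
  have hw : ∀ c < 20, ∑ i ∈ Finset.range 11, (wt.getD i 0 : ℂ) * val i c = if c = 19 then 576 else 0 := by
    intro c hc
    have h2 := vals_data.2.2.2.1 c hc
    rw [range_sum] at h2
    have h3 := congrArg (fun n : ℤ => (n : ℂ)) h2
    simpa using h3
  rw [Finset.sum_eq_single 19]
  · rw [hw 19 (by norm_num), if_pos rfl, e.f_rep19, rep_data.2.2.2.2.1]; simp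
  · intro c hc hne
    rw [hw c (Finset.mem_range.1 hc), if_neg hne]; simp
  · simp

theorem delta_sum {F : G → ℂ} (hF : IsClassFunction G F) {k : ℕ} (hk : k = 0 ∨ k = 5) :
    ∑ x ∈ Finset.range 576, (delta k (cls x) : ℂ) * F (f x) = 0 := by
  have hk20 : k < 20 := by rcases hk with rfl | rfl <;> norm_num
  have hinv : invol.contains k = true := by
    rcases hk with rfl | rfl
    exacts [vals_data.2.2.2.2.2.2.1, vals_data.2.2.2.2.2.2.2]
  obtain ⟨g, hg⟩ := isConj_iff.1 (e.isConj_invol hk20 hinv)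
  have hFz : F (f (repOf k)) = F z := by rw [← hg, hF]
  have hsk : sizeOf' k * (576 / sizeOf' k) = 576 := Nat.mul_div_cancel' ⟨_, ((rep_data.1 k hk20).2.2.2.symm.trans
    (mul_comm _ _))⟩
  rw [class_values e hF (fun c => (delta k c : ℂ))]
  simp only [delta, Int.cast_sub, mul_sub, sub_mul, Finset.sum_sub_distrib]
  rw [Finset.sum_eq_single k, Finset.sum_eq_single 19]
  · rw [if_pos rfl, if_pos rfl, hFz, e.f_rep19, rep_data.2.2.2.2.1, sub_eq_zero]
    simp only [Int.cast_natCast, Int.cast_ofNat, Nat.cast_one]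
    have := congrArg (fun n : ℕ => (n : ℂ)) hsk
    push_cast at this
    linear_combination (F z) * this
  all_goals first
    | (intro c _ hne; rw [if_neg hne]; simp)
    | (intro h; exact absurd (Finset.mem_range.2 (by omega)) h)

theorem cong_thirty_two {F : G → ℂ} (hF : IsClassFunction G F) :
    32 * pairing f 11 F = 576 * F 1 + ∑ i ∈ Finset.range 11, (cong32.getD i 0 : ℂ) * pairing f i F := by
  have h1 : ∑ x ∈ Finset.range 576, ((if cls x = 18 then 576 else 0 : ℤ) : ℂ) * F (f x) = 576 * F 1 := by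
    rw [class_values e hF (fun c => ((if c = 18 then 576 else 0 : ℤ) : ℂ)), Finset.sum_eq_single 18]
    · rw [e.f_rep18, rep_data.2.2.2.1]; simp
    · intro c _ hne; rw [if_neg hne]; simp
    · simp
  simp only [pairing, Finset.mul_sum, ← mul_assoc]
  rw [← h1, Finset.sum_comm, ← Finset.sum_add_distrib]
  rw [← sub_eq_zero, ← Finset.sum_sub_distrib]
  calc _ = ∑ x ∈ Finset.range 576, ((cong32.getD 11 0 : ℂ) * ((delta 0 (cls x) : ℂ) * F (f x)) +
        (cong32.getD 12 0 : ℂ) * ((delta 5 (cls x) : ℂ) * F (f x))) := ?_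
    _ = 0 := by
      rw [Finset.sum_add_distrib, ← Finset.mul_sum, ← Finset.mul_sum, e.delta_sum hF (Or.inl rfl),
        e.delta_sum hF (Or.inr rfl)]
      ring
  refine Finset.sum_congr rfl fun x hx => ?_
  have h2 := vals_data.2.2.2.2.1 _ (cls_data (Finset.mem_range.1 hx)).1
  rw [range_sum] at h2
  have h3 := congrArg (fun n : ℤ => (n : ℂ)) h2
  push_cast at h3
  rw [← Finset.sum_mul]
  push_cast
  linear_combination (F (f x)) * h3

theorem cong_eight {F : G → ℂ} (hF : IsClassFunction G F) :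
    8 * pairing f 12 F = 4 * (pairing f 2 F + pairing f 3 F + pairing f 8 F + pairing f 10 F) := by
  simp only [pairing, Finset.mul_sum, ← Finset.sum_add_distrib]
  rw [← sub_eq_zero, ← Finset.sum_sub_distrib]
  calc _ = ∑ x ∈ Finset.range 576, ((cong8.getD 0 0 : ℂ) * ((delta 0 (cls x) : ℂ) * F (f x)) +
        (cong8.getD 1 0 : ℂ) * ((delta 5 (cls x) : ℂ) * F (f x))) := ?_
    _ = 0 := by
      rw [Finset.sum_add_distrib, ← Finset.mul_sum, ← Finset.mul_sum, e.delta_sum hF (Or.inl rfl),
        e.delta_sum hF (Or.inr rfl)]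
      ring
  refine Finset.sum_congr rfl fun x hx => ?_
  have h2 := vals_data.2.2.2.2.2.1 _ (cls_data (Finset.mem_range.1 hx)).1
  have h3 := congrArg (fun n : ℤ => (n : ℂ)) h2
  push_cast at h3
  linear_combination (F (f x)) * h3

theorem pairs_rep {c : ℕ} (hc : c < 20) (hs : supp.contains c = true) :
    pairs z z (f (repOf c)) = cnt.getD c 0 := by
  classical
  obtain ⟨hr, hcr, -⟩ := rep_data.1 c hc
  have h := suppOK_true
  simp only [suppOK, Bool.and_eq_true, List.all_eq_true, List.mem_range] at h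
  have h' := h.1.1 c hc
  rw [if_pos hs] at h'
  simp only [Bool.and_eq_true, beq_iff_eq] at h'
  rw [← h'.2, ← List.toFinset_card_of_nodup (List.nodup_range.filter _), ← Nat.card_eq_finsetCard, pairs]
  set r := repOf c
  have hsr : supp.contains (cls r) = true := by rw [hcr]; exact hs
  have hsq : ∀ {p : G}, IsConj z p → p ≠ 1 ∧ p * p = 1 := fun {p} hp => by
    obtain ⟨g, rfl⟩ := isConj_iff.1 hp
    refine ⟨fun h1 => e.z_ne ?_, ?_⟩
    · exact conj_eq_one_iff.1 h1
    · rw [← pow_two, conj_pow, pow_two, e.z_sq, mul_one, mul_inv_cancel]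
  symm
  refine Nat.card_congr (Equiv.ofBijective (fun i => (⟨(f i.1, f i.1 * f r), ?_, ?_, ?_⟩ :
    {p : G × G // IsConj z p.1 ∧ IsConj z p.2 ∧ p.1 * p.2 = f r})) ⟨?_, ?_⟩)
  · have hi := List.mem_filter.1 (List.mem_toFinset.1 i.2)
    simp only [Bool.and_eq_true] at hi
    obtain ⟨a, b⟩ := (e.invol_iff (List.mem_range.1 hi.1)).1 hi.2.1
    exact e.fus _ (List.mem_range.1 hi.1) a b
  · have hi := List.mem_filter.1 (List.mem_toFinset.1 i.2)
    simp only [Bool.and_eq_true] at hi
    obtain ⟨a, b⟩ := (e.invol_iff (mulM_lt (List.mem_range.1 hi.1))).1 hi.2.2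
    show IsConj z (f i.1 * f r)
    rw [← e.mul _ (List.mem_range.1 hi.1) _ hr]
    exact e.fus _ (mulM_lt (List.mem_range.1 hi.1)) a b
  · show f i.1 * (f i.1 * f r) = f r
    have hi := List.mem_filter.1 (List.mem_toFinset.1 i.2)
    simp only [Bool.and_eq_true] at hi
    rw [← mul_assoc, ((e.invol_iff (List.mem_range.1 hi.1)).1 hi.2.1).2, one_mul]
  · intro i i' hii
    have h1 : f i.1 = f i'.1 := congrArg (fun p => p.1.1) hii
    exact Subtype.ext (e.inj _ (List.mem_range.1 (List.mem_filter.1 (List.mem_toFinset.1 i.2)).1) _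
      (List.mem_range.1 (List.mem_filter.1 (List.mem_toFinset.1 i'.2)).1) h1)
  · rintro ⟨⟨p1, p2⟩, h1, h2, h3⟩
    dsimp only at h1 h2 h3
    obtain ⟨n1, s1⟩ := hsq h1
    obtain ⟨n2, s2⟩ := hsq h2
    obtain ⟨k, hk1, hk2⟩ := e.supp_power hr hsr
    have i1 : p1⁻¹ = p1 := inv_eq_of_mul_eq_one_right s1
    have hinv : p1 * f r * p1⁻¹ = (f r)⁻¹ := by
      rw [← h3, mul_inv_rev, inv_eq_of_mul_eq_one_right s2, ← mul_assoc, s1, one_mul, i1]
    have hcz : Commute p1 z := by
      have h4 : p1 * z * p1⁻¹ = z := by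
        rw [← hk2, ← conj_pow, hinv, inv_pow, hk2, inv_eq_of_mul_eq_one_right e.z_sq]
      exact mul_inv_eq_iff_eq_mul.1 h4
    obtain ⟨i, hi, hip⟩ := e.range p1 hcz
    have h2' : f (mulM i r) = p2 := by rw [e.mul _ hi _ hr, hip, ← h3, ← mul_assoc, s1, one_mul]
    refine ⟨⟨i, List.mem_toFinset.2 (List.mem_filter.2 ⟨List.mem_range.2 hi, ?_⟩)⟩, Subtype.ext (Prod.ext hip ?_)⟩
    · rw [Bool.and_eq_true, e.invol_iff hi, e.invol_iff (mulM_lt hi), hip, h2']
      exact ⟨⟨n1, s1⟩, n2, s2⟩
    · show f i * f r = p2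
      rw [← e.mul _ hi _ hr, h2']

theorem structure_sum [Fintype G] {t : ℕ} (ht : t < 11) :
    (Nat.card G : ℂ) * (ksum.getD t 0 : ℂ) = (Nat.card {x : G // IsConj z x} : ℂ) * (Nat.card {x : G // IsConj z x} : ℂ) *
      ∑ χ : IrrCharacter G, (χ : G → ℂ) z * (χ : G → ℂ) z * conj (pairing f t (χ : G → ℂ)) / (χ : G → ℂ) 1 := by
  classical
  have hP : IsClassFunction G (fun y => (pairs z z y : ℂ)) := by
    intro g h
    apply mul_left_cancel₀ (Nat.cast_ne_zero.2 Nat.card_pos.ne' : (Nat.card G : ℂ) ≠ 0)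
    rw [pairs_eq, pairs_eq]
    congr 1
    refine Finset.sum_congr rfl fun χ _ => ?_
    have hcl : IsClassFunction G (χ : G → ℂ) := fun a b => by
      obtain ⟨n, ρ, -, hρ⟩ := χ.2
      rw [← hρ]
      exact ρ.char_conj a b
    rw [show (h * g * h⁻¹)⁻¹ = h * g⁻¹ * h⁻¹ by group, hcl]
  have hk : ∑ x ∈ Finset.range 576, (val t (cls x) : ℂ) * (pairs z z (f x) : ℂ) = (ksum.getD t 0 : ℂ) := by
    rw [class_values e hP (fun c => (val t c : ℂ))]
    have h2 := vals_data.2.2.1 t ht
    rw [range_sum] at h2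
    have h3 := congrArg (fun n : ℤ => (n : ℂ)) h2
    push_cast at h3
    rw [← h3]
    refine Finset.sum_congr rfl fun c hc => ?_
    by_cases hv : val t c = 0
    · simp [hv]
    rw [e.pairs_rep (Finset.mem_range.1 hc) (supp_of_val ht (Finset.mem_range.1 hc) hv)]
  rw [← hk, Finset.mul_sum]
  calc ∑ x ∈ Finset.range 576, (Nat.card G : ℂ) * ((val t (cls x) : ℂ) * (pairs z z (f x) : ℂ))
      = ∑ x ∈ Finset.range 576, (val t (cls x) : ℂ) * ((Nat.card {x : G // IsConj z x} : ℂ) *
          (Nat.card {x : G // IsConj z x} : ℂ) *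
          ∑ χ : IrrCharacter G, (χ : G → ℂ) z * (χ : G → ℂ) z * (χ : G → ℂ) (f x)⁻¹ / (χ : G → ℂ) 1) :=
        Finset.sum_congr rfl fun x _ => by rw [← pairs_eq]; ring
    _ = _ := by
      simp only [pairing, map_sum, map_mul, map_intCast, Finset.mul_sum, Finset.sum_div]
      rw [Finset.sum_comm]
      refine Finset.sum_congr rfl fun χ _ => Finset.sum_congr rfl fun x _ => ?_
      rw [char_apply_inv (isCharacter_of_irr χ.2) (f x)]
      ring

/-- The order of the group. -/
theorem card_eq : Nat.card G = 4245696 := by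
  classical
  haveI := Fintype.ofFinite G
  have hcl : ∀ χ : IrrCharacter G, IsClassFunction G (χ : G → ℂ) := fun χ a b => by
    obtain ⟨n, ρ, -, hρ⟩ := χ.2
    rw [← hρ]
    exact ρ.char_conj a b
  have hint : ∀ (χ : IrrCharacter G) (t : ℕ), ∃ n : ℤ, t < 13 → pairing f t (χ : G → ℂ) = 576 * n := fun χ t => by
    by_cases ht : t < 13
    · obtain ⟨n, hn⟩ := pairing_int e (isCharacter_of_irr χ.2) ht
      exact ⟨n, fun _ => hn⟩
    · exact ⟨0, fun h => absurd h ht⟩
  choose a ha using hint
  have hdeg : ∀ χ : IrrCharacter G, ∃ d : ℤ, 0 < d ∧ (χ : G → ℂ) 1 = d := fun χ => by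
    obtain ⟨d, hd, hd'⟩ := irr_degree_pos χ.2
    exact ⟨d, by exact_mod_cast hd, by rw [hd']; norm_num⟩
  choose deg hdpos hdeg using hdeg
  set cz : IrrCharacter G → ℤ := fun χ => ∑ i ∈ Finset.range 11, wt.getD i 0 * a χ i with hcz
  have hzval : ∀ χ : IrrCharacter G, (χ : G → ℂ) z = cz χ := fun χ => by
    have h := e.value_z (hcl χ)
    rw [Finset.sum_congr rfl (fun i hi => by
      rw [ha χ i (by have := Finset.mem_range.1 hi; omega)] )] at h
    apply mul_left_cancel₀ (by norm_num : (576 : ℂ) ≠ 0)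
    rw [← h, hcz]
    push_cast
    rw [Finset.mul_sum]
    exact Finset.sum_congr rfl fun i _ => by ring
  have hgram : ∀ i < 11, ∀ j < 11, ∑ χ, a χ i * a χ j = gr i j := fun i hi j hj => by
    have h := e.gram_pairing hi hj
    rw [Finset.sum_congr rfl (fun χ _ => by
      rw [ha χ i (by omega), ha χ j (by omega), map_mul, Complex.conj_ofNat, map_intCast])] at h
    have h' : (576 * 576 : ℂ) * ((∑ χ, a χ i * a χ j : ℤ) : ℂ) = 576 * 576 * (gr i j : ℂ) := by
      rw [← h]; push_cast; rw [Finset.mul_sum]; exact Finset.sum_congr rfl fun χ _ => by ring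
    exact_mod_cast mul_left_cancel₀ (by norm_num) h'
  have hdsum : ∀ i < 11, ∑ χ, a χ i * deg χ = 0 := fun i hi => by
    have h := e.degree_sum hi
    rw [Finset.sum_congr rfl (fun χ _ => by rw [ha χ i (by omega), hdeg χ])] at h
    have h' : (576 : ℂ) * ((∑ χ, a χ i * deg χ : ℤ) : ℂ) = 0 := by
      rw [← h]; push_cast; rw [Finset.mul_sum]; exact Finset.sum_congr rfl fun χ _ => by ring
    exact_mod_cast (mul_eq_zero.1 h').resolve_left (by norm_num)
  set lam : ℚ := 331776 / Nat.card G with hlamd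
  have hN : (Nat.card G : ℚ) ≠ 0 := Nat.cast_ne_zero.2 Nat.card_pos.ne'
  have hstruct : ∀ t < 11, ∑ χ, (a χ t : ℚ) * (cz χ) ^ 2 / deg χ = ksum.getD t 0 / 576 * lam := fun t ht => by
    have h := e.structure_sum ht
    rw [Finset.sum_congr rfl (fun χ _ => by
      rw [ha χ t (by omega), hzval χ, hdeg χ, map_mul, Complex.conj_ofNat, map_intCast])] at h
    have hc := e.card_class_z
    have hG : (Nat.card G : ℂ) ≠ 0 := Nat.cast_ne_zero.2 Nat.card_pos.ne'
    have h' : (((∑ χ, (a χ t : ℚ) * (cz χ) ^ 2 / deg χ) * (Nat.card G : ℚ) : ℚ) : ℂ) =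
        ((576 * (ksum.getD t 0 : ℚ) : ℚ) : ℂ) := by
      push_cast
      apply mul_left_cancel₀ hG
      set S := ∑ χ : IrrCharacter G, (a χ t : ℂ) * (cz χ : ℂ) ^ 2 / (deg χ : ℂ)
      have hS : ∑ χ : IrrCharacter G, (cz χ : ℂ) * (cz χ : ℂ) * (576 * (a χ t : ℂ)) / (deg χ : ℂ) = 576 * S := by
        rw [Finset.mul_sum]; exact Finset.sum_congr rfl fun χ _ => by ring
      rw [hS] at h
      linear_combination (-576 : ℂ) * h - S * ((Nat.card {x : G // IsConj z x} : ℂ) * 576 + Nat.card G) * hc
    have h'' := Rat.cast_injective (α := ℂ) h'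
    rw [hlamd]
    field_simp at h'' ⊢
    linarith
  -- signs
  let one : IrrCharacter G := ⟨fun _ => 1, isIrrCharacter_one⟩
  have hone : ∀ i < 11, a one i = prin.getD i 0 := fun i hi => by
    have h : pairing f i (one : G → ℂ) = 576 * (prin.getD i 0 : ℂ) := by
      rw [pairing, class_values e (hcl one) (fun c => (val i c : ℂ))]
      have h2 := vals_data.2.1 i hi
      rw [range_sum] at h2
      have h3 := congrArg (fun n : ℤ => (n : ℂ)) h2
      push_cast at h3
      rw [← h3]
      exact Finset.sum_congr rfl fun c _ => mul_one _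
    rw [ha one i (by omega)] at h
    exact_mod_cast mul_left_cancel₀ (by norm_num) h
  let sg : IrrCharacter G → ℤ := fun χ => if signOK (colA a 11 χ) = true then 1 else -1
  have hsg2 : ∀ χ, sg χ * sg χ = 1 := fun χ => by simp only [sg]; split_ifs <;> norm_num
  let ι := {χ : IrrCharacter G // χ ≠ one}
  let b : ι → ℕ → ℤ := fun χ i => sg χ.1 * a χ.1 i
  have hsplit : ∀ F : IrrCharacter G → ℤ, ∑ χ, F χ = F one + ∑ χ : ι, F χ.1 := fun F => by
    rw [← Finset.add_sum_erase _ _ (Finset.mem_univ one)]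
    congr 1
    exact (Finset.sum_subtype _ (fun χ => by simp) F)
  have hsplitQ : ∀ F : IrrCharacter G → ℚ, ∑ χ, F χ = F one + ∑ χ : ι, F χ.1 := fun F => by
    rw [← Finset.add_sum_erase _ _ (Finset.mem_univ one)]
    congr 1
    exact (Finset.sum_subtype _ (fun χ => by simp) F)
  have hs : ∀ χ, signOK (colA b 11 χ) = true := fun χ => by
    by_cases h : signOK (colA a 11 χ.1) = true
    · rw [show colA b 11 χ = colA a 11 χ.1 from List.map_congr_left fun i _ => by simp [b, sg, h]]
      exact h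
    · rw [show colA b 11 χ = (colA a 11 χ.1).map Neg.neg by
        simp only [colA, List.map_map]
        exact List.map_congr_left fun i _ => by simp [b, sg, h]]
      exact (signOK_or_neg _).resolve_left h
  have hB : ∀ χ : ι, ∀ t, t ≤ 11 → besselOK (colA b t χ) = true := fun χ t ht => by
    simp only [besselOK, decide_eq_true_eq]
    set x := (bess.getD ((colA b t χ).length - 1) []).map fun r => dotL r (colA b t χ)
    have hlen : t = 0 ∨ x.length = t := by
      have : ((List.range 12).all fun s => (s == 0) || ((bess.getD (s - 1) []).length == s)) = true := by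
        decide +kernel
      simp only [List.all_eq_true, List.mem_range, Bool.or_eq_true, beq_iff_eq] at this
      rcases this t (by omega) with h | h
      · exact Or.inl h
      · refine Or.inr ?_
        simpa [x, colA, List.getD_eq_getElem?_getD] using h
    rcases hlen with rfl | hlen
    · have hxe : (bess.getD 0 []).map (fun r => dotL r ([] : List ℤ)) = [0] := by decide +kernel
      have hz : x = [0] := by simpa [x, colA] using hxe
      rw [hz]
      simp only [colA, List.range_zero, List.map_nil]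
      decide +kernel
    rw [show dotL x (colA b t χ) = ∑ i ∈ Finset.range t, x.getD i 0 * b χ i from dotL_map x (b χ) t hlen]
    have hq : quadL x = ∑ ψ : IrrCharacter G, (∑ i ∈ Finset.range t, x.getD i 0 * a ψ i) *
        (∑ i ∈ Finset.range t, x.getD i 0 * a ψ i) := by
      simp only [quadL, hlen, range_sum, Finset.sum_mul, Finset.mul_sum]
      symm
      rw [Finset.sum_comm]
      refine Finset.sum_congr rfl fun i hi => ?_
      rw [Finset.sum_comm]
      refine Finset.sum_congr rfl fun j hj => ?_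
      rw [← hgram i (by have := Finset.mem_range.1 hi; omega) j (by have := Finset.mem_range.1 hj; omega),
        Finset.mul_sum]
      exact Finset.sum_congr rfl fun ψ _ => by ring
    rw [hq]
    have he : ∑ i ∈ Finset.range t, x.getD i 0 * b χ i = sg χ.1 * ∑ i ∈ Finset.range t, x.getD i 0 * a χ.1 i := by
      rw [Finset.mul_sum]; exact Finset.sum_congr rfl fun i _ => by simp only [b]; ring
    rw [he, mul_mul_mul_comm, hsg2, one_mul]
    exact Finset.single_le_sum (f := fun ψ : IrrCharacter G => (∑ i ∈ Finset.range t, x.getD i 0 * a ψ i) *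
      (∑ i ∈ Finset.range t, x.getD i 0 * a ψ i)) (fun ψ _ => mul_self_nonneg _) (Finset.mem_univ χ.1)
  have hpar : ∀ χ : ι, parityOK (colA b 11 χ) = true := fun χ => by
    simp only [parityOK, beq_iff_eq]
    rw [colA_getD b (by norm_num), colA_getD b (by norm_num), colA_getD b (by norm_num), colA_getD b (by norm_num)]
    have h := e.cong_eight (hcl χ.1)
    rw [ha _ 12 (by norm_num), ha _ 2 (by norm_num), ha _ 3 (by norm_num), ha _ 8 (by norm_num),
      ha _ 10 (by norm_num)] at h
    have h' : ((8 * a χ.1 12 : ℤ) : ℂ) = ((4 * (a χ.1 2 + a χ.1 3 + a χ.1 8 + a χ.1 10) : ℤ) : ℂ) := by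
      push_cast; linear_combination (1 / 576 : ℂ) * h
    have h'' : 8 * a χ.1 12 = 4 * (a χ.1 2 + a χ.1 3 + a χ.1 8 + a χ.1 10) := by exact_mod_cast h'
    simp only [b, sg]
    split_ifs <;> omega
  have hP : ∀ χ : ι, ∀ i < 11, b χ i * b χ i < 9 := fun χ i hi => by
    have h := presOK_true
    simp only [presOK, Bool.and_eq_true, List.all_eq_true, List.mem_range, decide_eq_true_eq] at h
    refine lt_of_le_of_lt ?_ (h.2 i hi)
    rw [show b χ i * b χ i = a χ.1 i * a χ.1 i by
      simp only [b]; rw [mul_mul_mul_comm, hsg2, one_mul], ← hgram i hi i hi]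
    exact Finset.single_le_sum (f := fun ψ => a ψ i * a ψ i) (fun ψ _ => mul_self_nonneg _) (Finset.mem_univ χ.1)
  have hR : ∀ i < 11, ∀ j < 11, ∑ χ, b χ i * b χ j = res i j := fun i hi j hj => by
    have h := hgram i hi j hj
    rw [hsplit, hone i hi, hone j hj] at h
    rw [res, ← h, add_sub_cancel_left]
    exact Finset.sum_congr rfl fun χ _ => by simp only [b]; rw [mul_mul_mul_comm, hsg2, one_mul]
  obtain ⟨l, hl, hlp⟩ := exists_preimage_list _ seven _ (seven_cols b hB hs hpar hR hP)
  rw [seven] at hlp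
  obtain ⟨xd, l1, rfl, hd', hlp⟩ := List.map_eq_cons_iff.1 hlp
  obtain ⟨xa', l2, rfl, ha', hlp⟩ := List.map_eq_cons_iff.1 hlp
  obtain ⟨xq', l3, rfl, hq', hlp⟩ := List.map_eq_cons_iff.1 hlp
  obtain ⟨xp', l4, rfl, hp', hlp⟩ := List.map_eq_cons_iff.1 hlp
  obtain ⟨xa, l5, rfl, hae, hlp⟩ := List.map_eq_cons_iff.1 hlp
  obtain ⟨xp, l6, rfl, hpe, hlp⟩ := List.map_eq_cons_iff.1 hlp
  obtain ⟨xq, l7, rfl, hqe, hlp⟩ := List.map_eq_cons_iff.1 hlp
  obtain rfl := List.map_eq_nil_iff.1 hlp
  -- values
  let dg : ι → ℤ := fun χ => sg χ.1 * deg χ.1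
  have hcol : ∀ χ : ι, proj (colA b 11 χ) = [b χ 0, b χ 1, b χ 3, b χ 4, sg χ.1 * cz χ.1, dg χ % 32] := fun χ => by
    simp only [proj]
    rw [colA_getD b (by norm_num), colA_getD b (by norm_num), colA_getD b (by norm_num), colA_getD b (by norm_num)]
    congr 5
    · rw [wOf, colA, dotL_map wt _ 11 rfl, hcz, Finset.mul_sum]
      exact Finset.sum_congr rfl fun i _ => by simp only [b]; ring
    · congr 1
      have h := e.cong_thirty_two (hcl χ.1)
      rw [ha _ 11 (by norm_num), hdeg, Finset.sum_congr rfl (fun i hi => by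
        rw [ha χ.1 i (by have := Finset.mem_range.1 hi; omega)])] at h
      have h' : ((32 * a χ.1 11 : ℤ) : ℂ) =
          ((deg χ.1 + ∑ i ∈ Finset.range 11, cong32.getD i 0 * a χ.1 i : ℤ) : ℂ) := by
        push_cast
        apply mul_left_cancel₀ (by norm_num : (576 : ℂ) ≠ 0)
        rw [mul_add, Finset.mul_sum, show (576 : ℂ) * (32 * (a χ.1 11 : ℂ)) = 32 * (576 * a χ.1 11) by ring, h]
        congr 1
        exact Finset.sum_congr rfl fun i _ => by ring
      have h'' : 32 * a χ.1 11 = deg χ.1 + ∑ i ∈ Finset.range 11, cong32.getD i 0 * a χ.1 i := by exact_mod_cast h'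
      rw [rOf, colA, dotL_map _ _ 11 rfl]
      have hu : ∑ i ∈ Finset.range 11, (cong32.take 11).getD i 0 * b χ i =
          sg χ.1 * ∑ i ∈ Finset.range 11, cong32.getD i 0 * a χ.1 i := by
        rw [Finset.mul_sum]
        refine Finset.sum_congr rfl fun i hi => ?_
        rw [List.getD_eq_getElem?_getD, List.getElem?_take, if_pos (Finset.mem_range.1 hi), ← List.getD_eq_getElem?_getD]
        simp only [b]; ring
      rw [hu]
      simp only [dg, sg]
      split_ifs <;> omega
  simp only [hcol, List.cons.injEq, and_true] at hd' ha' hq' hp' hae hpe hqe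
  obtain ⟨⟨d0, d1, d3, d4, dc, dr⟩, ⟨a'0, a'1, a'3, a'4, a'c, a'r⟩, ⟨q'0, q'1, q'3, q'4, q'c, q'r⟩,
    ⟨p'0, p'1, p'3, p'4, p'c, p'r⟩, ⟨a0, a1, a3, a4, ac, ar⟩, ⟨p0, p1, p3, p4, pc, pr⟩, ⟨q0, q1, q3, q4, qc, qr⟩⟩ :=
    And.intro hd' (And.intro ha' (And.intro hq' (And.intro hp' (And.intro hae (And.intro hpe hqe)))))
  have hzero : ∀ t, (t = 0 ∨ t = 1 ∨ t = 3 ∨ t = 4) → ∀ χ : ι,
      χ ∉ (Finset.univ.filter fun χ => live (colA b 11 χ) = true) → b χ t = 0 := fun t ht χ hχ => by
    simp only [Finset.mem_filter, Finset.mem_univ, true_and, live, Bool.or_eq_true, bne_iff_ne, not_or, not_not] at hχ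
    rw [colA_getD b (by norm_num), colA_getD b (by norm_num), colA_getD b (by norm_num), colA_getD b (by norm_num)] at hχ
    rcases ht with rfl | rfl | rfl | rfl <;> tauto
  have hD : ∀ t, t < 11 → (t = 0 ∨ t = 1 ∨ t = 3 ∨ t = 4) →
      prin.getD t 0 + ([xd, xa', xq', xp', xa, xp, xq].map fun χ => b χ t * dg χ).sum = 0 := fun t ht ht4 => by
    have h := hdsum t ht
    rw [hsplit, hone t ht] at h
    have hd1 : deg one = 1 := by
      have h1 := hdeg one
      rw [show (one : G → ℂ) 1 = 1 from rfl] at h1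
      exact_mod_cast h1.symm
    rw [hd1, mul_one] at h
    refine Eq.trans (congrArg (fun w : ℤ => prin.getD t 0 + w) ?_) h
    rw [← Finset.sum_subset (Finset.subset_univ (Finset.univ.filter fun χ => live (colA b 11 χ) = true))
      (fun χ _ hχ => by
        have := hzero t ht4 χ hχ
        simp only [b, mul_eq_zero] at this
        rcases this with h0 | h0
        · exact absurd (hsg2 χ.1) (by rw [h0]; norm_num)
        · rw [h0, zero_mul]), Finset.sum_eq_multiset_sum, ← hl, Multiset.map_coe, Multiset.sum_coe]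
    congr 1
    exact List.map_congr_left fun χ _ => by simp only [b, dg]; rw [mul_mul_mul_comm, hsg2, one_mul]
  have hS : ∀ t, t < 11 → (t = 0 ∨ t = 1 ∨ t = 3 ∨ t = 4) →
      (prin.getD t 0 : ℚ) + ([xd, xa', xq', xp', xa, xp, xq].map fun χ =>
        (b χ t : ℚ) * ((sg χ.1 * cz χ.1 : ℤ) : ℚ) ^ 2 / dg χ).sum = ksum.getD t 0 / 576 * lam := fun t ht ht4 => by
    have h := hstruct t ht
    rw [hsplitQ] at h
    have hd1 : deg one = 1 := by
      have h1 := hdeg one
      rw [show (one : G → ℂ) 1 = 1 from rfl] at h1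
      exact_mod_cast h1.symm
    have hc1 : cz one = 1 := by
      have h1 := hzval one
      rw [show (one : G → ℂ) z = 1 from rfl] at h1
      exact_mod_cast h1.symm
    rw [hone t ht, hd1, hc1] at h
    norm_num at h
    refine Eq.trans (congrArg (fun w : ℚ => (prin.getD t 0 : ℚ) + w) ?_) h
    rw [← Finset.sum_subset (Finset.subset_univ (Finset.univ.filter fun χ => live (colA b 11 χ) = true))
      (fun χ _ hχ => by
        have := hzero t ht4 χ hχ
        simp only [b, mul_eq_zero] at this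
        rcases this with h0 | h0
        · exact absurd (hsg2 χ.1) (by rw [h0]; norm_num)
        · rw [h0]; simp), Finset.sum_eq_multiset_sum, ← hl, Multiset.map_coe, Multiset.sum_coe]
    congr 1
    refine List.map_congr_left fun χ _ => ?_
    simp only [b, dg]
    rcases (show sg χ.1 = 1 ∨ sg χ.1 = -1 by simp only [sg]; split_ifs <;> simp) with h' | h' <;>
      rw [h'] <;> push_cast <;> ring
  have D0 := hD 0 (by norm_num) (by norm_num)
  have D1 := hD 1 (by norm_num) (by norm_num)
  have D3 := hD 3 (by norm_num) (by norm_num)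
  have D4 := hD 4 (by norm_num) (by norm_num)
  have S0 := hS 0 (by norm_num) (by norm_num)
  have S1 := hS 1 (by norm_num) (by norm_num)
  have S3 := hS 3 (by norm_num) (by norm_num)
  have S4 := hS 4 (by norm_num) (by norm_num)
  simp only [List.map_cons, List.map_nil, List.sum_cons, List.sum_nil, prin, ksum, List.getD_cons_zero,
    List.getD_cons_succ, d0, d1, d3, d4, dc, a'0, a'1, a'3, a'4, a'c, q'0, q'1, q'3, q'4, q'c, p'0, p'1, p'3,
    p'4, p'c, a0, a1, a3, a4, ac, p0, p1, p3, p4, pc, q0, q1, q3, q4, qc] at D0 D1 D3 D4 S0 S1 S3 S4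
  norm_num at D0 D1 D3 D4 S0 S1 S3 S4
  have Qa : (dg xa : ℚ) = -((dg xp : ℚ) + dg xq) := by exact_mod_cast (show dg xa = -(dg xp + dg xq) by omega)
  have Qa' : (dg xa' : ℚ) = -((dg xp' : ℚ) + dg xq') := by exact_mod_cast (show dg xa' = -(dg xp' + dg xq') by omega)
  rw [Qa, div_neg] at S0
  rw [Qa', div_neg] at S1
  have hlam := lam_eq (p := dg xp) (q := dg xq) (p' := dg xp') (q' := dg xq') (δ := dg xd) (lam := lam)
    (by rw [hlamd]; positivity) (N := Nat.card G) (by rw [hlamd, div_mul_cancel₀ _ hN])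
    pr qr p'r q'r (by omega) (by omega) (by rw [neg_div]; linarith) (by rw [neg_div]; linarith) (by linarith)
    (by linarith)
  rw [hlamd, div_eq_div_iff hN (by norm_num)] at hlam
  have h' : ((Nat.card G : ℕ) : ℚ) = ((4245696 : ℕ) : ℚ) := by push_cast; linarith
  exact_mod_cast h'

end Emb

end CfsgG23Two
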