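import Cfsg.Agent.Lib.G23Two.Emb
import Cfsg.Agent.Lib.G23Two.Small
import Cfsg.Agent.Lib.G23Two.Linear
import Cfsg.Prelude.Def_ChevG2

/-!
The involution centraliser and its fusion.
-/

set_option autoImplicit false

namespace CfsgG23Two

/-- A copy of SL2(3) in the tables. -/
structure Coord {G : Type*} [Group G] (K : Subgroup G) (g : ℕ → G) : Prop where
  mul : ∀ a < 24, ∀ b < 24, g (slMul a b) = g a * g b
  inj : ∀ a < 24, ∀ b < 24, g a = g b → a = b
  mem : ∀ a < 24, g a ∈ K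
  surj : ∀ x ∈ K, ∃ a < 24, g a = x

namespace Coord

variable {G : Type*} [Group G] {K : Subgroup G} {g : ℕ → G} (c : Coord K g)
include c

theorem zero : g 0 = 1 := by
  have := c.mul 0 (by norm_num) 0 (by norm_num)
  rw [show slMul 0 0 = 0 from (sl_neg 0 (by norm_num)).2.2.2.2.2.1] at this
  exact left_eq_mul.1 this

theorem inv {a : ℕ} (ha : a < 24) : g (slInv a) = (g a)⁻¹ := by
  obtain ⟨-, -, h1, h2, -⟩ := sl_neg a ha
  rw [eq_inv_iff_mul_eq_one, ← c.mul _ h1 _ ha, (sl_neg a ha).2.2.2.2.1, c.zero]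

theorem conj {a b : ℕ} (ha : a < 24) (hb : b < 24) : g (slConj a b) = g a * g b * (g a)⁻¹ := by
  rw [slConj, c.mul _ (sl_lt a ha b hb) _ (sl_neg a ha).2.2.1, c.mul _ ha _ hb, c.inv ha]

theorem conjugate {d : ℕ} (hd : d < 24) : Coord K fun a => g (slConj d a) := by
  have hlt : ∀ a < 24, slConj d a < 24 := fun a ha => sl_lt _ (sl_lt d hd a ha) _ (sl_neg d hd).2.2.1
  refine ⟨fun a ha b hb => ?_, fun a ha b hb h => ?_, fun a ha => c.mem _ (hlt a ha), fun x hx => ?_⟩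
  · rw [c.conj hd (sl_lt a ha b hb), c.conj hd ha, c.conj hd hb, c.mul _ ha _ hb]; group
  · rw [c.conj hd ha, c.conj hd hb] at h
    exact c.inj _ ha _ hb (mul_left_cancel (mul_right_cancel h))
  · obtain ⟨a, ha, hax⟩ := c.surj ((g d)⁻¹ * x * g d)
      (mul_mem (mul_mem (inv_mem (c.mem d hd)) hx) (c.mem d hd))
    exact ⟨a, ha, by rw [c.conj hd ha, hax]; group⟩

theorem eval {u v : ℕ} (hu : u < 24) (hv : v < 24) : ∀ w : List Bool, ∀ r < 24,
    w.foldl (fun r b => slMul r (if b then v else u)) r < 24 ∧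
    g (w.foldl (fun r b => slMul r (if b then v else u)) r) =
      w.foldl (fun x b => x * (if b then g v else g u)) (g r)
  | [], r, hr => ⟨hr, rfl⟩
  | b :: w, r, hr => by
    obtain ⟨h1, h2⟩ := eval hu hv w (slMul r (if b then v else u)) (sl_lt r hr _ (by cases b <;> assumption))
    refine ⟨h1, h2.trans ?_⟩
    rw [List.foldl_cons]
    congr 1
    rw [c.mul r hr _ (by cases b <;> assumption)]
    cases b <;> rfl

end Coord

theorem exists_coord {G : Type*} [Group G] {K : Subgroup G}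
    (e : ↥K ≃* Matrix.SpecialLinearGroup (Fin 2) (ZMod 3)) : ∃ g, Coord K g := by
  refine ⟨fun a => if h : a < 24 then ((e.symm ⟨slMat a, slMat_det a h⟩ : K) : G) else 1, ⟨?_, ?_, ?_, ?_⟩⟩
  · intro a ha b hb
    simp only [dif_pos (sl_lt a ha b hb), dif_pos ha, dif_pos hb]
    rw [← Subgroup.coe_mul]
    refine congrArg Subtype.val (Eq.trans (congrArg e.symm ?_) (map_mul e.symm _ _))
    exact Subtype.ext (slMat_mul a ha b hb)
  · intro a ha b hb h
    simp only [dif_pos ha, dif_pos hb] at h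
    exact slMat_inj a ha b hb (congrArg Subtype.val (e.symm.injective (Subtype.ext h)))
  · intro a ha
    simp only [dif_pos ha]
    exact SetLike.coe_mem _
  · intro x hx
    obtain ⟨a, ha, hax⟩ := slMat_surj (e ⟨x, hx⟩).1 (e ⟨x, hx⟩).2
    refine ⟨a, ha, ?_⟩
    simp only [dif_pos ha]
    rw [show (⟨slMat a, slMat_det a ha⟩ : Matrix.SpecialLinearGroup (Fin 2) (ZMod 3)) = e ⟨x, hx⟩ from Subtype.ext hax,
      e.symm_apply_apply]

/-- The element given by a triple. -/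
def elemOf {G : Type*} [Group G] (g1 g2 : ℕ → G) (t : G) (x : ℕ) : G :=
  g1 (x % 12) * g2 (x / 12 % 24) * t ^ (x / 288)

section

variable {G : Type*} [Group G] [Finite G]

theorem card_of_coord {K : Subgroup G} {g : ℕ → G} (c : Coord K g) : Nat.card K = 24 := by
  have e : Fin 24 ≃ K := Equiv.ofBijective (fun a => ⟨g a.val, c.mem _ a.isLt⟩)
    ⟨fun a b h => Fin.ext (c.inj _ a.isLt _ b.isLt (congrArg Subtype.val h)), fun x => by
      obtain ⟨a, ha, hax⟩ := c.surj x.1 x.2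
      exact ⟨⟨a, ha⟩, Subtype.ext hax⟩⟩
  rw [← Nat.card_congr e, Nat.card_fin]

theorem centre_of_coord {K : Subgroup G} {g : ℕ → G} (c : Coord K g) {x : G} :
    x ∈ K ⊓ Subgroup.centralizer (K : Set G) ↔ x = 1 ∨ x = g 12 := by
  rw [Subgroup.mem_inf, Subgroup.mem_centralizer_iff]
  constructor
  · rintro ⟨hx, hc⟩
    obtain ⟨a, ha, rfl⟩ := c.surj x hx
    rcases sl_centre a ha (fun b hb => c.inj _ (sl_lt a ha b hb) _ (sl_lt b hb a ha)
      (by rw [c.mul _ ha _ hb, c.mul _ hb _ ha]; exact (hc _ (c.mem b hb)).symm)) with rfl | rfl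
    · exact Or.inl c.zero
    · exact Or.inr rfl
  · rintro (rfl | rfl)
    · exact ⟨one_mem _, fun y _ => by rw [mul_one, one_mul]⟩
    · refine ⟨c.mem 12 (by norm_num), fun y hy => ?_⟩
      obtain ⟨b, hb, rfl⟩ := c.surj y hy
      rw [← c.mul _ hb _ (by norm_num), ← c.mul _ (by norm_num) _ hb, (sl_neg b hb).1, (sl_neg b hb).2.1]

theorem commute_of_coord {K L : Subgroup G} {g1 g2 : ℕ → G} (c1 : Coord K g1) (c2 : Coord L g2) {H : Subgroup G}
    (h1 : K ≤ H) (h2 : L ≤ H) (n1 : (K.subgroupOf H).Normal) (n2 : (L.subgroupOf H).Normal)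
    (hz : ∀ x, x ∈ K ⊓ L ↔ x = 1 ∨ x = g1 12) (h12 : g1 12 = g2 12) :
    ∀ a < 24, ∀ b < 24, Commute (g1 a) (g2 b) := by
  have hn1 : ∀ x ∈ H, ∀ y ∈ K, x * y * x⁻¹ ∈ K := fun x hx y hy =>
    Subgroup.mem_subgroupOf.1 (n1.conj_mem ⟨y, h1 hy⟩ (Subgroup.mem_subgroupOf.2 hy) ⟨x, hx⟩)
  have hn2 : ∀ x ∈ H, ∀ y ∈ L, x * y * x⁻¹ ∈ L := fun x hx y hy =>
    Subgroup.mem_subgroupOf.1 (n2.conj_mem ⟨y, h2 hy⟩ (Subgroup.mem_subgroupOf.2 hy) ⟨x, hx⟩)
  intro a ha
  have hK := c1.mem a ha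
  have three : ∀ u < 24, slMul (slMul u u) u = 0 → Commute (g1 a) (g2 u) := by
    intro u hu h3
    have hL := c2.mem u hu
    have hy : g2 u ^ 3 = 1 := by
      rw [pow_three, ← mul_assoc, ← c2.mul u hu u hu, ← c2.mul _ (sl_lt u hu u hu) u hu, h3, c2.zero]
    set w := g1 a * g2 u * (g1 a)⁻¹ * (g2 u)⁻¹ with hw
    have hwm : w ∈ K ⊓ L := Subgroup.mem_inf.2 ⟨by
        rw [hw, show g1 a * g2 u * (g1 a)⁻¹ * (g2 u)⁻¹ = g1 a * (g2 u * (g1 a)⁻¹ * (g2 u)⁻¹) by group]
        exact mul_mem hK (hn1 _ (h2 hL) _ (inv_mem hK)),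
      mul_mem (hn2 _ (h1 hK) _ hL) (inv_mem hL)⟩
    rcases (hz w).1 hwm with h | h
    · rw [hw, mul_inv_eq_one, mul_inv_eq_iff_eq_mul] at h
      exact h
    · exfalso
      have e : g1 a * g2 u * (g1 a)⁻¹ = g1 12 * g2 u := by rw [← h, hw]; group
      have hcen : Commute (g1 12) (g2 u) := by
        rw [h12]
        have := ((centre_of_coord c2).2 (Or.inr rfl)).2
        exact (Subgroup.mem_centralizer_iff.1 this _ hL).symm
      have e3 := congrArg (· ^ 3) e
      simp only [conj_pow, hy, mul_one, mul_inv_cancel, hcen.mul_pow] at e3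
      have h2' : g1 12 ^ 2 = 1 := by
        rw [pow_two, ← c1.mul 12 (by norm_num) 12 (by norm_num), show slMul 12 12 = 0 by decide +kernel, c1.zero]
      rw [pow_succ, h2', one_mul] at e3
      have := c1.inj 0 (by norm_num) 12 (by norm_num) (by rw [c1.zero]; exact e3)
      omega
  have h6 := three 6 (by norm_num) sl_gen_order.1
  have h4 := three 4 (by norm_num) sl_gen_order.2
  have main : ∀ w : List Bool, ∀ r : G, Commute (g1 a) r →
      Commute (g1 a) (w.foldl (fun x b => x * (if b then g2 4 else g2 6)) r) := by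
    intro w
    induction w with
    | nil => exact fun r h => h
    | cons b w ih =>
      intro r h
      exact ih _ (h.mul_right (by cases b <;> assumption))
  intro b hb
  have := (c2.eval (u := 6) (v := 4) (by norm_num) (by norm_num) (wordOf b) 0 (by norm_num)).2
  rw [show (wordOf b).foldl (fun r i => slMul r (if i then 4 else 6)) 0 = b from sl_words b hb, c2.zero] at this
  rw [this]
  exact main _ 1 (Commute.one_right _)

/-- The hypotheses, in coordinates. -/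
structure Pair (H : Subgroup G) (g1 g2 : ℕ → G) (z : G) : Prop where
  m1 : ∀ a < 24, ∀ b < 24, g1 (slMul a b) = g1 a * g1 b
  m2 : ∀ a < 24, ∀ b < 24, g2 (slMul a b) = g2 a * g2 b
  i1 : ∀ a < 24, ∀ b < 24, g1 a = g1 b → a = b
  i2 : ∀ a < 24, ∀ b < 24, g2 a = g2 b → a = b
  z1 : g1 12 = z
  z2 : g2 12 = z
  comm : ∀ a < 24, ∀ b < 24, Commute (g1 a) (g2 b)
  meet : ∀ a < 24, ∀ b < 24, g1 a = g2 b → a = 0 ∨ a = 12
  hH : H = Subgroup.centralizer ({z} : Set G)

end

end CfsgG23Two
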