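import Cfsg.Agent.Lib.G23Two.CaseOneEnd

/-!
Two Sylow-central elements of order three that are not conjugate.
-/

set_option autoImplicit false
set_option maxRecDepth 100000

namespace CfsgG23Two

open scoped Pointwise

theorem snd_table : (∀ a < 24, ∀ b < 24, mulM (snd a) (snd b) = snd (slMul a b)) ∧
    snd 0 = 0 ∧ snd 12 = zM ∧ snd 6 = 72 ∧ snd 9 = 108 ∧
    (∀ b < 24, (snd b = 0 ∨ snd b = 6 ∨ snd b = 9) → b = 0) ∧
    (∀ b < 24, b ≠ 0 → slMul (slMul b b) b = 0 →
      ∃ c < 24, slMul (slMul c b) (slInv c) = 6 ∨ slMul (slMul c b) (slInv c) = 9) ∧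
    (∀ b < 24, b ≠ 0 → b ≠ 12 → slMul b b = 12 ∨ ∃ c < 24, ∃ d < 24,
      d = slMul (slMul b c) (slMul (slInv b) (slInv c)) ∧ slMul d d = 12) := by
  refine ⟨by decide +kernel, by decide +kernel, by decide +kernel, by decide +kernel, by decide +kernel,
    by decide +kernel, ?_, ?_⟩
  · have h : ((List.range 24).all fun b => (b == 0) || (slMul (slMul b b) b != 0) || (List.range 24).any fun c =>
        (slMul (slMul c b) (slInv c) == 6) || (slMul (slMul c b) (slInv c) == 9)) = true := by decide +kernel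
    simp only [List.all_eq_true, List.any_eq_true, List.mem_range, Bool.or_eq_true, beq_iff_eq, bne_iff_ne] at h
    intro b hb h0 h3
    obtain ⟨c, hc, hce⟩ := (h b hb).resolve_left (by rintro (a | a) <;> contradiction)
    exact ⟨c, hc, hce⟩
  · have h : ((List.range 24).all fun b => (b == 0) || (b == 12) || (slMul b b == 12) ||
        (List.range 24).any fun c =>
          let d := slMul (slMul b c) (slMul (slInv b) (slInv c))
          decide (d < 24) && (slMul d d == 12)) = true := by decide +kernel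
    simp only [List.all_eq_true, List.any_eq_true, List.mem_range, Bool.or_eq_true, Bool.and_eq_true,
      beq_iff_eq, decide_eq_true_eq] at h
    intro b hb h0 h12
    rcases h b hb with ((a | a) | a) | ⟨c, hc, hd, e⟩
    exacts [absurd a h0, absurd a h12, Or.inl a, Or.inr ⟨c, hc, _, hd, rfl, e⟩]

variable {G : Type*} [Group G] {f : ℕ → G} {z : G}

namespace Emb

variable (e : Emb f z)
include e

theorem snd_mul {a b : ℕ} (ha : a < 24) (hb : b < 24) : f (snd (slMul a b)) = f (snd a) * f (snd b) := by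
  rw [← e.mul _ (snd_data.1 a ha).1 _ (snd_data.1 b hb).1, snd_table.1 a ha b hb]

theorem snd_inv {a : ℕ} (ha : a < 24) : f (snd (slInv a)) = (f (snd a))⁻¹ := by
  obtain ⟨-, -, h1, -, h2, -⟩ := sl_neg a ha
  rw [eq_inv_iff_mul_eq_one, ← e.snd_mul h1 ha, h2, snd_table.2.1, e.one]

theorem snd_z : f (snd 12) = z := by rw [snd_table.2.2.1, e.hz]

theorem snd_comm {b : ℕ} (hb : b < 24) : Commute (f (snd b)) z := e.comm (snd_data.1 b hb).1

theorem snd_f6 {b : ℕ} (hb : b < 24) : f (snd b) * f 6 * (f (snd b))⁻¹ = f 6 := by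
  obtain ⟨h1, h2⟩ := snd_data.1 b hb
  rw [e.rel h1 (by norm_num) (by norm_num) h1 (beq_iff_eq.1 h2), mul_inv_cancel_right]

/-- A subgroup normalised by the second factor that avoids z meets it trivially. -/
theorem ker_trivial {Kr : Subgroup G} (hn : ∀ c < 24, ∀ k ∈ Kr, f (snd c) * k * (f (snd c))⁻¹ ∈ Kr) (hz : z ∉ Kr)
    {b : ℕ} (hb : b < 24) (hk : f (snd b) ∈ Kr) : b = 0 := by
  by_contra h0
  by_cases h12 : b = 12
  · subst h12; exact hz (e.snd_z ▸ hk)
  rcases snd_table.2.2.2.2.2.2.2 b hb h0 h12 with h | ⟨c, hc, d, hd, hdd, h⟩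
  · refine hz ?_
    rw [← e.snd_z, ← h, e.snd_mul hb hb]
    exact mul_mem hk hk
  · refine hz ?_
    have hdK : f (snd d) ∈ Kr := by
      rw [hdd, e.snd_mul (sl_lt b hb c hc) (sl_lt _ (sl_neg b hb).2.2.1 _ (sl_neg c hc).2.2.1), e.snd_mul hb hc,
        e.snd_mul (sl_neg b hb).2.2.1 (sl_neg c hc).2.2.1, e.snd_inv hb, e.snd_inv hc,
        show f (snd b) * f (snd c) * ((f (snd b))⁻¹ * (f (snd c))⁻¹) =
          f (snd b) * (f (snd c) * (f (snd b))⁻¹ * (f (snd c))⁻¹) by group]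
      exact mul_mem hk (hn c hc _ (inv_mem hk))
    rw [← e.snd_z, ← h, e.snd_mul hd hd]
    exact mul_mem hdK hdK

variable [Finite G]

/-- All involutions are conjugate. -/
theorem all_invol {s : G} (h1 : s ≠ 1) (h2 : s * s = 1) : IsConj z s := by
  have hzi : z⁻¹ = z := inv_eq_of_mul_eq_one_left e.z_sq
  have hsi : s⁻¹ = s := inv_eq_of_mul_eq_one_left h2
  set w := z * s with hw
  have hzw : z * w * z⁻¹ = w⁻¹ := by
    rw [hw, mul_inv_rev, hsi, hzi, ← mul_assoc, e.z_sq, one_mul]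
  have hsw : s * w * s⁻¹ = w⁻¹ := by
    rw [hw, mul_inv_rev, hsi, hzi, mul_assoc, mul_assoc, h2, mul_one]
  rcases Nat.even_or_odd' (orderOf w) with ⟨k, hk | hk⟩
  · set c := w ^ k with hc
    have hk0 : 0 < k := by have := orderOf_pos w; omega
    have hc1 : c ≠ 1 := fun h => by
      have := Nat.le_of_dvd hk0 (orderOf_dvd_of_pow_eq_one h); omega
    have hcc : c * c = 1 := by rw [hc, ← pow_add, ← two_mul, ← hk, pow_orderOf_eq_one]
    have hci : c⁻¹ = c := inv_eq_of_mul_eq_one_left hcc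
    have hcz : Commute c z := by
      refine (mul_inv_eq_iff_eq_mul.1 ?_ : z * c = c * z).symm
      rw [hc, ← conj_pow, hzw, inv_pow, ← hc, hci]
    have hcs : Commute c s := by
      refine (mul_inv_eq_iff_eq_mul.1 ?_ : s * c = c * s).symm
      rw [hc, ← conj_pow, hsw, inv_pow, ← hc, hci]
    obtain ⟨x, hx, hxe⟩ := e.range c hcz
    have hzc : IsConj z c := hxe ▸ e.fus x hx (hxe ▸ hc1) (hxe ▸ hcc)
    obtain ⟨g, hg⟩ := isConj_iff.1 hzc
    have e' : Emb (fun x => g * f x * g⁻¹) c := hg ▸ e.conj g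
    obtain ⟨y, hy, hye⟩ := e'.range s hcs.symm
    exact hzc.trans (hye ▸ e'.fus y hy (hye ▸ h1) (hye ▸ h2))
  · refine isConj_iff.2 ⟨w ^ k, ?_⟩
    have h3 : w ^ k * z = z * (w ^ k)⁻¹ := by
      have h4 : z * (w ^ k)⁻¹ * z⁻¹ = w ^ k := by rw [← conj_inv, ← conj_pow, hzw, inv_pow, inv_inv]
      conv_lhs => rw [← h4]
      group
    rw [h3, mul_assoc, ← mul_inv_rev, ← pow_add, show s = z * w by rw [hw, ← mul_assoc, e.z_sq, one_mul]]
    congr 1
    refine inv_eq_of_mul_eq_one_right ?_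
    rw [← pow_succ, ← two_mul, ← hk, pow_orderOf_eq_one]

theorem invol_centralized {s : G} (h1 : s ≠ 1) (h2 : s * s = 1) {X : Subgroup G} (hX : Odd (Nat.card X))
    (hc : ∀ x ∈ X, Commute x s) : Nat.card X ∣ 9 := by
  obtain ⟨g, hg⟩ := isConj_iff.1 (e.all_invol h1 h2)
  have e' : Emb (fun x => g * f x * g⁻¹) s := hg ▸ e.conj g
  exact e'.card_odd_le hX hc

end Emb

namespace Side

variable [Finite G] {R : Subgroup G} {d : ℕ} (S : Side f z R d) (e : Emb f z)
include S e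

theorem snd_conj {c : ℕ} (hc : c < 24) : ∀ r ∈ R, f (snd c) * r * (f (snd c))⁻¹ ∈ R :=
  S.conj _ (Or.inl (e.snd_f6 hc))

theorem mem_of_snd {b : ℕ} (hb : b < 24) (h : f (snd b) ∈ R) : b = 0 := by
  obtain ⟨a, ha, hae⟩ := e.inK_idx (S.fixz _ h (e.snd_comm hb))
  refine snd_table.2.2.2.2.2.1 b hb ?_
  have ha' : a < 576 := by simp only [List.mem_cons, List.not_mem_nil, or_false] at ha; omega
  have := e.inj _ (snd_data.1 b hb).1 a ha' hae.symm
  simp only [List.mem_cons, List.not_mem_nil, or_false] at ha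
  omega

theorem invol_conj {s : G} (hs : Commute s (f 6)) (h1 : s ≠ 1) (h2 : s * s = 1) :
    ∃ r ∈ R, r * z * r⁻¹ = s := by
  obtain ⟨r, hr, b, hb, rfl⟩ := S.decomp s hs
  have hb2 : slMul b b = 0 := by
    refine S.mem_of_snd e (sl_lt b hb b hb) ?_
    rw [e.snd_mul hb hb]
    rw [show f (snd b) * f (snd b) = (f (snd b) * r * (f (snd b))⁻¹)⁻¹ * r⁻¹ * ((r * f (snd b)) * (r * f (snd b))) by
      group, h2, mul_one]
    exact mul_mem (inv_mem (S.snd_conj e hb r hr)) (inv_mem hr)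
  rcases sl_sq_one b hb hb2 with rfl | rfl
  · rw [snd_table.2.1, e.one, mul_one] at h1 h2
    exact absurd (eq_one_of_sq (odd_orderOf S.odd hr) h2) h1
  · rw [e.snd_z] at h1 h2 ⊢
    have hzr : z * r * z⁻¹ = r⁻¹ := by
      rw [mul_inv_eq_iff_eq_mul, eq_inv_mul_iff_mul_eq]
      calc r * (z * r) = (r * z * (r * z)) * z⁻¹ := by group
        _ = z := by rw [h2, one_mul, inv_eq_of_mul_eq_one_left e.z_sq]
    obtain ⟨k, hk⟩ := exists_sqrt (odd_orderOf S.odd hr)
    refine ⟨r ^ k, pow_mem hr k, ?_⟩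
    have h3 : z * (r ^ k)⁻¹ = r ^ k * z := by
      refine mul_inv_eq_iff_eq_mul.1 ?_
      rw [← conj_inv, ← conj_pow, hzr, inv_pow, inv_inv]
    rw [mul_assoc, h3, ← mul_assoc, hk]

theorem not_conj {R' : Subgroup G} {d' : ℕ} (S' : Side (fun x => f (swapI x)) z R' d') (g : G) :
    ¬ (g * f 6 * g⁻¹ = f 72 ∨ g * f 6 * g⁻¹ = f 108) := by
  intro h
  have h108 : f 108 = (f 72)⁻¹ :=
    (inv_eq_of_mul_eq_one_right (e.rel0 (by norm_num) (by norm_num) const_data.2.2.2.2.2.2.2.2.1)).symm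
  have hs1 : g * z * g⁻¹ ≠ 1 := fun hh => e.z_ne (conj_eq_one_iff.1 hh)
  have hs2 : g * z * g⁻¹ * (g * z * g⁻¹) = 1 := by
    rw [show g * z * g⁻¹ * (g * z * g⁻¹) = g * (z * z) * g⁻¹ by group, e.z_sq, mul_one, mul_inv_cancel]
  have hc : Commute (g * z * g⁻¹) (f 72) := by
    have h1 := (Commute.conj_iff g).2 (e.comm (show 6 < 576 by norm_num)).symm
    rcases h with h | h <;> rw [h] at h1
    · exact h1
    · rw [h108] at h1; exact Commute.inv_right_iff.1 h1
  obtain ⟨r, hr, hrz⟩ := S'.invol_conj e.swap (by simpa only [swapI_data.2.2.2.1] using hc) hs1 hs2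
  have hr72 : Commute r (f 72) := by simpa only [swapI_data.2.2.2.1] using S'.le r hr
  have hk : Commute (r⁻¹ * g) z := by
    refine mul_inv_eq_iff_eq_mul.1 ?_
    rw [show r⁻¹ * g * z * (r⁻¹ * g)⁻¹ = r⁻¹ * (g * z * g⁻¹) * r by group, ← hrz]; group
  have hcls : ∀ k : ℕ, k < 576 → g * f 6 * g⁻¹ = f k → Commute r (f k) → cls k = 17 → False := by
    intro k hk' hgk hrk h17
    have := e.cls_eq (show 6 < 576 by norm_num) hk' hk (by
      rw [show r⁻¹ * g * f 6 * (r⁻¹ * g)⁻¹ = r⁻¹ * (g * f 6 * g⁻¹) * r by group, hgk, mul_assoc, ← hrk.eq,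
        inv_mul_cancel_left])
    rw [three_cls.2.1, h17] at this
    omega
  rcases h with h | h
  · exact hcls 72 (by norm_num) h hr72 three_cls.2.2.2.1
  · exact hcls 108 (by norm_num) h (h108 ▸ hr72.inv_right) three_cls.2.2.2.2

/-- A 3-element outside R centralises little in R. -/
theorem small_fix {s : G} (hs : Commute s (f 6)) (hsR : s ∉ R) (h3 : ∃ n : ℕ, s ^ 3 ^ n = 1)
    {W : Subgroup G} (hW : W ≤ R) (hc : ∀ x ∈ W, Commute s x) : Nat.card W ≤ 3 * d := by
  haveI : Fact (Nat.Prime 3) := ⟨Nat.prime_three⟩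
  obtain ⟨r, hr, b, hb, rfl⟩ := S.decomp s hs
  have hb0 : b ≠ 0 := by
    rintro rfl
    rw [snd_table.2.1, e.one, mul_one] at hsR
    exact hsR hr
  -- the image has order three
  have hb3 : slMul (slMul b b) b = 0 := by
    obtain ⟨n, hn⟩ := h3
    have key : ∀ m : ℕ, ∃ b', b' < 24 ∧ b' = (Nat.rec 0 (fun _ a => slMul a b) m : ℕ) ∧
        ∃ r' ∈ R, (r * f (snd b)) ^ m = r' * f (snd b') := by
      intro m
      induction m with
      | zero => exact ⟨0, by norm_num, rfl, 1, one_mem _, by rw [pow_zero, snd_table.2.1, e.one, mul_one]⟩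
      | succ m ih =>
        obtain ⟨b', hb', he, r', hr', hp⟩ := ih
        refine ⟨slMul b' b, sl_lt b' hb' b hb, by rw [he], r' * (f (snd b') * r * (f (snd b'))⁻¹),
          mul_mem hr' (S.snd_conj e hb' r hr), ?_⟩
        rw [pow_succ, hp, e.snd_mul hb' hb]
        group
    obtain ⟨b', hb', he, r', hr', hp⟩ := key (3 ^ n)
    rw [hn] at hp
    have h0 : b' = 0 := S.mem_of_snd e hb' (by
      rw [eq_inv_of_mul_eq_one_right hp.symm]; exact inv_mem hr')
    rw [he] at h0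
    have sl3 : ∀ b < 24, (Nat.rec 0 (fun _ a => slMul a b) 3 : ℕ) = slMul (slMul b b) b := by decide +kernel
    have sl27 : ∀ b < 24, ∀ m < 24, (Nat.rec 0 (fun _ a => slMul a b) (m + 24) : ℕ) =
        (Nat.rec 0 (fun _ a => slMul a b) m : ℕ) := by decide +kernel
    have per : ∀ m : ℕ, (Nat.rec 0 (fun _ a => slMul a b) m : ℕ) = (Nat.rec 0 (fun _ a => slMul a b) (m % 24) : ℕ) := by
      intro m
      induction m using Nat.strong_induction_on with
      | _ m ih =>
        by_cases hm : m < 24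
        · rw [Nat.mod_eq_of_lt hm]
        · obtain ⟨j, rfl⟩ : ∃ j, m = j + 24 := ⟨m - 24, by omega⟩
          have step : ∀ j : ℕ, (Nat.rec 0 (fun _ a => slMul a b) (j + 24) : ℕ) =
              (Nat.rec 0 (fun _ a => slMul a b) j : ℕ) := by
            intro j
            induction j with
            | zero => exact sl27 b hb 0 (by norm_num)
            | succ j ihj =>
              show slMul (Nat.rec 0 (fun _ a => slMul a b) (j + 24) : ℕ) b = slMul _ b
              rw [ihj]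
          rw [step j, ih j (by omega), Nat.add_mod_right]
    rw [per] at h0
    have sl : ∀ b < 24, (Nat.rec 0 (fun _ a => slMul a b) 1 : ℕ) = 0 ∨ (Nat.rec 0 (fun _ a => slMul a b) 3 : ℕ) = 0 ∨
        (Nat.rec 0 (fun _ a => slMul a b) 9 : ℕ) ≠ 0 := by decide +kernel
    have hmod : 3 ^ n % 24 = 1 ∨ 3 ^ n % 24 = 3 ∨ 3 ^ n % 24 = 9 := by
      clear hn hp h0 he
      induction n with
      | zero => exact Or.inl rfl
      | succ n ih => rw [pow_succ, Nat.mul_mod]; rcases ih with h | h | h <;> rw [h] <;> decide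
    rcases hmod with h | h | h <;> rw [h] at h0
    · exact absurd ((show ∀ b < 24, (Nat.rec 0 (fun _ a => slMul a b) 1 : ℕ) = b by decide +kernel) b hb ▸ h0) hb0
    · rwa [sl3 b hb] at h0
    · rcases sl b hb with h' | h' | h'
      · exact absurd ((show ∀ b < 24, (Nat.rec 0 (fun _ a => slMul a b) 1 : ℕ) = b by decide +kernel) b hb ▸ h') hb0
      · rwa [sl3 b hb] at h'
      · exact absurd h0 h'
  obtain ⟨c, hc', hce⟩ := snd_table.2.2.2.2.2.2.1 b hb hb0 hb3
  set q := f (snd c)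
  obtain ⟨k, hk⟩ : ∃ k, q * f (snd b) * q⁻¹ = k ∧ (k = f 72 ∨ k = (f 72)⁻¹) := by
    refine ⟨f (snd (slMul (slMul c b) (slInv c))), ?_, ?_⟩
    · rw [← e.snd_inv hc', ← e.snd_mul hc' hb, ← e.snd_mul (sl_lt c hc' b hb) (sl_neg c hc').2.2.1]
    · rcases hce with h | h <;> rw [h]
      · exact Or.inl (by rw [snd_table.2.2.2.1])
      · refine Or.inr ?_
        rw [snd_table.2.2.2.2.1, eq_inv_iff_mul_eq_one, ← e.mul _ (by norm_num) _ (by norm_num), ← e.one]
        exact congrArg f (by decide +kernel)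
  obtain ⟨hqk, hk⟩ := hk
  have hq6 := e.snd_f6 hc'
  set W' := W.map (MulAut.conj q).toMonoidHom with hW'
  have hle : W' ≤ R ⊓ Subgroup.centralizer ({f 72} : Set G) := by
    rintro _ ⟨x, hx, rfl⟩
    have hxR : q * x * q⁻¹ ∈ R := S.conj q (Or.inl hq6) x (hW hx)
    refine Subgroup.mem_inf.2 ⟨hxR, Subgroup.mem_centralizer_singleton_iff.2 ?_⟩
    set r' := q * r * q⁻¹
    have hr' : r' ∈ R := S.conj q (Or.inl hq6) r hr
    have h1 : Commute (r' * k) (q * x * q⁻¹) := by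
      have := (Commute.conj_iff q).2 (hc x hx)
      rwa [show q * (r * f (snd b)) * q⁻¹ = (q * r * q⁻¹) * (q * f (snd b) * q⁻¹) by group, hqk] at this
    have h2 : k * (q * x * q⁻¹) * k⁻¹ = r'⁻¹ * (q * x * q⁻¹) * r' := by
      calc k * (q * x * q⁻¹) * k⁻¹ = r'⁻¹ * ((r' * k) * (q * x * q⁻¹)) * k⁻¹ := by group
        _ = _ := by rw [h1.eq]; group
    have hkz : Commute k z := by
      rcases hk with h | h <;> rw [h]
      exacts [e.comm (by norm_num), (e.comm (by norm_num)).inv_left]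
    have hk6 : k * f 6 * k⁻¹ = f 6 := by
      rw [show k * f 6 = f 6 * k by
        rcases hk with h | h <;> rw [h]
        exacts [e.f6_comm_f72.symm.eq, e.f6_comm_f72.symm.inv_left.eq], mul_inv_cancel_right]
    have h4 := S.commute_of_modK e hkz hk6 hxR (by
      rw [h2]
      have := S.comm _ (inv_mem hxR) _ (inv_mem hr')
      rwa [inv_inv, inv_inv, show (q * x * q⁻¹)⁻¹ * r'⁻¹ * (q * x * q⁻¹) * r' =
        (q * x * q⁻¹)⁻¹ * (r'⁻¹ * (q * x * q⁻¹) * r') by group] at this)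
    rcases hk with h | h <;> rw [h] at h4
    exacts [h4.symm.eq, (Commute.inv_left_iff.1 h4).symm.eq]
  have := Subgroup.card_le_of_le hle
  rwa [hW', Subgroup.card_map_of_injective (MulAut.conj q).injective, S.card_fix e] at this

end Side

/-- Two centralisers with a common Sylow subgroup. -/
structure Duo (f f' : ℕ → G) (z z' : G) (R R' S1 : Subgroup G) : Prop where
  e : Emb f z
  e' : Emb f' z'
  S : Side f z R 9
  S' : Side f' z' R' 9
  card : Nat.card S1 = 729
  le : R ≤ S1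
  le' : R' ≤ S1
  cen : ∀ x ∈ S1, Commute x (f 6)
  cen' : ∀ x ∈ S1, Commute x (f' 6)
  nc : ∀ g : G, ¬ (g * f 6 * g⁻¹ = f' 6 ∨ g * f 6 * g⁻¹ = f' 9)

theorem Duo.symm {f' : ℕ → G} {z' : G} {R R' S1 : Subgroup G} (D : Duo f f' z z' R R' S1) :
    Duo f' f z' z R' R S1 where
  e := D.e'
  e' := D.e
  S := D.S'
  S' := D.S
  card := D.card
  le := D.le'
  le' := D.le
  cen := D.cen'
  cen' := D.cen
  nc g h := by
    rcases h with h | h
    · exact D.nc g⁻¹ (Or.inl (by rw [← h]; group))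
    · refine D.nc g⁻¹ (Or.inr ?_)
      rw [D.e.f9] at h
      rw [D.e'.f9, inv_inv, ← inv_inv (f 6), ← h]
      group

/-- A normal 3-subgroup of a group with Sylow subgroup of order 729 lies in it. -/
theorem le_of_normal [Finite G] {C S1 X : Subgroup G} (hG : Nat.card G = 4245696) (hS : S1 ≤ C)
    (hc : Nat.card S1 = 729) (hX : X ≤ C) {n : ℕ} (hXc : Nat.card X = 3 ^ n)
    (hn : ∀ c ∈ C, ∀ x ∈ X, c * x * c⁻¹ ∈ X) : X ≤ S1 := by
  haveI : Fact (Nat.Prime 3) := ⟨Nat.prime_three⟩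
  haveI hXn : (X.subgroupOf C).Normal := ⟨fun x hx c => hn c.1 c.2 x.1 hx⟩
  have hX' : IsPGroup 3 (X.subgroupOf C) := IsPGroup.of_card (n := n) (by
    rw [Nat.card_congr (Subgroup.subgroupOfEquivOfLe hX).toEquiv, hXc])
  have hS' : IsPGroup 3 (S1.subgroupOf C) := IsPGroup.of_card (n := 6) (by
    rw [Nat.card_congr (Subgroup.subgroupOfEquivOfLe hS).toEquiv, hc]; norm_num)
  obtain ⟨m, hm⟩ := (hS'.to_sup_of_normal_right hX').exists_card_eq
  have hd : Nat.card (S1.subgroupOf C ⊔ X.subgroupOf C : Subgroup C) ∣ 4245696 := by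
    rw [← hG]
    exact (Subgroup.card_subgroup_dvd_card _).trans (Subgroup.card_subgroup_dvd_card C)
  rw [hm] at hd
  have hm6 : m ≤ 6 := by
    by_contra h
    have := (pow_dvd_pow 3 (show 7 ≤ m by omega)).trans hd
    norm_num at this
  have he : S1.subgroupOf C = S1.subgroupOf C ⊔ X.subgroupOf C := by
    refine Subgroup.eq_of_le_of_card_ge le_sup_left ?_
    rw [hm, Nat.card_congr (Subgroup.subgroupOfEquivOfLe hS).toEquiv, hc]
    exact (Nat.pow_le_pow_right (by norm_num) hm6).trans (le_of_eq (by norm_num))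
  intro x hx
  have : (⟨x, hX hx⟩ : C) ∈ S1.subgroupOf C := he ▸ Subgroup.mem_sup_right (show (⟨x, hX hx⟩ : C) ∈ X.subgroupOf C from hx)
  exact this

theorem exists_duo [Finite G] (e : Emb f z) (hG : Nat.card G = 4245696) :
    ∃ (f' : ℕ → G) (z' : G) (R R' S1 : Subgroup G), Duo f f' z z' R R' S1 := by
  haveI : Fact (Nat.Prime 3) := ⟨Nat.prime_three⟩
  obtain ⟨R, d, S⟩ := e.exists_side
  obtain ⟨R2, d2, S2⟩ := e.swap.exists_side
  obtain ⟨rfl, rfl⟩ := S.d_nine e S2 hG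
  obtain ⟨T1, hR1, -, cT1, -, h61⟩ := S.exists_S1 e
  obtain ⟨T2, hR2, -, cT2, -, h62⟩ := S2.exists_S1 e.swap
  rw [S.card] at cT1
  rw [S2.card] at cT2
  have hsyl : ∀ T : Subgroup G, Nat.card T = 729 → ∃ P : Sylow 3 G, (P : Subgroup G) = T := by
    intro T hT
    refine ⟨(IsPGroup.of_card (n := 6) (show Nat.card T = 3 ^ 6 by rw [hT]; norm_num)).toSylow fun hd => ?_, rfl⟩
    obtain ⟨k, hk⟩ := hd
    have := T.card_mul_index
    rw [hT, hk, hG] at this
    omega
  obtain ⟨P1, hP1⟩ := hsyl T1 cT1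
  obtain ⟨P2, hP2⟩ := hsyl T2 cT2
  obtain ⟨g, hg⟩ := MulAction.exists_smul_eq G P2 P1
  have himg : ∀ x ∈ T1, g⁻¹ * x * g ∈ T2 := by
    intro x hx
    rw [← hP1, ← hg, Sylow.coe_subgroup_smul, hP2, Subgroup.mem_pointwise_smul_iff_inv_smul_mem] at hx
    simpa [MulAut.smul_def] using hx
  set f' : ℕ → G := fun x => g * f (swapI x) * g⁻¹ with hf'
  have e' : Emb f' (g * z * g⁻¹) := e.swap.conj g
  obtain ⟨R', d', S'⟩ := e'.exists_side
  obtain ⟨R3, d3, S3⟩ := e'.swap.exists_side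
  obtain ⟨rfl, -⟩ := S'.d_nine e' S3 hG
  have hcen' : ∀ x ∈ T1, Commute x (f' 6) := by
    intro x hx
    have := (Commute.conj_iff g).2 (h62 _ (himg x hx))
    rwa [show g * (g⁻¹ * x * g) * g⁻¹ = x by group] at this
  refine ⟨f', _, R, R', T1, ⟨e, e', S, S', cT1, hR1, ?_, h61, hcen', fun h hh => ?_⟩⟩
  · refine le_of_normal hG (C := Subgroup.centralizer ({f' 6} : Set G)) (n := 5)
      (fun x hx => Subgroup.mem_centralizer_singleton_iff.2 (hcen' x hx).eq) cT1
      (fun x hx => Subgroup.mem_centralizer_singleton_iff.2 (S'.le x hx).eq) (by rw [S'.card]; norm_num)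
      (fun c hc x hx => S'.conj c (Or.inl ?_) x hx)
    rw [Subgroup.mem_centralizer_singleton_iff.1 hc, mul_inv_cancel_right]
  · refine S.not_conj e S2 (g⁻¹ * h) ?_
    have h108 : f (swapI 9) = f 108 := congrArg f (by decide +kernel)
    have h72 : f (swapI 6) = f 72 := congrArg f swapI_data.2.2.2.1
    simp only [hf', h108, h72] at hh
    rcases hh with hh | hh
    · exact Or.inl (by rw [show g⁻¹ * h * f 6 * (g⁻¹ * h)⁻¹ = g⁻¹ * (h * f 6 * h⁻¹) * g by group, hh]; group)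
    · exact Or.inr (by rw [show g⁻¹ * h * f 6 * (g⁻¹ * h)⁻¹ = g⁻¹ * (h * f 6 * h⁻¹) * g by group, hh]; group)

namespace Duo

variable [Finite G] {f' : ℕ → G} {z' : G} {R R' S1 : Subgroup G} (D : Duo f f' z z' R R' S1)
include D

theorem f'6_mem : f' 6 ∈ R ∧ ∀ r ∈ R, Commute r (f' 6) := by
  refine ⟨?_, fun r hr => D.cen' r (D.le hr)⟩
  have hm : f' 6 ∈ S1 := D.le' (D.S'.memK _ (Or.inr (Or.inl rfl)))
  by_contra hnot
  have := D.S.small_fix D.e (D.cen _ hm) hnot ⟨1, by rw [pow_one]; exact D.e'.f6_three⟩ le_rfl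
    fun x hx => (D.cen' x (D.le hx)).symm
  rw [D.S.card] at this
  omega

theorem not_abelian : ¬ ∀ r ∈ R, ∀ s ∈ R, Commute r s := by
  intro hab
  have hR : R = R' := by
    refine Subgroup.eq_of_le_of_card_ge (fun s hs => ?_) (by rw [D.S.card, D.S'.card])
    by_contra hnot
    have h := CfsgLib.Signalizer.card_mul_mul_card_inf R R'
    rw [D.S.card, D.S'.card] at h
    have hsub : Nat.card ↥((R : Set G) * (R' : Set G)) ≤ 729 := by
      rw [← D.card]
      exact Nat.card_le_card_of_injective (fun x => (⟨x.1, by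
        obtain ⟨a, ha, b, hb, he⟩ := x.2
        exact he ▸ mul_mem (D.le ha) (D.le' hb)⟩ : S1)) fun x y h => Subtype.ext (congrArg Subtype.val h :)
    have hle := D.S'.small_fix D.e' (D.cen' s (D.le hs)) hnot ⟨1, by rw [pow_one]; exact D.S.cube s hs⟩
      (inf_le_right : R ⊓ R' ≤ R') fun x hx => hab s hs x (Subgroup.mem_inf.1 hx).1
    have h2 := Nat.mul_le_mul hsub hle
    omega
  have hn : ∀ x ∈ R, z * x * z⁻¹ ∈ R :=
    D.S.conj z (Or.inl (by rw [← (D.e.comm (show 6 < 576 by norm_num)).eq, mul_inv_cancel_right]))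
  have hn' : ∀ x ∈ R, z' * x * z'⁻¹ ∈ R := by
    intro x hx
    rw [hR] at hx ⊢
    exact D.S'.conj z' (Or.inl (by rw [← (D.e'.comm (show 6 < 576 by norm_num)).eq, mul_inv_cancel_right])) x hx
  -- the subgroup inverted by both
  have invSub : ∀ (u : G) (g : ℕ → G) (R0 : Subgroup G), Emb g u → Side g u R0 9 → R0 = R →
      ∃ I : Subgroup G, I ≤ R ∧ Nat.card I = 81 ∧ ∀ x ∈ I, u * x * u⁻¹ = x⁻¹ := by
    intro u g R0 eg Sg hR0
    subst hR0
    let I : Subgroup G :=
      { carrier := {x | x ∈ R0 ∧ u * x * u⁻¹ = x⁻¹}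
        one_mem' := ⟨one_mem _, by group⟩
        mul_mem' := by
          rintro x y ⟨hx, hxu⟩ ⟨hy, hyu⟩
          refine ⟨mul_mem hx hy, ?_⟩
          rw [show u * (x * y) * u⁻¹ = (u * x * u⁻¹) * (u * y * u⁻¹) by group, hxu, hyu, mul_inv_rev,
            (hab x hx y hy).inv_inv.eq]
        inv_mem' := by
          rintro x ⟨hx, hxu⟩
          exact ⟨inv_mem hx, by rw [← conj_inv, hxu]⟩ }
    refine ⟨I, fun x hx => hx.1, ?_, fun x hx => hx.2⟩
    have hn0 : ∀ x ∈ R0, u * x * u⁻¹ ∈ R0 :=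
      Sg.conj u (Or.inl (by rw [← (eg.comm (show 6 < 576 by norm_num)).eq, mul_inv_cancel_right]))
    have h := card_fixed_inverted Sg.odd eg.z_sq hn0
    have hf : Nat.card {c : G // c ∈ R0 ∧ Commute u c} = 3 := by
      rw [← eg.card_K]
      refine Nat.card_congr (Equiv.subtypeEquivRight fun c => ⟨fun h => eg.inK_iff.1 (Sg.fixz c h.1 h.2.symm),
        fun h => ⟨Sg.memK c (eg.inK_iff.2 h), ?_⟩⟩)
      obtain ⟨n, rfl⟩ := Subgroup.mem_zpowers_iff.1 h
      exact ((eg.comm (show 6 < 576 by norm_num)).zpow_left n).symm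
    rw [hf, Sg.card] at h
    show Nat.card {i : G // i ∈ R0 ∧ u * i * u⁻¹ = i⁻¹} = 81
    omega
  obtain ⟨I, hIR, cI, hI⟩ := invSub z f R D.e D.S rfl
  obtain ⟨I', hIR', cI', hI'⟩ := invSub z' f' R' D.e' D.S' hR.symm
  have hW : 27 ≤ Nat.card (I ⊓ I' : Subgroup G) := by
    have h := CfsgLib.Signalizer.card_mul_mul_card_inf I I'
    rw [cI, cI'] at h
    have hsub : Nat.card ↥((I : Set G) * (I' : Set G)) ≤ 243 := by
      rw [show 243 = Nat.card R by rw [D.S.card]]
      exact Nat.card_le_card_of_injective (fun x => (⟨x.1, by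
        obtain ⟨a, ha, b, hb, he⟩ := x.2
        exact he ▸ mul_mem (hIR ha) (hIR' hb)⟩ : R)) fun x y h => Subtype.ext (congrArg Subtype.val h :)
    by_contra hlt
    have := Nat.mul_le_mul hsub (not_le.1 hlt).le
    have : Nat.card (I ⊓ I' : Subgroup G) ≤ 26 := by omega
    have := Nat.mul_le_mul hsub this
    omega
  set w := z * z' with hw
  have hzi : z⁻¹ = z := inv_eq_of_mul_eq_one_left D.e.z_sq
  have hzi' : z'⁻¹ = z' := inv_eq_of_mul_eq_one_left D.e'.z_sq
  have hwW : ∀ x ∈ I ⊓ I', Commute x w := by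
    intro x hx
    refine (mul_inv_eq_iff_eq_mul.1 ?_ : w * x = x * w).symm
    rw [hw, show z * z' * x * (z * z')⁻¹ = z * (z' * x * z'⁻¹) * z⁻¹ by group, hI' x (Subgroup.mem_inf.1 hx).2,
      ← conj_inv, hI x (Subgroup.mem_inf.1 hx).1, inv_inv]
  have hzw : z * w * z⁻¹ = w⁻¹ := by rw [hw, mul_inv_rev, hzi', hzi, ← mul_assoc, D.e.z_sq, one_mul]
  rcases Nat.even_or_odd' (orderOf w) with ⟨k, hk | hk⟩
  · have hk0 : 0 < k := by have := orderOf_pos w; omega
    have hc1 : w ^ k ≠ 1 := fun h => by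
      have := Nat.le_of_dvd hk0 (orderOf_dvd_of_pow_eq_one h); omega
    have hcc : w ^ k * w ^ k = 1 := by rw [← pow_add, ← two_mul, ← hk, pow_orderOf_eq_one]
    have := Nat.le_of_dvd (by norm_num) (D.e.invol_centralized hc1 hcc
      (D.S.odd.of_dvd_nat (Subgroup.card_dvd_of_le (inf_le_left.trans hIR))) fun x hx => (hwW x hx).pow_right k)
    omega
  · set d := w ^ k with hd
    have hconj : d * z * d⁻¹ = z' := by
      have h3 : d * z = z * d⁻¹ := by
        have h4 : z * d⁻¹ * z⁻¹ = d := by rw [← conj_inv, hd, ← conj_pow, hzw, inv_pow, inv_inv]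
        conv_lhs => rw [← h4]
        group
      rw [h3, mul_assoc, ← mul_inv_rev, hd, ← pow_add, show z' = z * w by rw [hw, ← mul_assoc, D.e.z_sq, one_mul]]
      congr 1
      refine inv_eq_of_mul_eq_one_right ?_
      rw [← pow_succ, ← two_mul, ← hk, pow_orderOf_eq_one]
    have hdR : ∀ (m : ℕ), ∀ x ∈ R, w ^ m * x * (w ^ m)⁻¹ ∈ R := by
      intro m
      induction m with
      | zero => intro x hx; simpa using hx
      | succ m ih =>
        intro x hx
        rw [show w ^ (m + 1) * x * (w ^ (m + 1))⁻¹ = w ^ m * (z * (z' * x * z'⁻¹) * z⁻¹) * (w ^ m)⁻¹ by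
          rw [pow_succ, hw]; group]
        exact ih _ (hn _ (hn' x hx))
    have hm : d * f 6 * d⁻¹ ∈ R' := hR ▸ hdR k _ (D.S.memK _ (Or.inr (Or.inl rfl)))
    have hc := (Commute.conj_iff d).2 (D.e.comm (show 6 < 576 by norm_num))
    rw [hconj] at hc
    rcases D.S'.fixz _ hm hc with h | h | h
    · exact D.e.f6_ne (conj_eq_one_iff.1 h)
    · exact D.nc d (Or.inl h)
    · exact D.nc d (Or.inr h)

end Duo

end CfsgG23Two
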